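import Groth.Prelude.Def_FibCat2

/-! Equivalences of categories over a base: recognition and two-out-of-three. -/

set_option autoImplicit false
set_option backward.isDefEq.respectTransparency false
set_option backward.isDefEq.respectTransparency.types false

universe v₅ u₅ v₄ u₄ v₃ u₃ v₂ u₂ v u

open CategoryTheory FibCat

namespace Groth.Agent.Stk19

variable {C : Type u} [Category.{v} C]

section Vertical

variable {𝒳 : Type u₂} [Category.{v₂} 𝒳] (p : 𝒳 ⥤ C)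

/-- A morphism lies over an identity iff its image is an `eqToHom`. -/
theorem vert_iff {a b : 𝒳} {R : C} (φ : a ⟶ b) :
    p.IsHomLift (𝟙 R) φ ↔ p.obj a = R ∧ ∃ h : p.obj a = p.obj b, p.map φ = eqToHom h := by
  constructor
  · intro _
    have h1 := IsHomLift.domain_eq p (𝟙 R) φ
    have h2 := IsHomLift.codomain_eq p (𝟙 R) φ
    exact ⟨h1, h1.trans h2.symm, by simpa using IsHomLift.fac' p (𝟙 R) φ⟩
  · rintro ⟨h1, h, hφ⟩
    exact IsHomLift.of_fac' p _ _ h1 (h.symm.trans h1) (by simp [hφ])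

theorem vert_of_map_eq {a b : 𝒳} {φ : a ⟶ b} {h : p.obj a = p.obj b} (hφ : p.map φ = eqToHom h) :
    p.IsHomLift (𝟙 (p.obj a)) φ :=
  (vert_iff p φ).2 ⟨rfl, h, hφ⟩

theorem map_eq_of_vert {a b : 𝒳} {R : C} (φ : a ⟶ b) [p.IsHomLift (𝟙 R) φ] :
    p.map φ = eqToHom ((IsHomLift.domain_eq p (𝟙 R) φ).trans (IsHomLift.codomain_eq p (𝟙 R) φ).symm) := by
  simpa using IsHomLift.fac' p (𝟙 R) φ

theorem vert_comp {a b c : 𝒳} {R : C} (φ : a ⟶ b) (ψ : b ⟶ c) (h₁ : p.IsHomLift (𝟙 R) φ)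
    (h₂ : p.IsHomLift (𝟙 R) ψ) : p.IsHomLift (𝟙 R) (φ ≫ ψ) := inferInstance

theorem vert_inv {a b : 𝒳} {R : C} (e : a ≅ b) (h : p.IsHomLift (𝟙 R) e.hom) :
    p.IsHomLift (𝟙 R) e.inv := inferInstance

theorem vert_change {a b : 𝒳} {R R' : C} (φ : a ⟶ b) (h : p.IsHomLift (𝟙 R) φ) (e : p.obj a = R') :
    p.IsHomLift (𝟙 R') φ := by
  obtain ⟨-, h', hφ⟩ := (vert_iff p φ).1 h
  exact (vert_iff p φ).2 ⟨e, h', hφ⟩

theorem eq_of_vert {a b : 𝒳} {R : C} (φ : a ⟶ b) (h : p.IsHomLift (𝟙 R) φ) : p.obj a = p.obj b :=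
  (IsHomLift.domain_eq p (𝟙 R) φ).trans (IsHomLift.codomain_eq p (𝟙 R) φ).symm

end Vertical

variable {𝒳 : BasedCategory.{v₂, u₂} C} {𝒴 : BasedCategory.{v₃, u₃} C} {𝒵 : BasedCategory.{v₄, u₄} C}

theorem based_map (F : 𝒳 ⥤ᵇ 𝒴) {a b : 𝒳.obj} (φ : a ⟶ b) :
    𝒴.p.map (F.map φ) = eqToHom (F.w_obj a) ≫ 𝒳.p.map φ ≫ eqToHom (F.w_obj b).symm :=
  Functor.congr_hom F.w φ

theorem based_map_back (F : 𝒳 ⥤ᵇ 𝒴) {a b : 𝒳.obj} (φ : a ⟶ b) :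
    𝒳.p.map φ = eqToHom (F.w_obj a).symm ≫ 𝒴.p.map (F.map φ) ≫ eqToHom (F.w_obj b) := by
  simp [based_map F φ]

theorem based_app_map {F G : 𝒳 ⥤ᵇ 𝒴} (α : F ⟶ G) (a : 𝒳.obj) :
    𝒴.p.map (α.toNatTrans.app a) = eqToHom ((F.w_obj a).trans (G.w_obj a).symm) := by
  have := α.isHomLift' a
  exact map_eq_of_vert 𝒴.p (R := 𝒳.p.obj a) _

theorem based_app_vert {F G : 𝒳 ⥤ᵇ 𝒴} (α : F ⟶ G) (a : 𝒳.obj) :
    𝒴.p.IsHomLift (𝟙 (𝒴.p.obj (F.obj a))) (α.toNatTrans.app a) :=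
  α.isHomLift (F.w_obj a).symm

theorem based_ext {F G : 𝒳 ⥤ᵇ 𝒴} (h : F.toFunctor = G.toFunctor) : F = G := by
  obtain ⟨_, _⟩ := F; obtain ⟨_, _⟩ := G; cases h; rfl

/-- Components of a 2-isomorphism as isomorphisms. -/
@[simps]
def appIso {F G : 𝒳 ⥤ᵇ 𝒴} (e : F ≅ G) (a : 𝒳.obj) : F.obj a ≅ G.obj a where
  hom := e.hom.toNatTrans.app a
  inv := e.inv.toNatTrans.app a
  hom_inv_id := congrArg (fun t => t.app a) (congrArg BasedNatTrans.toNatTrans e.hom_inv_id)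
  inv_hom_id := congrArg (fun t => t.app a) (congrArg BasedNatTrans.toNatTrans e.inv_hom_id)

/-- A natural family of vertical isomorphisms gives a 2-isomorphism. -/
def isoMk {F G : 𝒳 ⥤ᵇ 𝒴} (app : ∀ a, F.obj a ≅ G.obj a)
    (hv : ∀ a, 𝒴.p.IsHomLift (𝟙 (𝒴.p.obj (F.obj a))) (app a).hom)
    (nat : ∀ {a b : 𝒳.obj} (φ : a ⟶ b), F.map φ ≫ (app b).hom = (app a).hom ≫ G.map φ) : F ≅ G :=
  BasedNatIso.mkNatIso (NatIso.ofComponents app (fun φ => nat φ))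
    (fun a => vert_change 𝒴.p _ (hv a) (F.w_obj a))

@[simp]
theorem isoMk_hom_app {F G : 𝒳 ⥤ᵇ 𝒴} (app : ∀ a, F.obj a ≅ G.obj a)
    (hv : ∀ a, 𝒴.p.IsHomLift (𝟙 (𝒴.p.obj (F.obj a))) (app a).hom)
    (nat : ∀ {a b : 𝒳.obj} (φ : a ⟶ b), F.map φ ≫ (app b).hom = (app a).hom ≫ G.map φ) (a : 𝒳.obj) :
    (isoMk app hv nat).hom.toNatTrans.app a = (app a).hom := rfl

@[simp]
theorem isoMk_inv_app {F G : 𝒳 ⥤ᵇ 𝒴} (app : ∀ a, F.obj a ≅ G.obj a)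
    (hv : ∀ a, 𝒴.p.IsHomLift (𝟙 (𝒴.p.obj (F.obj a))) (app a).hom)
    (nat : ∀ {a b : 𝒳.obj} (φ : a ⟶ b), F.map φ ≫ (app b).hom = (app a).hom ≫ G.map φ) (a : 𝒳.obj) :
    (isoMk app hv nat).inv.toNatTrans.app a = (app a).inv := rfl

/-- The recognition criterion: fully faithful and vertically essentially surjective. -/
structure EqvData (F : 𝒳 ⥤ᵇ 𝒴) : Prop where
  full : F.toFunctor.Full
  faithful : F.toFunctor.Faithful
  surj : ∀ η : 𝒴.obj, ∃ (ξ : 𝒳.obj) (e : F.obj ξ ≅ η), 𝒴.p.IsHomLift (𝟙 (𝒴.p.obj η)) e.hom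

theorem EqvData.of_isEquivOver {F : 𝒳 ⥤ᵇ 𝒴} (h : IsEquivOver F) : EqvData F := by
  obtain ⟨G, ⟨u⟩, ⟨c⟩⟩ := h
  let U : F.toFunctor ⋙ G.toFunctor ≅ 𝟭 𝒳.obj := (BasedNatTrans.forgetful _ _).mapIso u
  let V : G.toFunctor ⋙ F.toFunctor ≅ 𝟭 𝒴.obj := (BasedNatTrans.forgetful _ _).mapIso c
  let E : 𝒳.obj ≌ 𝒴.obj := CategoryTheory.Equivalence.mk F.toFunctor G.toFunctor U.symm V
  exact ⟨inferInstanceAs E.functor.Full, inferInstanceAs E.functor.Faithful,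
    fun η => ⟨G.obj η, appIso c η, c.hom.isHomLift rfl⟩⟩

/-- Build an inverse over the base. -/
theorem EqvData.isEquivOver {F : 𝒳 ⥤ᵇ 𝒴} (h : EqvData F) : IsEquivOver F := by
  obtain ⟨_, _, hs⟩ := h
  choose ξ e he using hs
  have hξ : ∀ η, 𝒳.p.obj (ξ η) = 𝒴.p.obj η := fun η =>
    (F.w_obj (ξ η)).symm.trans (IsHomLift.domain_eq 𝒴.p (𝟙 (𝒴.p.obj η)) (e η).hom)
  have hem : ∀ η, 𝒴.p.map (e η).hom = eqToHom ((F.w_obj (ξ η)).trans (hξ η)) :=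
    fun η => map_eq_of_vert 𝒴.p (R := 𝒴.p.obj η) _
  have hei : ∀ η, 𝒴.p.map (e η).inv = eqToHom ((F.w_obj (ξ η)).trans (hξ η)).symm := by
    intro η
    rw [← cancel_mono (𝒴.p.map (e η).hom), ← 𝒴.p.map_comp, Iso.inv_hom_id, hem, eqToHom_trans]
    simp
  let Gf : 𝒴.obj ⥤ 𝒳.obj :=
    { obj := ξ
      map := fun {η η'} g => F.toFunctor.preimage ((e η).hom ≫ g ≫ (e η').inv)
      map_id := fun η => F.toFunctor.map_injective (by simp)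
      map_comp := fun g g' => F.toFunctor.map_injective (by simp) }
  have hGmap : ∀ {η η'} (g : η ⟶ η'), F.map (Gf.map g) = (e η).hom ≫ g ≫ (e η').inv :=
    fun g => F.toFunctor.map_preimage _
  let G : 𝒴 ⥤ᵇ 𝒳 :=
    { toFunctor := Gf
      w := CategoryTheory.Functor.ext hξ fun η η' g => by
        dsimp only [Functor.comp_map, Functor.comp_obj]
        rw [based_map_back F, hGmap, 𝒴.p.map_comp, 𝒴.p.map_comp, hem, hei]
        simp }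
  refine ⟨G, ⟨?_⟩, ⟨isoMk e (fun η => vert_change 𝒴.p _ (he η) rfl) fun g => ?_⟩⟩
  · refine isoMk (fun x => F.toFunctor.preimageIso (e (F.obj x))) (fun x => ?_) fun φ => ?_
    · refine vert_of_map_eq 𝒳.p (h := (hξ _).trans (F.w_obj x)) ?_
      show 𝒳.p.map (F.toFunctor.preimage (X := ξ (F.obj x)) (Y := x) (e (F.obj x)).hom) = _
      rw [based_map_back F, Functor.map_preimage, hem, eqToHom_trans, eqToHom_trans]
    · refine F.toFunctor.map_injective ?_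
      simp only [Functor.map_comp, Functor.preimageIso_hom, Functor.map_preimage]
      show F.map (Gf.map (F.map φ)) ≫ _ = _ ≫ F.map φ
      rw [hGmap]; simp
  · show F.map (Gf.map g) ≫ _ = _ ≫ g
    rw [hGmap]; simp

theorem isEquivOver_iff (F : 𝒳 ⥤ᵇ 𝒴) : IsEquivOver F ↔ EqvData F :=
  ⟨EqvData.of_isEquivOver, EqvData.isEquivOver⟩

theorem isEquivalence_of_isEquivOver {F : 𝒳 ⥤ᵇ 𝒴} (h : IsEquivOver F) :
    F.toFunctor.IsEquivalence := by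
  obtain ⟨h1, h2, h3⟩ := EqvData.of_isEquivOver h
  exact { essSurj := ⟨fun η => (h3 η).elim fun ξ ⟨e, _⟩ => ⟨ξ, ⟨e⟩⟩⟩ }

theorem isEquivOver_id (𝒳 : BasedCategory.{v₂, u₂} C) : IsEquivOver (BasedFunctor.id 𝒳) :=
  ⟨BasedFunctor.id 𝒳, ⟨Iso.refl _⟩, ⟨Iso.refl _⟩⟩

theorem isEquivOver_of_iso {F F' : 𝒳 ⥤ᵇ 𝒴} (e : F ≅ F') (h : IsEquivOver F) : IsEquivOver F' := by
  obtain ⟨h1, h2, h3⟩ := EqvData.of_isEquivOver h
  let en : F.toFunctor ≅ F'.toFunctor := (BasedNatTrans.forgetful _ _).mapIso e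
  refine EqvData.isEquivOver ⟨Functor.Full.of_iso en, Functor.Faithful.of_iso en, fun η => ?_⟩
  obtain ⟨ξ, i, hi⟩ := h3 η
  refine ⟨ξ, (appIso e ξ).symm ≪≫ i, ?_⟩
  have hd : 𝒴.p.obj (F.obj ξ) = 𝒴.p.obj η := IsHomLift.domain_eq 𝒴.p (𝟙 (𝒴.p.obj η)) i.hom
  exact vert_comp 𝒴.p _ _ (e.inv.isHomLift ((F.w_obj ξ).symm.trans hd)) hi

theorem isEquivOver_comp {F : 𝒳 ⥤ᵇ 𝒴} {G : 𝒴 ⥤ᵇ 𝒵} (hF : IsEquivOver F) (hG : IsEquivOver G) :
    IsEquivOver (BasedFunctor.comp F G) := by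
  obtain ⟨f1, f2, f3⟩ := EqvData.of_isEquivOver hF
  obtain ⟨g1, g2, g3⟩ := EqvData.of_isEquivOver hG
  refine EqvData.isEquivOver ⟨inferInstanceAs (F.toFunctor ⋙ G.toFunctor).Full,
    inferInstanceAs (F.toFunctor ⋙ G.toFunctor).Faithful, fun ζ => ?_⟩
  obtain ⟨η, j, hj⟩ := g3 ζ
  obtain ⟨ξ, i, hi⟩ := f3 η
  refine ⟨ξ, G.toFunctor.mapIso i ≪≫ j, ?_⟩
  have hd : 𝒴.p.obj η = 𝒵.p.obj ζ :=
    (G.w_obj η).symm.trans (IsHomLift.domain_eq 𝒵.p (𝟙 (𝒵.p.obj ζ)) j.hom)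
  rw [hd] at hi
  exact vert_comp 𝒵.p _ _ (inferInstanceAs (𝒵.p.IsHomLift (𝟙 (𝒵.p.obj ζ)) (G.map i.hom))) hj

/-- A chosen inverse, with both 2-isomorphisms. -/
theorem exists_inverse {F : 𝒳 ⥤ᵇ 𝒴} (h : IsEquivOver F) :
    ∃ G : 𝒴 ⥤ᵇ 𝒳, IsEquivOver G ∧ Nonempty (BasedFunctor.comp F G ≅ BasedFunctor.id 𝒳) ∧
      Nonempty (BasedFunctor.comp G F ≅ BasedFunctor.id 𝒴) := by
  obtain ⟨G, u, c⟩ := h
  exact ⟨G, ⟨F, c, u⟩, u, c⟩

theorem isEquivOver_of_comp_left {F : 𝒳 ⥤ᵇ 𝒴} {G : 𝒴 ⥤ᵇ 𝒵} (hF : IsEquivOver F)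
    (h : IsEquivOver (BasedFunctor.comp F G)) : IsEquivOver G := by
  obtain ⟨F', hF', -, ⟨c⟩⟩ := exists_inverse hF
  exact isEquivOver_of_iso
    (isoMk (F := BasedFunctor.comp F' (BasedFunctor.comp F G)) (G := G) (fun a => G.toFunctor.mapIso (appIso c a))
      (fun a => by
        show 𝒵.p.IsHomLift (𝟙 (𝒵.p.obj (G.obj (F.obj (F'.obj a))))) _
        rw [G.w_obj]
        have : 𝒴.p.IsHomLift (𝟙 (𝒴.p.obj (F.obj (F'.obj a)))) (c.hom.toNatTrans.app a) := based_app_vert c.hom a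
        exact inferInstanceAs (𝒵.p.IsHomLift _ (G.map (c.hom.toNatTrans.app a))))
      (fun φ => by
        change G.map (F.map (F'.map φ)) ≫ G.map (c.hom.toNatTrans.app _) =
          G.map (c.hom.toNatTrans.app _) ≫ G.map φ
        rw [← G.toFunctor.map_comp, ← G.toFunctor.map_comp]
        exact congrArg G.map (c.hom.toNatTrans.naturality φ)))
    (isEquivOver_comp hF' h)

theorem isEquivOver_of_comp_right {F : 𝒳 ⥤ᵇ 𝒴} {G : 𝒴 ⥤ᵇ 𝒵} (hG : IsEquivOver G)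
    (h : IsEquivOver (BasedFunctor.comp F G)) : IsEquivOver F := by
  obtain ⟨G', hG', ⟨u⟩, -⟩ := exists_inverse hG
  exact isEquivOver_of_iso
    (isoMk (F := BasedFunctor.comp (BasedFunctor.comp F G) G') (G := F)
      (fun a => appIso u (F.obj a)) (fun a => based_app_vert u.hom (F.obj a))
      (fun φ => u.hom.toNatTrans.naturality (F.map φ)))
    (isEquivOver_comp h hG')

end Groth.Agent.Stk19
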