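import Groth.Prelude.Def_FibCat2
import Groth.Agent.Desc19.Cartesian
import Groth.Agent.Stk19.Equiv

/-! Categories fibred in groupoids, fibre categories and equivalences over the base. -/

set_option autoImplicit false
set_option backward.isDefEq.respectTransparency false
set_option backward.isDefEq.respectTransparency.types false

universe v₅ u₅ v₄ u₄ v₃ u₃ v₂ u₂ v u

open CategoryTheory FibCat Groth.Agent.Desc19

namespace Groth.Agent.Stk19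

variable {C : Type u} [Category.{v} C]

section Plain

variable {𝒳 : Type u₂} [Category.{v₂} 𝒳] {p : 𝒳 ⥤ C}

theorem fibGrpd_lift (h : IsFibGrpd p) (x : 𝒳) {V : C} (f : V ⟶ p.obj x) :
    ∃ (y : 𝒳) (φ : y ⟶ x) (e : p.obj y = V), p.map φ = eqToHom e ≫ f := by
  obtain ⟨y, φ, hφ⟩ := h.exists_lift f
  exact ⟨y, φ, IsHomLift.domain_eq p f φ, by simpa using IsHomLift.fac' p f φ⟩

theorem fibGrpd_fac (h : IsFibGrpd p) {x y z : 𝒳} (φ : y ⟶ x) (ψ : z ⟶ x) (g : p.obj z ⟶ p.obj y)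
    (hg : g ≫ p.map φ = p.map ψ) : ∃! χ : z ⟶ y, p.map χ = g ∧ χ ≫ φ = ψ :=
  have := h.isStronglyCartesian φ
  sc_spec p φ ψ g hg

theorem fibGrpd_ext (h : IsFibGrpd p) {x y z : 𝒳} (φ : y ⟶ x) {χ χ' : z ⟶ y}
    (h1 : p.map χ = p.map χ') (h2 : χ ≫ φ = χ' ≫ φ) : χ = χ' :=
  have := h.isStronglyCartesian φ
  sc_ext p φ h1 h2

theorem fibGrpd_mk
    (lift : ∀ (x : 𝒳) {V : C} (f : V ⟶ p.obj x),
      ∃ (y : 𝒳) (φ : y ⟶ x) (e : p.obj y = V), p.map φ = eqToHom e ≫ f)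
    (fac : ∀ {x y z : 𝒳} (φ : y ⟶ x) (ψ : z ⟶ x) (g : p.obj z ⟶ p.obj y),
      g ≫ p.map φ = p.map ψ → ∃! χ : z ⟶ y, p.map χ = g ∧ χ ≫ φ = ψ) : IsFibGrpd p where
  exists_lift {x V} f := by
    obtain ⟨y, φ, e, hφ⟩ := lift x f
    exact ⟨y, φ, IsHomLift.of_fac' p f φ e rfl (by simpa using hφ)⟩
  isStronglyCartesian φ := sc_mk p φ fun _ ψ g hg => fac φ ψ g hg

theorem fibGrpd_isIso (h : IsFibGrpd p) {x y : 𝒳} (φ : x ⟶ y) [IsIso (p.map φ)] : IsIso φ :=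
  have := h.isStronglyCartesian φ
  Functor.IsStronglyCartesian.isIso_of_base_isIso p (p.map φ) φ

theorem fibGrpd_isIso_vert (h : IsFibGrpd p) {x y : 𝒳} {R : C} (φ : x ⟶ y) [p.IsHomLift (𝟙 R) φ] :
    IsIso φ :=
  have : IsIso (p.map φ) := by rw [map_eq_of_vert p (R := R) φ]; infer_instance
  fibGrpd_isIso h φ

theorem fibGrpd_isFibered (h : IsFibGrpd p) : p.IsFibered :=
  isFibered_mk p fun a R f => by
    obtain ⟨b, φ, hφ⟩ := h.exists_lift f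
    exact ⟨b, φ, hφ, h.isStronglyCartesian φ⟩

theorem fibGrpd_of_groupoid_fibers [p.IsFibered] (hg : ∀ U : C, IsGroupoid (p.Fiber U)) :
    IsFibGrpd p where
  exists_lift {x V} f := by
    obtain ⟨b, φ, h1, -⟩ := exists_sc_lift p x V f
    exact ⟨b, φ, h1⟩
  isStronglyCartesian {y x} φ := by
    obtain ⟨b, χ, h1, h2⟩ := exists_sc_lift p x (p.obj y) (p.map φ)
    have hd := IsHomLift.domain_eq p (p.map φ) χ
    have hm : p.map χ = eqToHom hd ≫ p.map φ := by simpa using IsHomLift.fac' p (p.map φ) χ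
    obtain ⟨σ, ⟨hσ1, hσ2⟩, -⟩ := sc_spec p χ φ (eqToHom hd.symm) (by simp [hm])
    have hv : p.IsHomLift (𝟙 (p.obj y)) σ := vert_of_map_eq p hσ1
    have := hg (p.obj y)
    have : IsIso (Functor.Fiber.homMk p (p.obj y) σ) := IsGroupoid.all_isIso _
    have hi : IsIso σ := inferInstanceAs
      (IsIso (Functor.Fiber.fiberInclusion.map (Functor.Fiber.homMk p (p.obj y) σ)))
    have h3 : p.IsStronglyCartesian (p.map σ) σ := Functor.IsStronglyCartesian.of_isIso p _ σ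
    have h4 : p.IsStronglyCartesian (p.map σ ≫ p.map χ) (σ ≫ χ) := inferInstance
    rwa [← p.map_comp, hσ2] at h4

theorem fibGrpd_iff :
    IsFibGrpd p ↔ (p.IsFibered ∧ ∀ U : C, IsGroupoid (p.Fiber U)) := by
  refine ⟨fun h => ⟨fibGrpd_isFibered h, fun U => ⟨fun {a b} f => ?_⟩⟩,
    fun ⟨h1, h2⟩ => fibGrpd_of_groupoid_fibers h2⟩
  have : p.IsHomLift (𝟙 U) f.1 := f.2
  have := fibGrpd_isIso_vert h (R := U) f.1
  refine ⟨⟨⟨inv f.1, inferInstance⟩, ?_, ?_⟩⟩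
  · apply Functor.Fiber.hom_ext; exact IsIso.hom_inv_id f.1
  · apply Functor.Fiber.hom_ext; exact IsIso.inv_hom_id f.1

theorem sc_of_sc_map (p : 𝒳 ⥤ C) {R S : C} {a b : 𝒳} (f : R ⟶ S) (φ : a ⟶ b) [p.IsHomLift f φ]
    (h : p.IsStronglyCartesian (p.map φ) φ) : p.IsStronglyCartesian f φ := by
  obtain rfl := IsHomLift.domain_eq p f φ
  obtain rfl := IsHomLift.codomain_eq p f φ
  obtain rfl := (IsHomLift.eq_of_isHomLift p f φ)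
  exact h

end Plain

variable {𝒳 : BasedCategory.{v₂, u₂} C} {𝒴 : BasedCategory.{v₃, u₃} C}

/-- A fully faithful based functor reflects strong cartesianness. -/
theorem sc_of_map_sc (F : 𝒳 ⥤ᵇ 𝒴) [F.toFunctor.Full] [F.toFunctor.Faithful] {a b : 𝒳.obj} (φ : a ⟶ b)
    (h : 𝒴.p.IsStronglyCartesian (𝒴.p.map (F.map φ)) (F.map φ)) :
    𝒳.p.IsStronglyCartesian (𝒳.p.map φ) φ := by
  refine sc_mk 𝒳.p φ fun z ψ g hg => ?_
  obtain ⟨χ, ⟨h1, h2⟩, hu⟩ := sc_spec 𝒴.p (F.map φ) (F.map ψ)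
    (eqToHom (F.w_obj z) ≫ g ≫ eqToHom (F.w_obj a).symm) (by simp [based_map F, reassoc_of% hg])
  refine ⟨F.toFunctor.preimage χ, ⟨?_, F.toFunctor.map_injective (by simp [h2])⟩, ?_⟩
  · rw [based_map_back F]
    simp [h1]
  · rintro χ' ⟨h3, h4⟩
    apply F.toFunctor.map_injective
    rw [Functor.map_preimage]
    exact hu _ ⟨by simp [based_map F, h3], by rw [← F.toFunctor.map_comp, h4]⟩

/-- An equivalence over the base preserves strong cartesianness. -/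
theorem sc_map {F : 𝒳 ⥤ᵇ 𝒴} (hF : IsEquivOver F) {a b : 𝒳.obj} (φ : a ⟶ b)
    (h : 𝒳.p.IsStronglyCartesian (𝒳.p.map φ) φ) :
    𝒴.p.IsStronglyCartesian (𝒴.p.map (F.map φ)) (F.map φ) := by
  obtain ⟨h1, h2, h3⟩ := EqvData.of_isEquivOver hF
  refine sc_mk 𝒴.p _ fun z ψ g hg => ?_
  obtain ⟨ξ, e, he⟩ := h3 z
  have hem := map_eq_of_vert 𝒴.p (R := 𝒴.p.obj z) e.hom
  have hd : 𝒳.p.obj ξ = 𝒴.p.obj z := (F.w_obj ξ).symm.trans (IsHomLift.domain_eq 𝒴.p (𝟙 (𝒴.p.obj z)) e.hom)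
  have hpre : 𝒳.p.map (F.toFunctor.preimage (e.hom ≫ ψ)) = eqToHom hd ≫ 𝒴.p.map ψ ≫ eqToHom (F.w_obj b) := by
    rw [based_map_back F, Functor.map_preimage, 𝒴.p.map_comp, hem]
    simp
  obtain ⟨χ, ⟨c1, c2⟩, hu⟩ := sc_spec 𝒳.p φ (F.toFunctor.preimage (e.hom ≫ ψ))
    (eqToHom hd ≫ g ≫ eqToHom (F.w_obj a)) (by
      rw [hpre]; simp [based_map_back F φ, reassoc_of% hg])
  refine ⟨e.inv ≫ F.map χ, ⟨?_, ?_⟩, ?_⟩
  · rw [← cancel_epi (𝒴.p.map e.hom), ← 𝒴.p.map_comp, Iso.hom_inv_id_assoc, based_map F, c1, hem]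
    simp
  · rw [Category.assoc, ← F.toFunctor.map_comp, c2, Functor.map_preimage, Iso.inv_hom_id_assoc]
  · rintro χ' ⟨d1, d2⟩
    obtain ⟨π, hπ⟩ := F.toFunctor.map_surjective (e.hom ≫ χ')
    have : π = χ := hu _ ⟨by rw [based_map_back F, hπ, 𝒴.p.map_comp, d1, hem]; simp,
      F.toFunctor.map_injective (by simp [hπ, d2])⟩
    rw [← this, hπ, Iso.inv_hom_id_assoc]

/-- Being fibred in groupoids passes to equivalent categories over the base. -/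
theorem fibGrpd_of_equiv {F : 𝒳 ⥤ᵇ 𝒴} (hF : IsEquivOver F) (h : IsFibGrpd 𝒴.p) : IsFibGrpd 𝒳.p where
  exists_lift {x V} f := by
    obtain ⟨h1, h2, h3⟩ := EqvData.of_isEquivOver hF
    obtain ⟨y, φ, e, hφ⟩ := fibGrpd_lift h (F.obj x) (f ≫ eqToHom (F.w_obj x).symm)
    obtain ⟨ξ, i, hi⟩ := h3 y
    have hd : 𝒳.p.obj ξ = 𝒴.p.obj y := (F.w_obj ξ).symm.trans (IsHomLift.domain_eq 𝒴.p (𝟙 (𝒴.p.obj y)) i.hom)
    refine ⟨ξ, F.toFunctor.preimage (i.hom ≫ φ), IsHomLift.of_fac' 𝒳.p f _ (hd.trans e) rfl ?_⟩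
    rw [based_map_back F, Functor.map_preimage, 𝒴.p.map_comp, hφ, map_eq_of_vert 𝒴.p (R := 𝒴.p.obj y) i.hom]
    simp
  isStronglyCartesian φ := by
    obtain ⟨h1, h2, -⟩ := EqvData.of_isEquivOver hF
    exact sc_of_map_sc F φ (h.isStronglyCartesian _)

theorem fibGrpd_iff_of_equiv {F : 𝒳 ⥤ᵇ 𝒴} (hF : IsEquivOver F) : IsFibGrpd 𝒳.p ↔ IsFibGrpd 𝒴.p := by
  obtain ⟨G, hG, -, -⟩ := exists_inverse hF
  exact ⟨fibGrpd_of_equiv hG, fibGrpd_of_equiv hF⟩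

theorem isFibered_of_equiv {F : 𝒳 ⥤ᵇ 𝒴} (hF : IsEquivOver F) [𝒴.p.IsFibered] : 𝒳.p.IsFibered := by
  obtain ⟨h1, h2, h3⟩ := EqvData.of_isEquivOver hF
  refine isFibered_mk 𝒳.p fun x V f => ?_
  obtain ⟨y, φ, hl, hsc⟩ := exists_sc_lift 𝒴.p (F.obj x) V (f ≫ eqToHom (F.w_obj x).symm)
  obtain ⟨ξ, i, hi⟩ := h3 y
  have e := IsHomLift.domain_eq 𝒴.p (f ≫ eqToHom (F.w_obj x).symm) φ
  have hφ := IsHomLift.fac' 𝒴.p (f ≫ eqToHom (F.w_obj x).symm) φ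
  have hd : 𝒳.p.obj ξ = 𝒴.p.obj y := (F.w_obj ξ).symm.trans (IsHomLift.domain_eq 𝒴.p (𝟙 (𝒴.p.obj y)) i.hom)
  refine ⟨ξ, F.toFunctor.preimage (i.hom ≫ φ), IsHomLift.of_fac' 𝒳.p f _ (hd.trans e) rfl ?_, sc_of_map_sc F _ ?_⟩
  · rw [based_map_back F, Functor.map_preimage, 𝒴.p.map_comp, hφ, map_eq_of_vert 𝒴.p (R := 𝒴.p.obj y) i.hom]
    simp
  · rw [Functor.map_preimage, 𝒴.p.map_comp]
    have : 𝒴.p.IsStronglyCartesian (𝒴.p.map i.hom) i.hom := inferInstance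
    infer_instance

theorem isFibered_iff_of_equiv {F : 𝒳 ⥤ᵇ 𝒴} (hF : IsEquivOver F) : 𝒳.p.IsFibered ↔ 𝒴.p.IsFibered := by
  obtain ⟨G, hG, -, -⟩ := exists_inverse hF
  exact ⟨fun _ => isFibered_of_equiv hG, fun _ => isFibered_of_equiv hF⟩

/-- Fibre-wise bijectivity on vertical morphisms gives full faithfulness. -/
theorem fullyFaithful_of_vert [𝒳.p.IsFibered] (G : 𝒳 ⥤ᵇ 𝒴)
    (hG : ∀ ⦃a b : 𝒳.obj⦄ (φ : a ⟶ b), 𝒳.p.IsStronglyCartesian (𝒳.p.map φ) φ →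
      𝒴.p.IsStronglyCartesian (𝒴.p.map (G.map φ)) (G.map φ))
    (h : ∀ (a b : 𝒳.obj) (e : 𝒳.p.obj a = 𝒳.p.obj b) (θ : G.obj a ⟶ G.obj b),
      𝒴.p.map θ = eqToHom (by rw [G.w_obj, G.w_obj, e]) → ∃! σ : a ⟶ b, 𝒳.p.map σ = eqToHom e ∧ G.map σ = θ) :
    G.toFunctor.Full ∧ G.toFunctor.Faithful := by
  have main : ∀ (x x' : 𝒳.obj) (ψ : G.obj x ⟶ G.obj x'), ∃! χ : x ⟶ x', G.map χ = ψ := by
    intro x x' ψ
    let f : 𝒳.p.obj x ⟶ 𝒳.p.obj x' := eqToHom (G.w_obj x).symm ≫ 𝒴.p.map ψ ≫ eqToHom (G.w_obj x')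
    obtain ⟨x₀, φ, h1, h2⟩ := exists_sc_lift 𝒳.p x' (𝒳.p.obj x) f
    have e : 𝒳.p.obj x₀ = 𝒳.p.obj x := IsHomLift.domain_eq 𝒳.p f φ
    have hφ : 𝒳.p.map φ = eqToHom e ≫ f := by simpa using IsHomLift.fac' 𝒳.p f φ
    have := hG φ h2
    have ee : 𝒴.p.obj (G.obj x) = 𝒴.p.obj (G.obj x₀) := by rw [G.w_obj, G.w_obj, e]
    obtain ⟨θ, ⟨t1, t2⟩, tu⟩ := sc_spec 𝒴.p (G.map φ) ψ (eqToHom ee) (by simp [based_map G, hφ, f])
    obtain ⟨σ, ⟨s1, s2⟩, su⟩ := h x x₀ e.symm θ t1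
    refine ⟨σ ≫ φ, by simp [s2, t2], fun χ hχ => ?_⟩
    have hχp : 𝒳.p.map χ = f := by rw [based_map_back G, hχ]
    obtain ⟨ρ, ⟨r1, r2⟩, -⟩ := sc_spec 𝒳.p φ χ (eqToHom e.symm) (by simp [hφ, hχp])
    rw [← r2]
    congr 1
    exact su _ ⟨r1, tu _ ⟨by simp [based_map G, r1], by rw [← G.toFunctor.map_comp, r2, hχ]⟩⟩
  exact ⟨⟨fun ψ => ⟨(main _ _ ψ).exists.choose, (main _ _ ψ).exists.choose_spec⟩⟩,
    ⟨fun {x x'} a b hab => (main x x' (G.map b)).unique hab rfl⟩⟩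

/-- A functor of fibre categories compatible with `G`. -/
structure FiberModel (G : 𝒳 ⥤ᵇ 𝒴) (U : C) (GU : 𝒳.p.Fiber U ⥤ 𝒴.p.Fiber U) : Prop where
  obj_eq : ∀ x, ((GU.obj x).1 : 𝒴.obj) = G.obj x.1
  map_eq : ∀ {x y} (φ : x ⟶ y), (GU.map φ).1 = eqToHom (obj_eq x) ≫ G.map φ.1 ≫ eqToHom (obj_eq y).symm

theorem FiberModel.of_comp_eq {G : 𝒳 ⥤ᵇ 𝒴} {U : C} {GU : 𝒳.p.Fiber U ⥤ 𝒴.p.Fiber U}
    (h : GU ⋙ Functor.Fiber.fiberInclusion = Functor.Fiber.fiberInclusion ⋙ G.toFunctor) :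
    FiberModel G U GU :=
  ⟨fun x => Functor.congr_obj h x, fun φ => Functor.congr_hom h φ⟩

theorem fullyFaithful_of_fiber [𝒳.p.IsFibered] (G : 𝒳 ⥤ᵇ 𝒴)
    (hG : ∀ ⦃a b : 𝒳.obj⦄ (φ : a ⟶ b), 𝒳.p.IsStronglyCartesian (𝒳.p.map φ) φ →
      𝒴.p.IsStronglyCartesian (𝒴.p.map (G.map φ)) (G.map φ))
    (GU : ∀ U : C, 𝒳.p.Fiber U ⥤ 𝒴.p.Fiber U) (hGU : ∀ U, FiberModel G U (GU U))
    (hfull : ∀ U, (GU U).Full) (hfaith : ∀ U, (GU U).Faithful) :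
    G.toFunctor.Full ∧ G.toFunctor.Faithful := by
  refine fullyFaithful_of_vert G hG fun a b e θ hθ => ?_
  let a' : 𝒳.p.Fiber (𝒳.p.obj a) := ⟨a, rfl⟩
  let b' : 𝒳.p.Fiber (𝒳.p.obj a) := ⟨b, e.symm⟩
  have := hfull (𝒳.p.obj a); have := hfaith (𝒳.p.obj a)
  have oa : ((GU _).obj a').1 = G.obj a := (hGU _).obj_eq a'
  have ob : ((GU _).obj b').1 = G.obj b := (hGU _).obj_eq b'
  let t : (GU _).obj a' ⟶ (GU _).obj b' := ⟨eqToHom oa ≫ θ ≫ eqToHom ob.symm, by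
    refine (vert_iff 𝒴.p _).2 ⟨(GU (𝒳.p.obj a)).obj a' |>.2, ?_⟩
    exact ⟨by rw [oa, ob, G.w_obj, G.w_obj, e], by simp [hθ, eqToHom_map]⟩⟩
  refine ⟨((GU _).preimage t).1, ⟨?_, ?_⟩, fun σ hσ => ?_⟩
  · have := ((GU _).preimage t).2
    exact map_eq_of_vert 𝒳.p (R := 𝒳.p.obj a) _
  · have := congrArg Subtype.val ((GU _).map_preimage t)
    rw [(hGU _).map_eq] at this
    rw [← cancel_epi (eqToHom oa), ← cancel_mono (eqToHom ob.symm), Category.assoc, Category.assoc]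
    exact this
  · let s : a' ⟶ b' := ⟨σ, vert_of_map_eq 𝒳.p hσ.1⟩
    have : (GU _).preimage t = s := (GU _).map_injective (by
      rw [(GU _).map_preimage]
      apply Subtype.ext
      rw [(hGU _).map_eq]
      show eqToHom oa ≫ θ ≫ _ = _
      rw [← hσ.2])
    rw [this]

theorem fiber_equiv_of_isEquivOver {G : 𝒳 ⥤ᵇ 𝒴} (h : IsEquivOver G) (U : C)
    (GU : 𝒳.p.Fiber U ⥤ 𝒴.p.Fiber U) (hGU : FiberModel G U GU) : GU.IsEquivalence := by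
  obtain ⟨h1, h2, h3⟩ := EqvData.of_isEquivOver h
  have hfaith : GU.Faithful := ⟨fun {x y} a b hab => by
    apply Functor.Fiber.hom_ext
    apply G.toFunctor.map_injective
    have := congrArg Subtype.val hab
    rw [hGU.map_eq, hGU.map_eq, cancel_epi, cancel_mono] at this
    exact this⟩
  have hfull : GU.Full := ⟨fun {x y} t => by
    obtain ⟨σ, hσ⟩ := G.toFunctor.map_surjective (eqToHom (hGU.obj_eq x).symm ≫ t.1 ≫ eqToHom (hGU.obj_eq y))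
    have ht := t.2
    have : 𝒳.p.IsHomLift (𝟙 U) σ := by
      refine (vert_iff 𝒳.p σ).2 ⟨x.2, x.2.trans y.2.symm, ?_⟩
      rw [based_map_back G, hσ, 𝒴.p.map_comp, 𝒴.p.map_comp, map_eq_of_vert 𝒴.p (R := U) t.1]
      simp [eqToHom_map]
    refine ⟨⟨σ, this⟩, Subtype.ext ?_⟩
    rw [hGU.map_eq, hσ]; simp⟩
  have : GU.EssSurj := ⟨fun η => by
    obtain ⟨ξ, e, he⟩ := h3 η.1
    have hd : 𝒳.p.obj ξ = U :=
      ((G.w_obj ξ).symm.trans (IsHomLift.domain_eq 𝒴.p (𝟙 (𝒴.p.obj η.1)) e.hom)).trans η.2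
    refine ⟨⟨ξ, hd⟩, ⟨?_⟩⟩
    have hv : 𝒴.p.IsHomLift (𝟙 U) (eqToHom (hGU.obj_eq ⟨ξ, hd⟩) ≫ e.hom) := by
      refine (vert_iff 𝒴.p _).2 ⟨(GU.obj ⟨ξ, hd⟩).2, (GU.obj ⟨ξ, hd⟩).2.trans η.2.symm, ?_⟩
      simp [eqToHom_map, map_eq_of_vert 𝒴.p (R := 𝒴.p.obj η.1) e.hom]
    exact { hom := ⟨_, hv⟩
            inv := ⟨e.inv ≫ eqToHom (hGU.obj_eq ⟨ξ, hd⟩).symm, by
              exact vert_inv 𝒴.p (eqToIso (hGU.obj_eq ⟨ξ, hd⟩) ≪≫ e) hv⟩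
            hom_inv_id := by
              apply Subtype.ext
              show (eqToHom (hGU.obj_eq ⟨ξ, hd⟩) ≫ e.hom) ≫ e.inv ≫ _ = 𝟙 _
              simp
            inv_hom_id := by
              apply Subtype.ext
              show (e.inv ≫ eqToHom (hGU.obj_eq ⟨ξ, hd⟩).symm) ≫ _ ≫ e.hom = 𝟙 _
              simp }⟩
  exact {}

theorem isEquivOver_of_fiber [𝒳.p.IsFibered] (G : 𝒳 ⥤ᵇ 𝒴)
    (hG : ∀ ⦃a b : 𝒳.obj⦄ (φ : a ⟶ b), 𝒳.p.IsStronglyCartesian (𝒳.p.map φ) φ →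
      𝒴.p.IsStronglyCartesian (𝒴.p.map (G.map φ)) (G.map φ))
    (GU : ∀ U : C, 𝒳.p.Fiber U ⥤ 𝒴.p.Fiber U) (hGU : ∀ U, FiberModel G U (GU U))
    (he : ∀ U, (GU U).IsEquivalence) : IsEquivOver G := by
  obtain ⟨h1, h2⟩ := fullyFaithful_of_fiber G hG GU hGU (fun U => inferInstance) (fun U => inferInstance)
  refine EqvData.isEquivOver ⟨h1, h2, fun η => ?_⟩
  have := he (𝒴.p.obj η)
  let η' : 𝒴.p.Fiber (𝒴.p.obj η) := ⟨η, rfl⟩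
  let i := (GU _).objObjPreimageIso η'
  refine ⟨((GU _).objPreimage η').1, eqToIso ((hGU _).obj_eq _).symm ≪≫ Functor.Fiber.fiberInclusion.mapIso i, ?_⟩
  have := i.hom.2
  refine (vert_iff 𝒴.p _).2 ⟨?_, ?_⟩
  · rw [G.w_obj]; exact ((GU _).objPreimage η').2
  · refine ⟨by rw [G.w_obj]; exact ((GU _).objPreimage η').2, ?_⟩
    simp [eqToHom_map, Functor.Fiber.fiberInclusion, map_eq_of_vert 𝒴.p (R := 𝒴.p.obj η) i.hom.1]

end Groth.Agent.Stk19
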