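import Groth.Agent.Stk19.Equiv

/-! Whiskering with equivalences over the base is an equivalence of hom categories. -/

set_option autoImplicit false

universe w v u

open CategoryTheory Bicategory

namespace Groth.Agent.Stk19

variable {B : Type u} [Bicategory.{w, v} B] {a b c : B}

theorem precomp_isEquivalence (f : a ⟶ b) (g : b ⟶ a) (e : f ≫ g ≅ 𝟙 a) (e' : g ≫ f ≅ 𝟙 b) :
    (precomp c f).IsEquivalence :=
  (CategoryTheory.Equivalence.mk ((precomposing a b c).obj f) ((precomposing b a c).obj g)
    ((leftUnitorNatIso b c).symm ≪≫ (precomposing b b c).mapIso e'.symm ≪≫ associatorNatIsoRight g f c)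
    ((associatorNatIsoRight f g c).symm ≪≫ (precomposing a a c).mapIso e ≪≫ leftUnitorNatIso a c)).isEquivalence_functor

theorem postcomp_isEquivalence (f : b ⟶ c) (g : c ⟶ b) (e : f ≫ g ≅ 𝟙 b) (e' : g ≫ f ≅ 𝟙 c) :
    (postcomp a f).IsEquivalence :=
  (CategoryTheory.Equivalence.mk ((postcomposing a b c).obj f) ((postcomposing a c b).obj g)
    ((rightUnitorNatIso a b).symm ≪≫ (postcomposing a b b).mapIso e.symm ≪≫ (associatorNatIsoLeft a f g).symm)
    (associatorNatIsoLeft a g f ≪≫ (postcomposing a c c).mapIso e' ≪≫ rightUnitorNatIso a c)).isEquivalence_functor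

end Groth.Agent.Stk19
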