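import Groth.Prelude.Def_W4stkcategoriessitesFib
import Groth.Agent.Stk19.FibGrpd

/-! More on categories fibred in groupoids: transport, composition, setoids. -/

set_option autoImplicit false
set_option backward.isDefEq.respectTransparency false
set_option backward.isDefEq.respectTransparency.types false

universe v₅ u₅ v₄ u₄ v₃ u₃ v₂ u₂ v u

open CategoryTheory FibCat Groth.Agent.Desc19

namespace Groth.Agent.Stk19

variable {C : Type u} [Category.{v} C]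

section Plain

variable {𝒳 : Type u₂} [Category.{v₂} 𝒳] {p : 𝒳 ⥤ C}

/-- Isomorphisms of the base lift to isomorphisms with prescribed source. -/
theorem fibGrpd_transport (h : IsFibGrpd p) {T S : C} (α : T ≅ S) (ξ : 𝒳) (hξ : p.obj ξ = T) :
    ∃ (ξ' : 𝒳) (e : ξ ≅ ξ'), p.IsHomLift α.hom e.hom := by
  subst hξ
  obtain ⟨y, φ, e, hφ⟩ := fibGrpd_lift h ξ α.inv
  have : IsIso (p.map φ) := by rw [hφ]; infer_instance
  have := fibGrpd_isIso h φ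
  refine ⟨y, (asIso φ).symm, IsHomLift.of_fac' p _ _ rfl e ?_⟩
  simp [hφ]

theorem fibGrpd_comp {D : Type u₃} [Category.{v₃} D] {q : C ⥤ D} (hp : IsFibGrpd p) (hq : IsFibGrpd q) :
    IsFibGrpd (p ⋙ q) where
  exists_lift {x V} f := by
    obtain ⟨b, g, e, hg⟩ := fibGrpd_lift hq (p.obj x) f
    obtain ⟨y, φ, e', hφ⟩ := fibGrpd_lift hp x g
    subst e'
    refine ⟨y, φ, IsHomLift.of_fac' _ f φ e rfl ?_⟩
    have : p.map φ = g := by simpa using hφ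
    simp [this, hg]
  isStronglyCartesian φ :=
    have := hp.isStronglyCartesian φ
    have := hq.isStronglyCartesian (p.map φ)
    sc_comp p q φ

theorem fibGrpd_of_comp_overForget {U : C} {q : 𝒳 ⥤ Over U} (h : IsFibGrpd (q ⋙ Over.forget U)) :
    IsFibGrpd q where
  exists_lift {x R} f := by
    obtain ⟨b, φ, e, hφ⟩ := fibGrpd_lift h x f.left
    have hl : (q.map φ).left = eqToHom e ≫ f.left := hφ
    have hw := Over.w (q.map φ)
    rw [hl, Category.assoc, Over.w f] at hw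
    refine ⟨b, φ, IsHomLift.of_fac' q f φ (CostructuredArrow.obj_ext _ _ e hw) rfl ?_⟩
    apply Over.OverMorphism.ext
    simp [hl, Over.eqToHom_left]
  isStronglyCartesian φ :=
    have := h.isStronglyCartesian φ
    sc_of_comp_faithful q (Over.forget U) φ

theorem thin_fiber_iff (h : IsFibGrpd p) (U : C) :
    Quiver.IsThin (p.Fiber U) ↔
      ∀ (x : 𝒳) (φ : x ⟶ x), p.obj x = U → p.map φ = 𝟙 _ → φ = 𝟙 x := by
  constructor
  · intro ht x φ hx hφ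
    have h1 : p.IsHomLift (𝟙 U) φ := (vert_iff p φ).2 ⟨hx, rfl, by simpa using hφ⟩
    have h2 : p.IsHomLift (𝟙 U) (𝟙 x) := IsHomLift.id hx
    let a : p.Fiber U := ⟨x, hx⟩
    exact congrArg Subtype.val (Subsingleton.elim (α := a ⟶ a) ⟨φ, h1⟩ ⟨𝟙 x, h2⟩)
  · intro ht a b
    refine ⟨fun f g => ?_⟩
    have := (fibGrpd_iff.1 h).2 U
    have key : f ≫ inv g = 𝟙 a := by
      apply Functor.Fiber.hom_ext
      show (f ≫ inv g).1 = 𝟙 a.1
      have hl : p.IsHomLift (𝟙 U) (f ≫ inv g).1 := (f ≫ inv g).2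
      refine ht a.1 _ a.2 ?_
      rw [map_eq_of_vert p (R := U) (f ≫ inv g).1]
      simp
    have := congrArg (· ≫ g) key
    simpa using this

end Plain

variable {𝒳 : BasedCategory.{v₂, u₂} C} {𝒴 : BasedCategory.{v₃, u₃} C}

theorem isEquivOver_of_transport
    (h𝒳 : ∀ ⦃T S : C⦄ (α : T ≅ S) (ξ : 𝒳.obj), 𝒳.p.obj ξ = T →
      ∃ (ξ' : 𝒳.obj) (e : ξ ≅ ξ'), 𝒳.p.IsHomLift α.hom e.hom)
    (F : 𝒳 ⥤ᵇ 𝒴) [F.toFunctor.IsEquivalence] : IsEquivOver F := by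
  refine EqvData.isEquivOver ⟨inferInstance, inferInstance, fun η => ?_⟩
  let i := F.toFunctor.objObjPreimageIso η
  obtain ⟨ξ', e, he⟩ := h𝒳 (eqToIso (F.w_obj (F.toFunctor.objPreimage η)).symm ≪≫ 𝒴.p.mapIso i)
    (F.toFunctor.objPreimage η) rfl
  have hd : 𝒳.p.obj ξ' = 𝒴.p.obj η :=
    IsHomLift.codomain_eq 𝒳.p (eqToIso (F.w_obj (F.toFunctor.objPreimage η)).symm ≪≫ 𝒴.p.mapIso i).hom e.hom
  refine ⟨ξ', (F.toFunctor.mapIso e).symm ≪≫ i, (vert_iff 𝒴.p _).2 ⟨(F.w_obj ξ').trans hd, (F.w_obj ξ').trans hd, ?_⟩⟩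
  have hi : 𝒴.p.map (F.map e.hom) = 𝒴.p.map i.hom ≫ eqToHom ((F.w_obj ξ').trans hd).symm := by
    rw [based_map F, IsHomLift.fac' 𝒳.p (eqToIso (F.w_obj (F.toFunctor.objPreimage η)).symm ≪≫ 𝒴.p.mapIso i).hom e.hom]
    simp [i]
  show 𝒴.p.map (F.map e.inv ≫ i.hom) = _
  rw [𝒴.p.map_comp, ← cancel_epi (𝒴.p.map (F.map e.hom)), ← Category.assoc, ← 𝒴.p.map_comp,
    ← F.toFunctor.map_comp, e.hom_inv_id, hi]
  simp

theorem isEquivOver_of_isEquivalence (h𝒳 : IsFibGrpd 𝒳.p) (F : 𝒳 ⥤ᵇ 𝒴) [F.toFunctor.IsEquivalence] :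
    IsEquivOver F :=
  isEquivOver_of_transport (fun _ _ α ξ hξ => fibGrpd_transport h𝒳 α ξ hξ) F

theorem fiberModel_fiberFunctor (G : 𝒳 ⥤ᵇ 𝒴) (U : C) : FiberModel G U (fiberFunctor G U) :=
  ⟨fun _ => rfl, fun φ => by simp [fiberFunctor_map]⟩

theorem fullyFaithful_of_fiberFunctor (G : 𝒳 ⥤ᵇ 𝒴) (h𝒳 : IsFibGrpd 𝒳.p) (h𝒴 : IsFibGrpd 𝒴.p)
    (hfull : ∀ U, (fiberFunctor G U).Full) (hfaith : ∀ U, (fiberFunctor G U).Faithful) :
    G.toFunctor.Full ∧ G.toFunctor.Faithful :=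
  have := fibGrpd_isFibered h𝒳
  fullyFaithful_of_fiber G (fun _ _ _ _ => h𝒴.isStronglyCartesian _) _ (fiberModel_fiberFunctor G) hfull hfaith

theorem fiberFunctor_faithful (G : 𝒳 ⥤ᵇ 𝒴) [G.toFunctor.Faithful] (U : C) : (fiberFunctor G U).Faithful :=
  ⟨fun {_ _} _ _ h => Subtype.ext (G.toFunctor.map_injective (congrArg Subtype.val h))⟩

theorem fiberFunctor_full (G : 𝒳 ⥤ᵇ 𝒴) [G.toFunctor.Full] (U : C) : (fiberFunctor G U).Full :=
  ⟨fun {x y} t => by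
    obtain ⟨σ, hσ⟩ := G.toFunctor.map_surjective t.1
    have h : 𝒴.p.IsHomLift (𝟙 U) (G.map σ) := hσ ▸ t.2
    exact ⟨⟨σ, (G.isHomLift_iff (𝟙 U) σ).1 h⟩, Subtype.ext hσ⟩⟩

theorem faithful_of_fiberFunctor (G : 𝒳 ⥤ᵇ 𝒴) (h𝒳 : IsFibGrpd 𝒳.p) (h𝒴 : IsFibGrpd 𝒴.p)
    (hfaith : ∀ U, (fiberFunctor G U).Faithful) : G.toFunctor.Faithful := by
  refine ⟨fun {a b} f g hfg => ?_⟩
  have hp : 𝒳.p.map f = 𝒳.p.map g := by rw [based_map_back G, based_map_back G, hfg]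
  obtain ⟨χ, ⟨h1, h2⟩, -⟩ := fibGrpd_fac h𝒳 g f (𝟙 _) (by simp [hp])
  have hv : 𝒳.p.IsHomLift (𝟙 (𝒳.p.obj a)) χ := (vert_iff _ _).2 ⟨rfl, rfl, h1⟩
  have := fibGrpd_isIso_vert h𝒳 (R := 𝒳.p.obj a) χ
  have hg : G.map χ ≫ G.map g = G.map g := by rw [← G.toFunctor.map_comp, h2, hfg]
  let a' : 𝒳.p.Fiber (𝒳.p.obj a) := ⟨a, rfl⟩
  have := hfaith (𝒳.p.obj a)
  have hh : G.map χ = 𝟙 _ := fibGrpd_ext h𝒴 (G.map g)
    (by rw [based_map G, h1]; simp) (by rw [hg, Category.id_comp])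
  have : (⟨χ, hv⟩ : a' ⟶ a') = ⟨𝟙 a, IsHomLift.id rfl⟩ :=
    (fiberFunctor G _).map_injective (Subtype.ext (hh.trans (G.toFunctor.map_id a).symm))
  rw [← h2, show χ = 𝟙 a from congrArg Subtype.val this, Category.id_comp]

end Groth.Agent.Stk19
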