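import Groth.Prelude.Def_W4stkcategoriessitesFib
import Groth.Agent.Stk19.FibGrpd2

/-! Categories fibred in sets and in setoids. -/

set_option autoImplicit false
set_option backward.isDefEq.respectTransparency false
set_option backward.isDefEq.respectTransparency.types false

universe v₅ u₅ v₄ u₄ v₃ u₃ v₂ u₂ v u

open CategoryTheory FibCat Groth.Agent.Desc19

namespace Groth.Agent.Stk19

variable {C : Type u} [Category.{v} C] {𝒳 : Type u₂} [Category.{v₂} 𝒳] {p : 𝒳 ⥤ C}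

theorem fibSet_lift_unique (h : IsFibSet p) {η ξ ξ' : 𝒳} (φ : ξ ⟶ η) (φ' : ξ' ⟶ η)
    (e : p.obj ξ = p.obj ξ') (he : p.map φ = eqToHom e ≫ p.map φ') :
    (⟨ξ, φ⟩ : Σ x : 𝒳, (x ⟶ η)) = ⟨ξ', φ'⟩ := by
  obtain ⟨χ, ⟨h1, h2⟩, -⟩ := fibGrpd_fac h.1 φ' φ (eqToHom e) he.symm
  have hd := h.2 (p.obj ξ)
  let a : p.Fiber (p.obj ξ) := ⟨ξ, rfl⟩
  let b : p.Fiber (p.obj ξ) := ⟨ξ', e.symm⟩
  let t : a ⟶ b := ⟨χ, vert_of_map_eq p h1⟩
  have hab : ξ = ξ' := congrArg Subtype.val (hd.eq_of_hom t)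
  subst hab
  have : t = 𝟙 a := (hd.subsingleton a a).elim t (𝟙 a)
  have hχ : χ = 𝟙 ξ := congrArg Subtype.val this
  rw [← h2, hχ, Category.id_comp]

theorem fibSet_iff :
    IsFibSet p ↔ ∀ (η : 𝒳) (U : C) (f : U ⟶ p.obj η), ∃! φ : (Σ ξ : 𝒳, (ξ ⟶ η)), p.IsHomLift f φ.2 := by
  constructor
  · intro h η U f
    obtain ⟨y, φ, hφ⟩ := h.1.exists_lift f
    refine ⟨⟨y, φ⟩, hφ, fun ψ hψ => ?_⟩
    obtain ⟨ξ, ψ⟩ := ψ
    have hψ' : p.IsHomLift f ψ := hψ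
    have e1 := IsHomLift.domain_eq p f ψ
    have e2 := IsHomLift.domain_eq p f φ
    exact fibSet_lift_unique h ψ φ (e1.trans e2.symm) (by
      rw [IsHomLift.fac' p f ψ, IsHomLift.fac' p f φ]; simp)
  · intro h
    refine ⟨fibGrpd_mk (fun x V f => ?_) (fun {x y z} φ ψ g hg => ?_), fun U => ?_⟩
    · obtain ⟨⟨y, φ⟩, hφ : p.IsHomLift f φ, -⟩ := h x V f
      exact ⟨y, φ, IsHomLift.domain_eq p f φ, by simpa using IsHomLift.fac' p f φ⟩
    · obtain ⟨⟨z', χ⟩, hχ : p.IsHomLift g χ, hu⟩ := h y _ g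
      have e := IsHomLift.domain_eq p g χ
      have hm : p.map χ = eqToHom e ≫ g := by simpa using IsHomLift.fac' p g χ
      have key : (⟨z', χ ≫ φ⟩ : Σ ξ : 𝒳, (ξ ⟶ x)) = ⟨z, ψ⟩ := by
        refine (h x _ (p.map ψ)).unique ?_ (IsHomLift.map p ψ)
        exact IsHomLift.of_fac' p _ _ e rfl (by simp [hm, hg])
      obtain ⟨rfl, hk⟩ := Sigma.mk.inj_iff.mp key
      refine ⟨χ, ⟨by simpa using hm, eq_of_heq hk⟩, fun χ' ⟨h1, _⟩ => ?_⟩
      exact eq_of_heq (Sigma.mk.inj_iff.mp (hu ⟨z', χ'⟩ (IsHomLift.of_fac' p _ _ rfl rfl (by simp [h1])))).2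
    · have key : ∀ {a b : p.Fiber U} (t : a ⟶ b), (⟨a.1, t.1⟩ : Σ ξ : 𝒳, (ξ ⟶ b.1)) = ⟨b.1, 𝟙 b.1⟩ := by
        intro a b t
        have := t.2
        refine (h b.1 U (eqToHom b.2.symm)).unique ?_ ?_
        · exact IsHomLift.of_fac' p _ _ a.2 rfl (by simp [map_eq_of_vert p (R := U) t.1])
        · exact IsHomLift.of_fac' p _ _ b.2 rfl (by simp)
      exact { eq_of_hom := fun {a b} t => Subtype.ext (congrArg Sigma.fst (key t))
              subsingleton := fun a b => ⟨fun t t' => Subtype.ext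
                (eq_of_heq (Sigma.mk.inj_iff.mp ((key t).trans (key t').symm)).2)⟩ }

theorem fibSet_faithful (h : IsFibSet p) : p.Faithful :=
  ⟨fun {a b} f g hfg => eq_of_heq (Sigma.mk.inj_iff.mp (fibSet_lift_unique h f g rfl (by simp [hfg]))).2⟩

theorem fibSet_fibSetoid (h : IsFibSet p) : IsFibSetoid p :=
  ⟨h.1, fun U => have := h.2 U; fun a b => inferInstanceAs (Subsingleton (a ⟶ b))⟩

variable {ℱ : Type u₃} [Category.{v₃} ℱ] (F : ℱ ⥤ 𝒳)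

theorem sc_comp_iff_of_fibSet (h : IsFibSet p) {a b : ℱ} (φ : a ⟶ b) :
    (F ⋙ p).IsStronglyCartesian ((F ⋙ p).map φ) φ ↔ F.IsStronglyCartesian (F.map φ) φ := by
  have := fibSet_faithful h
  refine ⟨fun _ => sc_of_comp_faithful F p φ, fun _ => ?_⟩
  have := h.1.isStronglyCartesian (F.map φ)
  exact sc_comp F p φ

theorem isHomLift_of_comp_fibSet (h : IsFibSet p) {a b : ℱ} (φ : a ⟶ b) {R : 𝒳} (f : R ⟶ F.obj b)
    [(F ⋙ p).IsHomLift (p.map f) φ] : F.IsHomLift f φ := by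
  have e := IsHomLift.domain_eq (F ⋙ p) (p.map f) φ
  have hm := IsHomLift.fac' (F ⋙ p) (p.map f) φ
  simp at hm
  have := fibSet_lift_unique h (F.map φ) f e hm
  obtain ⟨h1, h2⟩ := Sigma.mk.inj_iff.mp this
  subst h1
  obtain rfl := eq_of_heq h2
  infer_instance

theorem isFibered_comp_iff_of_fibSet (h : IsFibSet p) : F.IsFibered ↔ (F ⋙ p).IsFibered := by
  have := fibGrpd_isFibered h.1
  refine ⟨fun _ => isFibered_comp_functor F p, fun _ => isFibered_mk F fun a R f => ?_⟩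
  obtain ⟨b, φ, h1, h2⟩ := exists_sc_lift (F ⋙ p) a (p.obj R) (p.map f)
  exact ⟨b, φ, isHomLift_of_comp_fibSet F h φ f, (sc_comp_iff_of_fibSet F h φ).1 h2⟩

theorem fibGrpd_comp_iff_of_fibSet (h : IsFibSet p) : IsFibGrpd F ↔ IsFibGrpd (F ⋙ p) := by
  refine ⟨fun hF => fibGrpd_comp hF h.1, fun hF => ⟨fun {a R} f => ?_, fun φ => ?_⟩⟩
  · obtain ⟨b, φ, h1⟩ := hF.exists_lift (x := a) (p.map f)
    exact ⟨b, φ, isHomLift_of_comp_fibSet F h φ f⟩
  · exact (sc_comp_iff_of_fibSet F h φ).1 (hF.isStronglyCartesian φ)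

theorem fibSet_comp_iff_of_fibSet (h : IsFibSet p) : IsFibSet F ↔ IsFibSet (F ⋙ p) := by
  rw [fibSet_iff, fibSet_iff]
  have lift_iff : ∀ {a b : ℱ} (φ : a ⟶ b) {R : 𝒳} (f : R ⟶ F.obj b),
      F.IsHomLift f φ ↔ (F ⋙ p).IsHomLift (p.map f) φ := fun {a b} φ {R} f => by
    refine ⟨fun _ => ?_, fun _ => isHomLift_of_comp_fibSet F h φ f⟩
    have e := IsHomLift.domain_eq F f φ
    refine IsHomLift.of_fac' _ _ _ (congrArg p.obj e) rfl ?_
    simp [IsHomLift.fac' F f φ, eqToHom_map]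
  constructor
  · intro hF η U f
    obtain ⟨b, g, e, hg⟩ := fibGrpd_lift h.1 (F.obj η) f
    subst e
    obtain rfl : p.map g = f := by simpa using hg
    simpa only [lift_iff] using hF η b g
  · intro hF η R f
    simpa only [lift_iff] using hF η (p.obj R) (p.map f)

end Groth.Agent.Stk19
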