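import Groth.Agent.Stk19.RepDiag

/-! Fibre products of categories fibred in groupoids; uniqueness of representing objects. -/

set_option autoImplicit false
set_option backward.isDefEq.respectTransparency false
set_option backward.isDefEq.respectTransparency.types false

universe v₉ u₉ v₈ u₈ v₇ u₇ v₆ u₆ v₅ u₅ v₄ u₄ v₃ u₃ v₂ u₂ v u

open CategoryTheory CategoryTheory.Limits FibCat Groth.Agent.Desc19

namespace Groth.Agent.Stk19

variable {C : Type u} [Category.{v} C]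
variable {𝒳 : BasedCategory.{v₂, u₂} C} {𝒴 : BasedCategory.{v₃, u₃} C} {𝒮 : BasedCategory.{v₄, u₄} C}

theorem fibGrpd_fp (h𝒳 : IsFibGrpd 𝒳.p) (h𝒴 : IsFibGrpd 𝒴.p) (h𝒮 : IsFibGrpd 𝒮.p)
    (F : 𝒳 ⥤ᵇ 𝒮) (G : 𝒴 ⥤ᵇ 𝒮) : IsFibGrpd (fp F G).p := by
  refine fibGrpd_mk (fun a V f => ?_) (fun {x y z} φ ψ γ hγ => ?_)
  · obtain ⟨x, φ, e, hφ⟩ := fibGrpd_lift h𝒳 a.obj.fst f
    obtain ⟨y, ψ, e', hψ⟩ := fibGrpd_lift h𝒴 a.obj.snd (f ≫ eqToHom (fp_base_eq a).symm)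
    have hF : 𝒮.p.map (F.map φ) = eqToHom ((F.w_obj x).trans e) ≫ f ≫ eqToHom (F.w_obj a.obj.fst).symm := by
      rw [based_map F, hφ]; simp
    have hG : 𝒮.p.map (G.map ψ) = eqToHom ((G.w_obj y).trans e') ≫ f ≫
        eqToHom ((fp_base_eq a).symm.trans (G.w_obj a.obj.snd).symm) := by
      rw [based_map G, hψ]; simp
    have ee : 𝒮.p.obj (F.obj x) = 𝒮.p.obj (G.obj y) := by rw [F.w_obj, G.w_obj, e, e']
    obtain ⟨θ, ⟨t1, t2⟩, -⟩ := fibGrpd_fac h𝒮 (G.map ψ) (F.map φ ≫ a.obj.iso.hom) (eqToHom ee) (by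
      rw [𝒮.p.map_comp, hF, hG, fp_iso_map a]; simp)
    have hv : 𝒮.p.IsHomLift (𝟙 (𝒳.p.obj x)) θ := (vert_iff _ _).2 ⟨F.w_obj x, ee, t1⟩
    have := fibGrpd_isIso_vert h𝒮 (R := 𝒳.p.obj x) θ
    exact ⟨fpMk x y (asIso θ) hv, fpHom φ ψ t2.symm, e, hφ⟩
  · have hs : (eqToHom (fp_base_eq z) ≫ γ ≫ eqToHom (fp_base_eq y).symm) ≫ 𝒴.p.map φ.hom.snd =
        𝒴.p.map ψ.hom.snd := by
      have h' : γ ≫ 𝒳.p.map φ.hom.fst = 𝒳.p.map ψ.hom.fst := hγ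
      rw [fp_map_snd φ, fp_map_snd ψ]
      simp [reassoc_of% h']
    obtain ⟨c1, ⟨p1, q1⟩, u1⟩ := fibGrpd_fac h𝒳 φ.hom.fst ψ.hom.fst γ hγ
    obtain ⟨c2, ⟨p2, q2⟩, u2⟩ := fibGrpd_fac h𝒴 φ.hom.snd ψ.hom.snd _ hs
    have w : F.map c1 ≫ y.obj.iso.hom = z.obj.iso.hom ≫ G.map c2 := by
      refine fibGrpd_ext h𝒮 (G.map φ.hom.snd) ?_ ?_
      · rw [𝒮.p.map_comp, 𝒮.p.map_comp, based_map F, based_map G, p1, p2, fp_iso_map, fp_iso_map]
        simp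
      · have wφ : F.map φ.hom.fst ≫ x.obj.iso.hom = y.obj.iso.hom ≫ G.map φ.hom.snd := φ.hom.w
        have wψ : F.map ψ.hom.fst ≫ x.obj.iso.hom = z.obj.iso.hom ≫ G.map ψ.hom.snd := ψ.hom.w
        rw [Category.assoc, ← wφ, ← F.toFunctor.map_comp_assoc, q1, wψ, ← q2, G.toFunctor.map_comp, Category.assoc]
    refine ⟨fpHom c1 c2 w, ⟨p1, fp_hom_ext q1 q2⟩, ?_⟩
    rintro χ ⟨hp, hq⟩
    refine fp_hom_ext (u1 _ ⟨hp, congrArg (fun m => m.hom.fst) hq⟩) (u2 _ ⟨?_, congrArg (fun m => m.hom.snd) hq⟩)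
    have hp' : 𝒳.p.map χ.hom.fst = γ := hp
    rw [fp_map_snd χ, hp']

theorem fibGrpd_selfOver : IsFibGrpd (selfOver C).p := by
  refine fibGrpd_mk (p := 𝟭 C) (fun x V f => ⟨V, f, rfl, (Category.id_comp f).symm⟩)
    (fun φ ψ g hg => ⟨g, ⟨rfl, hg⟩, fun χ hχ => hχ.1⟩)

theorem representing_unique {𝒳 : BasedCategory.{v₂, u₂} C} {X X' : C} (j : 𝒳 ⥤ᵇ overCat X) (j' : 𝒳 ⥤ᵇ overCat X')
    (hj : IsEquivOver j) (hj' : IsEquivOver j') :
    ∃ e : X' ≅ X, Nonempty (BasedFunctor.comp j' (overMapB e.hom) ≅ j) := by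
  obtain ⟨k, hk, ⟨a⟩, ⟨b⟩⟩ := exists_inverse hj'
  have hP : IsEquivOver (overMapB (underHom (BasedFunctor.comp k j))) :=
    isEquivOver_of_iso (isoOverMap _) (isEquivOver_comp hk hj)
  obtain ⟨_, _, hs⟩ := EqvData.of_isEquivOver hP
  generalize hh : underHom (BasedFunctor.comp k j) = h at *
  obtain ⟨s, i, hi⟩ := hs (Over.mk (𝟙 X))
  have hhi : i.hom.left ≫ 𝟙 X = s.hom ≫ h := Over.w i.hom
  have : IsIso i.hom.left := inferInstanceAs (IsIso ((Over.forget X).map i.hom))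
  let inv0 : X ⟶ X' := inv i.hom.left ≫ s.hom
  have h0 : inv0 ≫ h = 𝟙 X := by
    simp only [inv0, Category.assoc, ← hhi]
    simp
  have h1 : h ≫ inv0 = 𝟙 X' := by
    let t : (overMapB h).obj (Over.mk (h ≫ inv0)) ⟶ (overMapB h).obj (Over.mk (𝟙 X')) :=
      Over.homMk (h ≫ inv0) (by
        show (h ≫ inv0) ≫ (𝟙 X' ≫ h) = (h ≫ inv0) ≫ h
        simp)
    let t' : (overMapB h).obj (Over.mk (h ≫ inv0)) ⟶ (overMapB h).obj (Over.mk (𝟙 X')) :=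
      Over.homMk (𝟙 X') (by
        show 𝟙 X' ≫ (𝟙 X' ≫ h) = (h ≫ inv0) ≫ h
        simp [h0])
    obtain ⟨τ, hτ⟩ := (overMapB h).toFunctor.map_surjective t'
    have hτ1 : τ.left = 𝟙 X' := congrArg (fun m => m.left) hτ
    have := Over.w τ
    rw [hτ1] at this
    exact this.symm.trans (Category.id_comp _)
  refine ⟨⟨h, inv0, h1, h0⟩, ⟨isoToSlice _ _ fun x => ?_⟩⟩
  have hx : eqToHom ((BasedFunctor.comp k j).w_obj (j'.obj x)).symm ≫ (j.obj (k.obj (j'.obj x))).hom =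
      (j'.obj x).hom ≫ h := by rw [← hh]; exact underHom_spec (BasedFunctor.comp k j) (j'.obj x)
  have hw : (j.map (a.hom.toNatTrans.app x)).left ≫ (j.obj x).hom = (j.obj (k.obj (j'.obj x))).hom :=
    Over.w (j.map (a.hom.toNatTrans.app x))
  have hl : (j.map (a.hom.toNatTrans.app x)).left = eqToHom (by
      have := (BasedFunctor.comp k j).w_obj (j'.obj x)
      exact this.trans ((j'.w_obj x).trans (j.w_obj x).symm)) := by
    show (overCat X).p.map (j.map (a.hom.toNatTrans.app x)) = _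
    rw [based_map j, based_app_map]
    simp
  show eqToHom _ ≫ ((j'.obj x).hom ≫ h) = _
  rw [← hx, ← hw, hl]
  simp

end Groth.Agent.Stk19
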