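import Groth.Agent.Stk19.CatPb
import Groth.Agent.Stk19.FpFib
import Groth.Agent.Stk19.FibSet
import Groth.Prelude.Def_AlgSt

/-! Prestack and stack conditions: invariance under equivalence and fibre products. -/

set_option autoImplicit false
set_option backward.isDefEq.respectTransparency false
set_option backward.isDefEq.respectTransparency.types false

universe v₆ u₆ v₅ u₅ v₄ u₄ v₃ u₃ v₂ u₂ v u

open CategoryTheory CategoryTheory.Limits FibCat Groth.Agent.Desc19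

namespace Groth.Agent.Stk19

variable {C : Type u} [Category.{v} C]
variable {𝒳 : BasedCategory.{v₂, u₂} C} {𝒴 : BasedCategory.{v₃, u₃} C} {𝒮 : BasedCategory.{v₄, u₄} C}

theorem based_hom_ext {F G : 𝒳 ⥤ᵇ 𝒴} {α β : F ⟶ G} (h : ∀ a, α.toNatTrans.app a = β.toNatTrans.app a) : α = β := by
  apply BasedNatTrans.homCategory.ext
  apply NatTrans.ext
  funext a
  exact h a

/-- Postcomposition with a functor over the base. -/
def postB (𝒲 : BasedCategory.{v₅, u₅} C) (G : 𝒳 ⥤ᵇ 𝒴) : (𝒲 ⥤ᵇ 𝒳) ⥤ (𝒲 ⥤ᵇ 𝒴) where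
  obj H := BasedFunctor.comp H G
  map α := BasedCategory.whiskerRight α G
  map_id H := based_hom_ext fun a => G.toFunctor.map_id _
  map_comp α β := based_hom_ext fun a => G.toFunctor.map_comp _ _

@[simp]
theorem postB_map_app {𝒲 : BasedCategory.{v₅, u₅} C} (G : 𝒳 ⥤ᵇ 𝒴) {H K : 𝒲 ⥤ᵇ 𝒳} (α : H ⟶ K) (a : 𝒲.obj) :
    ((postB 𝒲 G).map α).toNatTrans.app a = G.map (α.toNatTrans.app a) := rfl

theorem restr_map_app {𝒜 : BasedCategory.{v₅, u₅} C} {ℬ : BasedCategory.{v₆, u₆} C} (ι : 𝒜 ⥤ᵇ ℬ)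
    {H K : ℬ ⥤ᵇ 𝒳} (α : H ⟶ K) (a : 𝒜.obj) :
    ((Stk.restr ι 𝒳).map α).toNatTrans.app a = α.toNatTrans.app (ι.obj a) := rfl

section Equiv

variable {𝒲 : BasedCategory.{v₅, u₅} C}

/-- Postcomposition with an equivalence over the base is an equivalence. -/
theorem postB_isEquivalence {G : 𝒳 ⥤ᵇ 𝒴} (hG : IsEquivOver G) : (postB 𝒲 G).IsEquivalence := by
  obtain ⟨G', ⟨u⟩, ⟨c⟩⟩ := hG
  refine (CategoryTheory.Equivalence.mk (postB 𝒲 G) (postB 𝒲 G')
    (NatIso.ofComponents (fun H => (isoMk (fun a => appIso u (H.obj a))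
      (fun a => based_app_vert u.hom (H.obj a)) fun {a b} φ => u.hom.toNatTrans.naturality (H.map φ)).symm)
      fun {H K} α => based_hom_ext fun a => ?_)
    (NatIso.ofComponents (fun H => isoMk (fun a => appIso c (H.obj a))
      (fun a => based_app_vert c.hom (H.obj a)) fun {a b} φ => c.hom.toNatTrans.naturality (H.map φ))
      fun {H K} α => based_hom_ext fun a => ?_)).isEquivalence_functor
  · exact u.inv.toNatTrans.naturality (α.toNatTrans.app a)
  · exact c.hom.toNatTrans.naturality (α.toNatTrans.app a)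

/-- Restriction commutes with postcomposition. -/
def restrPost {𝒜 : BasedCategory.{v₅, u₅} C} {ℬ : BasedCategory.{v₆, u₆} C} (ι : 𝒜 ⥤ᵇ ℬ) (G : 𝒳 ⥤ᵇ 𝒴) :
    postB ℬ G ⋙ Stk.restr ι 𝒴 ≅ Stk.restr ι 𝒳 ⋙ postB 𝒜 G :=
  NatIso.ofComponents (fun H => Iso.refl _)
    (fun α => (Category.comp_id _).trans ((based_hom_ext fun a => rfl).trans (Category.id_comp _).symm))

theorem isStackFor_iff_of_equiv {G : 𝒳 ⥤ᵇ 𝒴} (hG : IsEquivOver G) {U : C} (R : Sieve U) :
    Stk.IsStackFor R 𝒳 ↔ Stk.IsStackFor R 𝒴 := by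
  have := postB_isEquivalence (𝒲 := overCat U) hG
  have := postB_isEquivalence (𝒲 := Stk.sieveCat R) hG
  constructor
  · intro h
    have : (Stk.resSieve R 𝒳).IsEquivalence := h
    have := Functor.isEquivalence_of_iso (restrPost (Stk.sieveIncl R) G).symm
    exact Functor.isEquivalence_of_comp_left (postB (overCat U) G) _
  · intro h
    have : (Stk.resSieve R 𝒴).IsEquivalence := h
    have := Functor.isEquivalence_of_iso (restrPost (Stk.sieveIncl R) G)
    exact Functor.isEquivalence_of_comp_right _ (postB (Stk.sieveCat R) G)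

theorem isPrestackFor_iff_of_equiv {G : 𝒳 ⥤ᵇ 𝒴} (hG : IsEquivOver G) {U : C} (R : Sieve U) :
    Stk.IsPrestackFor R 𝒳 ↔ Stk.IsPrestackFor R 𝒴 := by
  have := postB_isEquivalence (𝒲 := overCat U) hG
  have := postB_isEquivalence (𝒲 := Stk.sieveCat R) hG
  constructor
  · rintro ⟨_, _⟩
    have := Functor.Faithful.of_iso (restrPost (Stk.sieveIncl R) G).symm
    have := Functor.Full.of_iso (restrPost (Stk.sieveIncl R) G).symm
    let e : Stk.resSieve R 𝒴 ≅ (postB (overCat U) G).asEquivalence.inverse ⋙ postB (overCat U) G ⋙ Stk.resSieve R 𝒴 :=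
      (Functor.leftUnitor _).symm ≪≫ Functor.isoWhiskerRight (postB (overCat U) G).asEquivalence.counitIso.symm _ ≪≫
        Functor.associator _ _ _
    exact ⟨Functor.Full.of_iso e.symm, Functor.Faithful.of_iso e.symm⟩
  · rintro ⟨_, _⟩
    have := Functor.Faithful.of_iso (restrPost (Stk.sieveIncl R) G)
    have := Functor.Full.of_iso (restrPost (Stk.sieveIncl R) G)
    exact ⟨Functor.Full.of_comp_faithful (Stk.resSieve R 𝒳) (postB (Stk.sieveCat R) G),
      Functor.Faithful.of_comp (Stk.resSieve R 𝒳) (postB (Stk.sieveCat R) G)⟩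

theorem isStack_iff_of_equiv (J : GrothendieckTopology C) {G : 𝒳 ⥤ᵇ 𝒴} (hG : IsEquivOver G) :
    Stk.IsStack J 𝒳 ↔ Stk.IsStack J 𝒴 :=
  and_congr (fibGrpd_iff_of_equiv hG)
    (forall_congr' fun U => forall_congr' fun R => imp_congr_right fun _ => isStackFor_iff_of_equiv hG R)

theorem isPrestack_iff_of_equiv (J : GrothendieckTopology C) {G : 𝒳 ⥤ᵇ 𝒴} (hG : IsEquivOver G) :
    Stk.IsPrestack J 𝒳 ↔ Stk.IsPrestack J 𝒴 :=
  and_congr (fibGrpd_iff_of_equiv hG)
    (forall_congr' fun U => forall_congr' fun R => imp_congr_right fun _ => isPrestackFor_iff_of_equiv hG R)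

theorem isStack_isPrestack {J : GrothendieckTopology C} (h : Stk.IsStack J 𝒳) : Stk.IsPrestack J 𝒳 :=
  ⟨h.1, fun U R hR => by
    have : (Stk.resSieve R 𝒳).IsEquivalence := h.2 R hR
    exact ⟨inferInstance, inferInstance⟩⟩

theorem setoid_of_equiv {G : 𝒳 ⥤ᵇ 𝒴} (hG : IsEquivOver G) (h : IsFibSetoid 𝒴.p) : IsFibSetoid 𝒳.p := by
  obtain ⟨h1, h2, -⟩ := EqvData.of_isEquivOver hG
  refine ⟨fibGrpd_of_equiv hG h.1, fun U a b => ⟨fun f g => Subtype.ext (G.toFunctor.map_injective ?_)⟩⟩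
  have := fiberFunctor_faithful G U
  exact congrArg Subtype.val ((h.2 U _ _).elim ((fiberFunctor G U).map f) ((fiberFunctor G U).map g))

theorem setoid_iff_of_equiv {G : 𝒳 ⥤ᵇ 𝒴} (hG : IsEquivOver G) : IsFibSetoid 𝒳.p ↔ IsFibSetoid 𝒴.p := by
  obtain ⟨G', hG', -, -⟩ := exists_inverse hG
  exact ⟨setoid_of_equiv hG', setoid_of_equiv hG⟩

end Equiv

section Fp

variable {F : 𝒳 ⥤ᵇ 𝒮} {G : 𝒴 ⥤ᵇ 𝒮}

variable (F G) in
/-- Functors into a fibre product as pairs of functors with a 2-isomorphism. -/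
def fpPairs (𝒲 : BasedCategory.{v₅, u₅} C) : (𝒲 ⥤ᵇ fp F G) ⥤ CategoricalPullback (postB 𝒲 F) (postB 𝒲 G) where
  obj H :=
    { fst := BasedFunctor.comp H (fpFst F G)
      snd := BasedFunctor.comp H (fpSnd F G)
      iso := isoMk (fun a => (H.obj a).obj.iso)
        (fun a => vert_change 𝒮.p _ (fp_iso_vert (H.obj a)) rfl)
        (fun φ => (H.map φ).hom.w) }
  map {H K} α :=
    { fst := (postB 𝒲 (fpFst F G)).map α
      snd := (postB 𝒲 (fpSnd F G)).map α
      w := based_hom_ext fun a => (α.toNatTrans.app a).hom.w }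
  map_id H := CategoricalPullback.hom_ext ((postB 𝒲 (fpFst F G)).map_id H) ((postB 𝒲 (fpSnd F G)).map_id H)
  map_comp α β := CategoricalPullback.hom_ext ((postB 𝒲 (fpFst F G)).map_comp α β)
    ((postB 𝒲 (fpSnd F G)).map_comp α β)

theorem fpPairs_isEquivalence (𝒲 : BasedCategory.{v₅, u₅} C) : (fpPairs F G 𝒲).IsEquivalence := by
  refine { faithful := ⟨fun {H K} α β h => ?_⟩, full := ⟨fun {H K} k => ?_⟩, essSurj := ⟨fun t => ?_⟩ }
  · exact based_hom_ext fun a => fp_hom_ext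
      (congrArg (fun m => m.toNatTrans.app a) (congrArg CategoricalPullback.Hom.fst h))
      (congrArg (fun m => m.toNatTrans.app a) (congrArg CategoricalPullback.Hom.snd h))
  · refine ⟨⟨{ app := fun a => fpHom (k.fst.toNatTrans.app a) (k.snd.toNatTrans.app a)
                  (congrArg (fun m => m.toNatTrans.app a) k.w)
               naturality := fun a b φ =>
                 fp_hom_ext (k.fst.toNatTrans.naturality φ) (k.snd.toNatTrans.naturality φ) },
        fun a => ?_⟩, CategoricalPullback.hom_ext (based_hom_ext fun a => rfl) (based_hom_ext fun a => rfl)⟩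
    have h := k.fst.isHomLift' a
    exact (vert_iff (fp F G).p _).2 ⟨H.w_obj a, (H.w_obj a).trans (K.w_obj a).symm, based_app_map k.fst a⟩
  · refine ⟨fpLift t.fst t.snd t.iso, ⟨CategoricalPullback.mkIso
      (isoMk (fun a => Iso.refl _) (fun a => IsHomLift.id rfl) fun φ => (Category.comp_id _).trans (Category.id_comp _).symm)
      (isoMk (fun a => Iso.refl _) (fun a => IsHomLift.id rfl) fun φ => (Category.comp_id _).trans (Category.id_comp _).symm)
      (based_hom_ext fun a => ?_)⟩⟩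
    show F.map (𝟙 _) ≫ t.iso.hom.toNatTrans.app a = t.iso.hom.toNatTrans.app a ≫ G.map (𝟙 _)
    rw [F.toFunctor.map_id, G.toFunctor.map_id]
    exact (Category.id_comp _).trans (Category.comp_id _).symm

variable (F G)

/-- The morphism of cospans given by restriction to a sieve. -/
def resTransform {U : C} (R : Sieve U) :
    CatCospanTransform (postB (overCat U) F) (postB (overCat U) G)
      (postB (Stk.sieveCat R) F) (postB (Stk.sieveCat R) G) where
  left := Stk.resSieve R 𝒳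
  base := Stk.resSieve R 𝒮
  right := Stk.resSieve R 𝒴
  squareLeft := ⟨restrPost (Stk.sieveIncl R) F⟩
  squareRight := ⟨restrPost (Stk.sieveIncl R) G⟩

/-- Restriction of pairs. -/
noncomputable def resPairsIso {U : C} (R : Sieve U) :
    fpPairs F G (overCat U) ⋙ categoricalPullbackMap (resTransform F G R) ≅
      Stk.resSieve R (fp F G) ⋙ fpPairs F G (Stk.sieveCat R) :=
  NatIso.ofComponents
    (fun H => CategoricalPullback.mkIso (Iso.refl _) (Iso.refl _) (by
      rw [show ((fpPairs F G (overCat U) ⋙ categoricalPullbackMap (resTransform F G R)).obj H).iso.hom = _ from pbMap_iso _ _]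
      apply based_hom_ext
      intro a
      show F.map (𝟙 _) ≫ _ = (𝟙 _ ≫ _ ≫ 𝟙 _) ≫ G.map (𝟙 _)
      rw [F.toFunctor.map_id, G.toFunctor.map_id]
      exact (Category.id_comp _).trans (((Category.id_comp _).trans (Category.comp_id _)).symm.trans
        (Category.comp_id _).symm)))
    (fun α => CategoricalPullback.hom_ext
      ((Category.comp_id _).trans ((based_hom_ext fun a => rfl).trans (Category.id_comp _).symm))
      ((Category.comp_id _).trans ((based_hom_ext fun a => rfl).trans (Category.id_comp _).symm)))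

theorem isPrestackFor_fp {U : C} (R : Sieve U) (h𝒳 : Stk.IsPrestackFor R 𝒳) (h𝒴 : Stk.IsPrestackFor R 𝒴)
    (h𝒮 : Stk.IsPrestackFor R 𝒮) : Stk.IsPrestackFor R (fp F G) := by
  have := fpPairs_isEquivalence (F := F) (G := G) (overCat U)
  have := fpPairs_isEquivalence (F := F) (G := G) (Stk.sieveCat R)
  have : (resTransform F G R).left.Full := h𝒳.1
  have : (resTransform F G R).left.Faithful := h𝒳.2
  have : (resTransform F G R).right.Full := h𝒴.1
  have : (resTransform F G R).right.Faithful := h𝒴.2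
  have : (resTransform F G R).base.Faithful := h𝒮.2
  have := pbMap_full (resTransform F G R)
  have := pbMap_faithful (resTransform F G R)
  have := Functor.Faithful.of_iso (resPairsIso F G R)
  have := Functor.Full.of_iso (resPairsIso F G R)
  exact ⟨Functor.Full.of_comp_faithful _ (fpPairs F G (Stk.sieveCat R)),
    Functor.Faithful.of_comp _ (fpPairs F G (Stk.sieveCat R))⟩

theorem isStackFor_fp {U : C} (R : Sieve U) (h𝒳 : Stk.IsStackFor R 𝒳) (h𝒴 : Stk.IsStackFor R 𝒴)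
    (h𝒮 : Stk.IsPrestackFor R 𝒮) : Stk.IsStackFor R (fp F G) := by
  have := fpPairs_isEquivalence (F := F) (G := G) (overCat U)
  have := fpPairs_isEquivalence (F := F) (G := G) (Stk.sieveCat R)
  have : (resTransform F G R).left.IsEquivalence := h𝒳
  have : (resTransform F G R).right.IsEquivalence := h𝒴
  have : (resTransform F G R).base.Full := h𝒮.1
  have : (resTransform F G R).base.Faithful := h𝒮.2
  have := pbMap_isEquivalence (resTransform F G R)
  have := Functor.isEquivalence_of_iso (resPairsIso F G R)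
  exact Functor.isEquivalence_of_comp_right _ (fpPairs F G (Stk.sieveCat R))

theorem isStack_fp (J : GrothendieckTopology C) (h𝒳 : Stk.IsStack J 𝒳) (h𝒴 : Stk.IsStack J 𝒴)
    (h𝒮 : Stk.IsPrestack J 𝒮) : Stk.IsStack J (fp F G) :=
  ⟨fibGrpd_fp h𝒳.1 h𝒴.1 h𝒮.1 F G, fun _ R hR => isStackFor_fp F G R (h𝒳.2 R hR) (h𝒴.2 R hR) (h𝒮.2 R hR)⟩

theorem isPrestack_fp (J : GrothendieckTopology C) (h𝒳 : Stk.IsPrestack J 𝒳) (h𝒴 : Stk.IsPrestack J 𝒴)
    (h𝒮 : Stk.IsPrestack J 𝒮) : Stk.IsPrestack J (fp F G) :=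
  ⟨fibGrpd_fp h𝒳.1 h𝒴.1 h𝒮.1 F G, fun _ R hR => isPrestackFor_fp F G R (h𝒳.2 R hR) (h𝒴.2 R hR) (h𝒮.2 R hR)⟩

theorem setoid_fp (h𝒳 : IsFibSetoid 𝒳.p) (h𝒴 : IsFibGrpd 𝒴.p) (h𝒮 : IsFibGrpd 𝒮.p) [G.toFunctor.Faithful] :
    IsFibSetoid (fp F G).p := by
  refine ⟨fibGrpd_fp h𝒳.1 h𝒴 h𝒮 F G, fun U a b => ⟨fun f g => Subtype.ext ?_⟩⟩
  have hf := f.2
  have hg := g.2
  have v1 : 𝒳.p.IsHomLift (𝟙 U) f.1.hom.fst := BasedFunctor.preserves_isHomLift (fpFst F G) (𝟙 U) f.1
  have v2 : 𝒳.p.IsHomLift (𝟙 U) g.1.hom.fst := BasedFunctor.preserves_isHomLift (fpFst F G) (𝟙 U) g.1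
  let A : 𝒳.p.Fiber U := ⟨a.1.obj.fst, a.2⟩
  let B : 𝒳.p.Fiber U := ⟨b.1.obj.fst, b.2⟩
  have h1 : f.1.hom.fst = g.1.hom.fst := congrArg Subtype.val ((h𝒳.2 U A B).elim ⟨_, v1⟩ ⟨_, v2⟩)
  refine fp_hom_ext h1 (G.toFunctor.map_injective ?_)
  rw [← cancel_epi a.1.obj.iso.hom, ← f.1.hom.w, ← g.1.hom.w, h1]

theorem setoid_fp' (h𝒳 : IsFibGrpd 𝒳.p) (h𝒴 : IsFibSetoid 𝒴.p) (h𝒮 : IsFibGrpd 𝒮.p) [F.toFunctor.Faithful] :
    IsFibSetoid (fp F G).p := by
  refine ⟨fibGrpd_fp h𝒳 h𝒴.1 h𝒮 F G, fun U a b => ⟨fun f g => Subtype.ext ?_⟩⟩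
  have hf := f.2
  have hg := g.2
  have v1 : 𝒴.p.IsHomLift (𝟙 U) f.1.hom.snd := BasedFunctor.preserves_isHomLift (fpSnd F G) (𝟙 U) f.1
  have v2 : 𝒴.p.IsHomLift (𝟙 U) g.1.hom.snd := BasedFunctor.preserves_isHomLift (fpSnd F G) (𝟙 U) g.1
  let A : 𝒴.p.Fiber U := ⟨a.1.obj.snd, (fp_base_eq a.1).trans a.2⟩
  let B : 𝒴.p.Fiber U := ⟨b.1.obj.snd, (fp_base_eq b.1).trans b.2⟩
  have h1 : f.1.hom.snd = g.1.hom.snd := congrArg Subtype.val ((h𝒴.2 U A B).elim ⟨_, v1⟩ ⟨_, v2⟩)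
  refine fp_hom_ext (F.toFunctor.map_injective ?_) h1
  rw [← cancel_mono b.1.obj.iso.hom, f.1.hom.w, g.1.hom.w, h1]

theorem faithful_of_setoid (h : IsFibSetoid 𝒳.p) (h𝒮 : IsFibGrpd 𝒮.p) : F.toFunctor.Faithful :=
  faithful_of_fiberFunctor F h.1 h𝒮 fun U => ⟨fun {a b} f g _ => (h.2 U a b).elim f g⟩

end Fp

end Groth.Agent.Stk19
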