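import Groth.Agent.Stk19.RepDiag
import Groth.Agent.Stk19.Precomp
import Groth.Agent.Stk19.Stack

/-! Calculus of relative diagonals over the base. -/

set_option autoImplicit false
set_option backward.isDefEq.respectTransparency false
set_option backward.isDefEq.respectTransparency.types false

universe v₇ u₇ v₆ u₆ v₅ u₅ v₄ u₄ v₃ u₃ v₂ u₂ v u

open CategoryTheory CategoryTheory.Limits FibCat

namespace Groth.Agent.Stk19

variable {C : Type u} [Category.{v} C]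
variable {𝒳 : BasedCategory.{v₂, u₂} C} {𝒴 : BasedCategory.{v₃, u₃} C} {𝒵 : BasedCategory.{v₄, u₄} C}
  {𝒳' : BasedCategory.{v₅, u₅} C} {𝒴' : BasedCategory.{v₆, u₆} C}

section Square

variable {f : 𝒳 ⥤ᵇ 𝒴} {f' : 𝒳' ⥤ᵇ 𝒴'} (a : 𝒳' ⥤ᵇ 𝒳) (b : 𝒴' ⥤ᵇ 𝒴)
  (e : BasedFunctor.comp f' b ≅ BasedFunctor.comp a f)

/-- The map of relative squares induced by a 2-commutative square. -/
abbrev pairMap : fp f' f' ⥤ᵇ fp f f := fpMap a a b e e

/-- The diagonals of a 2-commutative square commute. -/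
def diagMapIso : BasedFunctor.comp (FibCat.diag f') (pairMap a b e) ≅ BasedFunctor.comp a (FibCat.diag f) :=
  isoMk (fun x => fpIsoMk (Iso.refl _) (Iso.refl _) (by
      show f.map (𝟙 _) ≫ 𝟙 _ = (e.inv.toNatTrans.app x ≫ b.map (𝟙 _) ≫ e.hom.toNatTrans.app x) ≫ f.map (𝟙 _)
      rw [b.toFunctor.map_id, f.toFunctor.map_id]
      simp
      exact ((appIso e x).inv_hom_id).symm.trans
        (congrArg (e.inv.toNatTrans.app x ≫ ·) ((Category.id_comp _).trans (Category.comp_id _)).symm)))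
    (fun x => vert_change (fp f f).p _ (fpIsoMk_vert _ _ _ (IsHomLift.id rfl)) rfl)
    (fun φ => fp_hom_ext ((Category.comp_id _).trans (Category.id_comp _).symm)
      ((Category.comp_id _).trans (Category.id_comp _).symm))

end Square

section BaseChange

variable (g : 𝒴' ⥤ᵇ 𝒴) (f : 𝒳 ⥤ᵇ 𝒴)

/-- The map to the relative square of a base change. -/
abbrev bcPair : fp (fpFst g f) (fpFst g f) ⥤ᵇ fp f f := pairMap (fpSnd g f) g (fpIso g f)

/-- The diagonal of a base change is a base change of the diagonal. -/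
def diagBaseChange : fp g f ⥤ᵇ fp (bcPair g f) (FibCat.diag f) :=
  fpLift (FibCat.diag (fpFst g f)) (fpSnd g f) (diagMapIso (fpSnd g f) g (fpIso g f))

theorem diagBaseChange_fst :
    BasedFunctor.comp (diagBaseChange g f) (fpFst (bcPair g f) (FibCat.diag f)) = FibCat.diag (fpFst g f) := rfl

theorem isEquivOver_diagBaseChange : IsEquivOver (diagBaseChange g f) := by
  refine EqvData.isEquivOver ⟨⟨fun {s t} k => ?_⟩, ⟨fun {s t} k k' h => ?_⟩, fun z => ?_⟩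
  · have h0 : k.hom.fst.hom.fst.hom.fst ≫ 𝟙 _ = 𝟙 _ ≫ k.hom.fst.hom.snd.hom.fst := k.hom.fst.hom.w
    have h1 : k.hom.fst.hom.fst.hom.snd ≫ 𝟙 _ = 𝟙 _ ≫ k.hom.snd := congrArg (fun m => m.hom.fst) k.hom.w
    have h2 : k.hom.fst.hom.snd.hom.snd ≫ 𝟙 _ = 𝟙 _ ≫ k.hom.snd := congrArg (fun m => m.hom.snd) k.hom.w
    rw [Category.comp_id, Category.id_comp] at h0 h1 h2
    exact ⟨k.hom.fst.hom.fst, fp_hom_ext (fp_hom_ext rfl (fp_hom_ext h0 (h1.trans h2.symm))) h1⟩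
  · exact congrArg (fun m => m.hom.fst.hom.fst) h
  · let i₁ : z.obj.fst.obj.fst.obj.snd ≅ z.obj.snd := (fpFst f f).toFunctor.mapIso z.obj.iso
    let i₂ : z.obj.fst.obj.snd.obj.snd ≅ z.obj.snd := (fpSnd f f).toFunctor.mapIso z.obj.iso
    have hw : f.map i₁.hom ≫ 𝟙 _ = (z.obj.fst.obj.fst.obj.iso.inv ≫ g.map z.obj.fst.obj.iso.hom ≫
        z.obj.fst.obj.snd.obj.iso.hom) ≫ f.map i₂.hom := z.obj.iso.hom.hom.w
    rw [Category.comp_id] at hw
    let j : z.obj.fst.obj.fst ≅ z.obj.fst.obj.snd := fpIsoMk z.obj.fst.obj.iso (i₁ ≪≫ i₂.symm) (by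
      show g.map z.obj.fst.obj.iso.hom ≫ z.obj.fst.obj.snd.obj.iso.hom =
        z.obj.fst.obj.fst.obj.iso.hom ≫ f.map (i₁.hom ≫ i₂.inv)
      have : f.map i₂.hom ≫ f.map i₂.inv = 𝟙 _ := (f.toFunctor.mapIso i₂).hom_inv_id
      rw [f.toFunctor.map_comp, hw]
      simp [this])
    refine ⟨z.obj.fst.obj.fst, fpIsoMk (fpIsoMk (Iso.refl _) j ?_) i₁ ?_,
      fpIsoMk_vert _ _ _ (fpIsoMk_vert _ _ _ (IsHomLift.id rfl))⟩
    · exact (Category.id_comp _).trans (Category.id_comp _).symm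
    · apply fp_hom_ext
      · show 𝟙 _ ≫ i₁.hom = 𝟙 _ ≫ i₁.hom
        rfl
      · show (i₁.hom ≫ i₂.inv) ≫ i₂.hom = 𝟙 _ ≫ i₁.hom
        simp

end BaseChange

section Comp

variable (f : 𝒳 ⥤ᵇ 𝒴) (g : 𝒴 ⥤ᵇ 𝒵)

/-- The diagonal of a composite. -/
def diagCompIso : BasedFunctor.comp (FibCat.diag f) (fpPush f f g) ≅ FibCat.diag (BasedFunctor.comp f g) :=
  isoMk (fun x => fpIsoMk (Iso.refl _) (Iso.refl _) (by
      show g.map (f.map (𝟙 _)) ≫ 𝟙 _ = g.map (𝟙 _) ≫ g.map (f.map (𝟙 _))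
      simp only [CategoryTheory.Functor.map_id]))
    (fun x => fpIsoMk_vert _ _ _ (IsHomLift.id rfl))
    (fun φ => fp_hom_ext ((Category.comp_id _).trans (Category.id_comp _).symm)
      ((Category.comp_id _).trans (Category.id_comp _).symm))

theorem relMagic_fst :
    BasedFunctor.comp (relMagic f f g) (fpFst (relPairMap f f g) (FibCat.diag g)) = fpPush f f g := rfl

end Comp

section Lift

variable {𝒰 : BasedCategory.{v₅, u₅} C} (f : 𝒳 ⥤ᵇ 𝒴)

/-- Every family of pairs comes from the relative square of a base change. -/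
theorem exists_bcPair_lift (y : 𝒰 ⥤ᵇ fp f f) :
    ∃ y' : 𝒰 ⥤ᵇ fp (fpFst (BasedFunctor.comp (BasedFunctor.comp y (fpFst f f)) f) f)
        (fpFst (BasedFunctor.comp (BasedFunctor.comp y (fpFst f f)) f) f),
      Nonempty (BasedFunctor.comp y' (bcPair (BasedFunctor.comp (BasedFunctor.comp y (fpFst f f)) f) f) ≅ y) := by
  let y₀ := BasedFunctor.comp (BasedFunctor.comp y (fpFst f f)) f
  let a₁ : 𝒰 ⥤ᵇ fp y₀ f := fpLift (BasedFunctor.id _) (BasedFunctor.comp y (fpFst f f)) (Iso.refl _)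
  let a₂ : 𝒰 ⥤ᵇ fp y₀ f := fpLift (BasedFunctor.id _) (BasedFunctor.comp y (fpSnd f f))
    ((Stk.restr y _).mapIso (fpIso f f))
  refine ⟨fpLift a₁ a₂ (Iso.refl (BasedFunctor.id _)), ⟨isoMk (fun u => fpIsoMk (Iso.refl _) (Iso.refl _) ?_)
    (fun u => fpIsoMk_vert _ _ _ (IsHomLift.id rfl))
    (fun φ => fp_hom_ext ((Category.comp_id _).trans (Category.id_comp _).symm)
      ((Category.comp_id _).trans (Category.id_comp _).symm))⟩⟩
  show f.map (𝟙 _) ≫ (y.obj u).obj.iso.hom = (𝟙 _ ≫ y₀.map (𝟙 u) ≫ (y.obj u).obj.iso.hom) ≫ f.map (𝟙 _)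
  rw [y₀.toFunctor.map_id, CategoryTheory.Functor.map_id, CategoryTheory.Functor.map_id]
  simp

end Lift

end Groth.Agent.Stk19
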