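import Groth.Agent.Stk19.Slice
import Groth.Prelude.Def_W4stkcategoriessitesFib

/-! The 2-Yoneda lemma for categories fibred in groupoids. -/

set_option autoImplicit false
set_option backward.isDefEq.respectTransparency false
set_option backward.isDefEq.respectTransparency.types false

universe v₅ u₅ v₄ u₄ v₃ u₃ v₂ u₂ v u

open CategoryTheory FibCat Groth.Agent.Desc19

namespace Groth.Agent.Stk19

variable {C : Type u} [Category.{v} C] {𝒳 : BasedCategory.{v₂, u₂} C} {U : C}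

/-- The tautological arrow to the terminal object of a slice. -/
abbrev toId (a : (overCat U).obj) : a ⟶ Over.mk (𝟙 U) := Over.homMk a.hom

theorem toId_natural {a b : (overCat U).obj} (φ : a ⟶ b) : φ ≫ toId b = toId a :=
  Over.OverMorphism.ext (Over.w φ)

theorem yoneda_ext (h : IsFibGrpd 𝒳.p) {F G : overCat U ⥤ᵇ 𝒳} {α β : F ⟶ G}
    (e : α.toNatTrans.app (Over.mk (𝟙 U)) = β.toNatTrans.app (Over.mk (𝟙 U))) : α = β := by
  apply BasedNatTrans.homCategory.ext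
  apply NatTrans.ext
  funext a
  refine fibGrpd_ext h (G.map (toId a)) ((based_app_map α a).trans (based_app_map β a).symm) ?_
  rw [← α.toNatTrans.naturality (toId a), ← β.toNatTrans.naturality (toId a), e]

theorem yoneda_exists (h : IsFibGrpd 𝒳.p) (F G : overCat U ⥤ᵇ 𝒳)
    (t : F.obj (Over.mk (𝟙 U)) ⟶ G.obj (Over.mk (𝟙 U))) (ht : 𝒳.p.IsHomLift (𝟙 U) t) :
    ∃ α : F ⟶ G, α.toNatTrans.app (Over.mk (𝟙 U)) = t := by
  have htm := map_eq_of_vert 𝒳.p (R := U) t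
  have key : ∀ a, ∃! c : F.obj a ⟶ G.obj a,
      𝒳.p.map c = eqToHom ((F.w_obj a).trans (G.w_obj a).symm) ∧ c ≫ G.map (toId a) = F.map (toId a) ≫ t :=
    fun a => fibGrpd_fac h _ _ _ (by rw [𝒳.p.map_comp, based_map F, based_map G, htm]; simp)
  choose c hc hu using key
  refine ⟨{ app := c, naturality := fun a b φ => fibGrpd_ext h (G.map (toId b)) ?_ ?_, isHomLift' := fun a => ?_ }, ?_⟩
  · rw [𝒳.p.map_comp, 𝒳.p.map_comp, based_map F, based_map G, (hc a).1, (hc b).1]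
    simp
  · rw [Category.assoc, (hc b).2, Category.assoc, ← G.toFunctor.map_comp, toId_natural, (hc a).2,
      ← Category.assoc, ← F.toFunctor.map_comp, toId_natural]
  · exact vert_change 𝒳.p _ (vert_of_map_eq 𝒳.p (hc a).1) (F.w_obj a)
  · have e : toId (Over.mk (𝟙 U)) = 𝟙 _ := Over.OverMorphism.ext rfl
    refine (hu _ t ⟨by rw [htm], ?_⟩).symm
    rw [e, G.toFunctor.map_id, F.toFunctor.map_id]
    simp

theorem yoneda_essSurj (h : IsFibGrpd 𝒳.p) (x : 𝒳.p.Fiber U) :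
    ∃ F : overCat U ⥤ᵇ 𝒳, Nonempty ((evalAtId 𝒳 U).obj F ≅ x) := by
  have hp : ∀ a : (overCat U).obj, ∃ (y : 𝒳.obj) (φ : y ⟶ x.1) (e : 𝒳.p.obj y = a.left),
      𝒳.p.map φ = eqToHom e ≫ a.hom ≫ eqToHom x.2.symm := fun a => fibGrpd_lift h x.1 _
  choose y φ e hφ using hp
  have hf : ∀ (p : Σ a b : (overCat U).obj, a ⟶ b), ∃! χ : y p.1 ⟶ y p.2.1,
      𝒳.p.map χ = eqToHom (e p.1) ≫ p.2.2.left ≫ eqToHom (e p.2.1).symm ∧ χ ≫ φ p.2.1 = φ p.1 :=
    fun ⟨a, b, g⟩ => fibGrpd_fac h _ _ _ (by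
      rw [hφ, hφ]
      simp only [Category.assoc, eqToHom_trans_assoc, eqToHom_refl, Category.id_comp]
      rw [← Category.assoc g.left, Over.w g])
  choose m hm hu using hf
  let F : overCat U ⥤ᵇ 𝒳 :=
    { toFunctor :=
        { obj := y
          map := fun {a b} g => m ⟨a, b, g⟩
          map_id := fun a => (hu ⟨a, a, 𝟙 a⟩ _ ⟨by
            rw [show (𝟙 a : a ⟶ a).left = 𝟙 a.left from rfl]; simp, Category.id_comp _⟩).symm
          map_comp := fun {a b c} g g' => (hu ⟨a, c, g ≫ g'⟩ _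
            ⟨by rw [𝒳.p.map_comp, (hm ⟨a, b, g⟩).1, (hm ⟨b, c, g'⟩).1,
              show (g ≫ g').left = g.left ≫ g'.left from rfl]; simp,
             by rw [Category.assoc, (hm ⟨b, c, g'⟩).2, (hm ⟨a, b, g⟩).2]⟩).symm }
      w := CategoryTheory.Functor.ext e (fun a b g => (hm ⟨a, b, g⟩).1) }
  refine ⟨F, ?_⟩
  have hlift : 𝒳.p.IsHomLift (𝟙 U) (φ (Over.mk (𝟙 U))) :=
    (vert_iff _ _).2 ⟨e _, (e _).trans x.2.symm, by rw [hφ]; simp⟩
  let t : (evalAtId 𝒳 U).obj F ⟶ x := ⟨φ (Over.mk (𝟙 U)), hlift⟩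
  have := (fibGrpd_iff.1 h).2 U
  have : IsIso t := IsGroupoid.all_isIso _
  exact ⟨asIso t⟩

theorem evalAtId_isEquivalence (h : IsFibGrpd 𝒳.p) (U : C) : (evalAtId 𝒳 U).IsEquivalence :=
  { full := ⟨fun {F G} t => by
      obtain ⟨α, hα⟩ := yoneda_exists h F G t.1 t.2
      exact ⟨α, Subtype.ext hα⟩⟩
    faithful := ⟨fun hab => yoneda_ext h (congrArg Subtype.val hab)⟩
    essSurj := ⟨fun x => (yoneda_essSurj h x).elim fun F hF => ⟨F, hF⟩⟩ }

/-- An object over `U` is the value at the identity of a functor from the slice, up to vertical isomorphism. -/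
theorem exists_classifying (h : IsFibGrpd 𝒳.p) (x : 𝒳.obj) (hx : 𝒳.p.obj x = U) :
    ∃ (F : overCat U ⥤ᵇ 𝒳) (i : F.obj (Over.mk (𝟙 U)) ≅ x), 𝒳.p.IsHomLift (𝟙 U) i.hom := by
  obtain ⟨F, ⟨i⟩⟩ := yoneda_essSurj h ⟨x, hx⟩
  exact ⟨F, Functor.Fiber.fiberInclusion.mapIso i, i.hom.2⟩

theorem yoneda_iso (h : IsFibGrpd 𝒳.p) (F G : overCat U ⥤ᵇ 𝒳)
    (t : F.obj (Over.mk (𝟙 U)) ≅ G.obj (Over.mk (𝟙 U))) (ht : 𝒳.p.IsHomLift (𝟙 U) t.hom) :
    ∃ e : F ≅ G, e.hom.toNatTrans.app (Over.mk (𝟙 U)) = t.hom := by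
  obtain ⟨α, hα⟩ := yoneda_exists h F G t.hom ht
  obtain ⟨β, hβ⟩ := yoneda_exists h G F t.inv (vert_inv 𝒳.p t ht)
  refine ⟨⟨α, β, yoneda_ext h ?_, yoneda_ext h ?_⟩, hα⟩
  · show α.toNatTrans.app _ ≫ β.toNatTrans.app _ = 𝟙 _
    rw [hα, hβ, t.hom_inv_id]
  · show β.toNatTrans.app _ ≫ α.toNatTrans.app _ = 𝟙 _
    rw [hα, hβ, t.inv_hom_id]

theorem isIso_of_fibGrpd {𝒲 : BasedCategory.{v₃, u₃} C} (h : IsFibGrpd 𝒳.p) {F G : 𝒲 ⥤ᵇ 𝒳} (α : F ⟶ G) :
    IsIso α := by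
  have hh : ∀ a, IsIso (α.toNatTrans.app a) := fun a =>
    have := α.isHomLift' a
    fibGrpd_isIso_vert h (R := 𝒲.p.obj a) _
  have : IsIso (X := F.toFunctor) α.toNatTrans := NatIso.isIso_of_isIso_app _
  exact BasedNatIso.isIso_of_toNatTrans_isIso α

end Groth.Agent.Stk19
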