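import Mathlib.Topology.Spectral.ConstructibleTopology
import Mathlib.Topology.Spectral.Hom
import Mathlib.Topology.Inseparable

/-! Quotients of spectral spaces by open spectral relations. -/

set_option autoImplicit false

universe u v w

open Topology TopologicalSpace

namespace Groth.Agent.Stk19

variable {X : Type u} [TopologicalSpace X] {U : Type v} [TopologicalSpace U] {R : Type w} [TopologicalSpace R]

/-- A centred family of constructibly closed sets of a spectral space has a common point. -/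
theorem exists_mem_of_cons_closed [SpectralSpace R] {ι : Type*} (A : ι → Set R)
    (hA : ∀ i, IsClosed[constructibleTopology R] (A i))
    (h : ∀ σ : Finset ι, ∃ r, ∀ i ∈ σ, r ∈ A i) : ∃ r, ∀ i, r ∈ A i := by
  letI : TopologicalSpace (WithConstructibleTopology R) := inferInstance
  let f := WithTopology.toTopology (X := R) (constructibleTopology R)
  by_contra hne
  have hcl : ∀ i, IsClosed (f '' A i) := fun i =>
    WithConstructibleTopology.isClosed_iff.2
      ((Set.preimage_image_eq (A i) (fun a b hab => congrArg WithTopology.ofTopology hab)).symm ▸ hA i)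
  have he : (⋂ i, f '' A i) = ∅ := Set.eq_empty_iff_forall_notMem.2 fun x hx => by
    obtain ⟨r, rfl⟩ := WithTopology.toTopology_surjective _ x
    refine hne ⟨r, fun i => ?_⟩
    obtain ⟨r', hr', e⟩ := Set.mem_iInter.1 hx i
    obtain rfl : r' = r := WithTopology.toTopology_injective _ e
    exact hr'
  obtain ⟨σ, hσ⟩ := isCompact_univ.elim_finite_subfamily_closed _ hcl (by rw [Set.univ_inter, he])
  obtain ⟨r, hr⟩ := h σ
  exact (Set.eq_empty_iff_forall_notMem.1 hσ (f r)) ⟨trivial, Set.mem_iInter₂.2 fun i hi => ⟨r, hr i hi, rfl⟩⟩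

theorem cons_clopen {W : Set R} (hW : IsOpen W) (hc : IsCompact W) :
    IsOpen[constructibleTopology R] W ∧ IsClosed[constructibleTopology R] W :=
  ⟨hc.isOpen_constructibleTopology_of_isOpen hW, (@isOpen_compl_iff R W (constructibleTopology R)).1
    (IsCompact.isOpen_constructibleTopology_of_isClosed (by rwa [compl_compl]) hW.isClosed_compl)⟩

theorem isClosed_cond [SpectralSpace R] (P : Prop) {B : Set R} (hP : P → IsClosed[constructibleTopology R] B) :
    IsClosed[constructibleTopology R] {r | P → r ∈ B} := by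
  by_cases h : P
  · simpa [h] using hP h
  · simpa [h] using @isClosed_univ R (constructibleTopology R)

/-- A point of `R` over `x` whose image generises all the points of `C`. -/
theorem exists_lift_generising [SpectralSpace U] [SpectralSpace R] (s t : R → U) (hs : IsSpectralMap s)
    (ht : IsSpectralMap t) (x : U) (C : Set U)
    (h : ∀ σ : Finset (Set U), (∀ W ∈ σ, IsOpen W ∧ IsCompact W ∧ (C ∩ W).Nonempty) →
      ∃ r, s r = x ∧ ∀ W ∈ σ, t r ∈ W) :
    ∃ r, s r = x ∧ ∀ c ∈ C, t r ⤳ c := by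
  classical
  let A : {W : Set U // IsOpen W ∧ IsCompact W} → Set R := fun W =>
    {r | x ∈ W.1 → r ∈ s ⁻¹' W.1} ∩ {r | x ∉ W.1 → r ∈ (s ⁻¹' W.1)ᶜ} ∩ {r | (C ∩ W.1).Nonempty → r ∈ t ⁻¹' W.1}
  have hA : ∀ W, IsClosed[constructibleTopology R] (A W) := fun W => by
    have h1 := cons_clopen (W.2.1.preimage hs.continuous) (hs.isCompact_preimage_of_isOpen W.2.1 W.2.2)
    have h2 := cons_clopen (W.2.1.preimage ht.continuous) (ht.isCompact_preimage_of_isOpen W.2.1 W.2.2)
    exact @IsClosed.inter R _ _ (constructibleTopology R) (@IsClosed.inter R _ _ (constructibleTopology R)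
      (isClosed_cond _ fun _ => h1.2) (isClosed_cond _ fun _ => @IsOpen.isClosed_compl R (constructibleTopology R) _ h1.1))
      (isClosed_cond _ fun _ => h2.2)
  obtain ⟨r, hr⟩ := exists_mem_of_cons_closed A hA fun σ => by
    obtain ⟨r, hr, ht'⟩ := h ((σ.filter fun W => (C ∩ W.1).Nonempty).image Subtype.val) fun W hW => by
      obtain ⟨W', hW', rfl⟩ := Finset.mem_image.1 hW
      exact ⟨W'.2.1, W'.2.2, (Finset.mem_filter.1 hW').2⟩
    exact ⟨r, fun W hW => ⟨⟨fun hx => show s r ∈ W.1 from hr.symm ▸ hx, fun hx => show s r ∉ W.1 from hr.symm ▸ hx⟩,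
      fun hC => ht' _ (Finset.mem_image.2 ⟨W, Finset.mem_filter.2 ⟨hW, hC⟩, rfl⟩)⟩⟩
  have key : ∀ {a b : U}, (∀ W, IsOpen W → IsCompact W → b ∈ W → a ∈ W) → a ⤳ b := fun {a b} h' =>
    specializes_iff_forall_open.2 fun O hO hb => by
      obtain ⟨W, ⟨hW, hWc⟩, hbW, hWO⟩ := PrespectralSpace.isTopologicalBasis.exists_subset_of_mem_open hb hO
      exact hWO (h' W hW hWc hbW)
  refine ⟨r, Inseparable.eq ((key fun W hW hWc hx => (hr ⟨W, hW, hWc⟩).1.1 hx).antisymm (key fun W hW hWc hx => ?_)),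
    fun c hc => key fun W hW hWc hcW => (hr ⟨W, hW, hWc⟩).2 ⟨c, hc, hcW⟩⟩
  by_contra hx'
  exact (hr ⟨W, hW, hWc⟩).1.2 hx' hx

variable (π : U → X) (s t : R → U)

theorem t0_of_relation [SpectralSpace U] [SpectralSpace R] (hc : Continuous π) (ho : IsOpenMap π)
    (hsurj : Function.Surjective π) (hs : IsSpectralMap s) (ht : IsSpectralMap t)
    (hst : ∀ r, π (s r) = π (t r)) (hker : ∀ a b, π a = π b → ∃ r, s r = a ∧ t r = b) : T0Space X := by
  classical
  have gen : ∀ {a b}, π a ⤳ π b → ∃ a', π a' = π a ∧ a' ⤳ b := fun {a b} h => by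
    obtain ⟨r, hr, hr'⟩ := exists_lift_generising s t hs ht a {b} fun σ hσ => by
      have hb : b ∈ ⋂₀ (σ : Set (Set U)) := fun W hW => by
        obtain ⟨c, hc', hcW⟩ := (hσ W hW).2.2
        rwa [Set.mem_singleton_iff.1 hc'] at hcW
      obtain ⟨a', ha', e⟩ := h.mem_open (ho _ (σ.finite_toSet.isOpen_sInter fun W hW => (hσ W hW).1)) ⟨b, hb, rfl⟩
      obtain ⟨r, rfl, rfl⟩ := hker a a' e.symm
      exact ⟨r, rfl, fun W hW => ha' W hW⟩
    exact ⟨t r, (hst r).symm.trans (congrArg π hr), hr' b rfl⟩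
  refine ⟨fun x y hxy => ?_⟩
  obtain ⟨a, rfl⟩ := hsurj x
  obtain ⟨b, rfl⟩ := hsurj y
  let O := {a' : U // π a' = π a}
  have hch : ∀ C : Set O, IsChain (fun p q : O => q.1 ⤳ p.1) C → ∃ ub : O, ∀ c ∈ C, ub.1 ⤳ c.1 := fun C hC => by
    rcases C.eq_empty_or_nonempty with rfl | ⟨c₀, hc₀⟩
    · exact ⟨⟨a, rfl⟩, fun _ h => h.elim⟩
    obtain ⟨r, hr, hr'⟩ := exists_lift_generising s t hs ht a (Subtype.val '' C) fun σ hσ => by
      have : ∃ c ∈ C, ∀ W ∈ σ, c.1 ∈ W := by
        induction σ using Finset.induction_on with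
        | empty => exact ⟨c₀, hc₀, fun _ h => (Finset.notMem_empty _ h).elim⟩
        | @insert W σ _ ih =>
          obtain ⟨c, hc', hcW⟩ := ih fun V hV => hσ V (Finset.mem_insert_of_mem hV)
          obtain ⟨hWo, -, _, ⟨d, hd, rfl⟩, hdW⟩ := hσ W (Finset.mem_insert_self _ _)
          rcases eq_or_ne c d with rfl | hne
          · exact ⟨c, hc', fun V hV => (Finset.mem_insert.1 hV).elim (fun e => e ▸ hdW) (hcW V)⟩
          rcases hC hc' hd hne with h | h
          · exact ⟨d, hd, fun V hV => (Finset.mem_insert.1 hV).elim (fun e => e ▸ hdW)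
              fun hV' => h.mem_open (hσ V hV).1 (hcW V hV')⟩
          · exact ⟨c, hc', fun V hV => (Finset.mem_insert.1 hV).elim (fun e => e ▸ h.mem_open hWo hdW) (hcW V)⟩
      obtain ⟨c, -, hcW⟩ := this
      obtain ⟨r, hr₁, hr₂⟩ := hker a c.1 c.2.symm
      exact ⟨r, hr₁, fun W hW => hr₂ ▸ hcW W hW⟩
    exact ⟨⟨t r, (hst r).symm.trans (congrArg π hr)⟩, fun c hc' => hr' _ ⟨c, hc', rfl⟩⟩
  obtain ⟨m, hm⟩ := exists_maximal_of_chains_bounded hch (fun h₁ h₂ => h₂.trans h₁)
  obtain ⟨b', hb', hbm⟩ := gen (a := b) (b := m.1) (by rw [m.2]; exact hxy.specializes')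
  obtain ⟨a', ha', hab⟩ := gen (a := a) (b := b') (by rw [hb']; exact hxy.specializes)
  have h1 : m.1 ⤳ a' := hm ⟨a', ha'⟩ (hab.trans hbm)
  have : b' = m.1 := Inseparable.eq (hbm.antisymm (h1.trans hab))
  rw [← hb', this, m.2]

/-- The quotient of a spectral space by an open spectral relation is spectral. -/
theorem spectralSpace_of_relation [SpectralSpace U] [SpectralSpace R] (hc : Continuous π) (ho : IsOpenMap π)
    (hsurj : Function.Surjective π) (hs : IsSpectralMap s) (ht : IsSpectralMap t)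
    (hst : ∀ r, π (s r) = π (t r)) (hker : ∀ a b, π a = π b → ∃ r, s r = a ∧ t r = b) : SpectralSpace X := by
  classical
  have hsat : ∀ O : Set U, π ⁻¹' (π '' O) = t '' (s ⁻¹' O) := fun O => by
    ext b
    constructor
    · rintro ⟨a, ha, e⟩
      obtain ⟨r, rfl, rfl⟩ := hker a b e
      exact ⟨r, ha, rfl⟩
    · rintro ⟨r, hr, rfl⟩
      exact ⟨s r, hr, hst r⟩
  have hpre : ∀ A : Set X, IsOpen A → IsCompact A → IsCompact (π ⁻¹' A) := fun A hA hA' => by
    obtain ⟨σ, hσ⟩ := hA'.elim_finite_subcover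
      (fun W : {W : Set U // (IsOpen W ∧ IsCompact W) ∧ W ⊆ π ⁻¹' A} => π '' W.1) (fun W => ho _ W.2.1.1)
      (fun x hx => by
        obtain ⟨a, rfl⟩ := hsurj x
        obtain ⟨W, hW, haW, hWA⟩ := PrespectralSpace.isTopologicalBasis.exists_subset_of_mem_open
          (show a ∈ π ⁻¹' A from hx) (hA.preimage hc)
        exact Set.mem_iUnion.2 ⟨⟨W, hW, hWA⟩, a, haW, rfl⟩)
    have e : A = π '' ⋃ W ∈ σ, W.1 := by
      simp only [Set.image_iUnion]
      exact hσ.antisymm (Set.iUnion₂_subset fun W _ => Set.image_subset_iff.2 W.2.2)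
    rw [e, hsat]
    exact (hs.isCompact_preimage_of_isOpen (isOpen_biUnion fun W _ => W.2.1.1)
      (σ.isCompact_biUnion fun W _ => W.2.1.2)).image ht.continuous
  have hb : IsTopologicalBasis {A : Set X | IsOpen A ∧ IsCompact A} :=
    isTopologicalBasis_of_isOpen_of_nhds (fun A hA => hA.1) fun x O hx hO => by
      obtain ⟨a, rfl⟩ := hsurj x
      obtain ⟨W, ⟨hW, hWc⟩, haW, hWO⟩ := PrespectralSpace.isTopologicalBasis.exists_subset_of_mem_open
        (show a ∈ π ⁻¹' O from hx) (hO.preimage hc)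
      exact ⟨π '' W, ⟨ho _ hW, hWc.image hc⟩, ⟨a, haW, rfl⟩, Set.image_subset_iff.2 hWO⟩
  have := t0_of_relation π s t hc ho hsurj hs ht hst hker
  have : CompactSpace X := ⟨hsurj.range_eq ▸ isCompact_range hc⟩
  have : QuasiSeparatedSpace X := ⟨fun A B hA hA' hB hB' => by
    rw [← Set.image_preimage_eq (A ∩ B) hsurj, Set.preimage_inter]
    exact (QuasiSeparatedSpace.inter_isCompact _ _ (hA.preimage hc) (hpre A hA hA') (hB.preimage hc) (hpre B hB hB')).image hc⟩
  have : QuasiSober X := ⟨fun {Z} hZ hZc => by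
    let A : {W : Set X // IsOpen W ∧ IsCompact W} → Set U := fun W =>
      {a | (Z ∩ W.1).Nonempty → a ∈ π ⁻¹' W.1} ∩ {a | ¬(Z ∩ W.1).Nonempty → a ∈ (π ⁻¹' W.1)ᶜ}
    have hA : ∀ W, IsClosed[constructibleTopology U] (A W) := fun W => by
      have h1 := cons_clopen (W.2.1.preimage hc) (hpre _ W.2.1 W.2.2)
      exact @IsClosed.inter U _ _ (constructibleTopology U) (isClosed_cond _ fun _ => h1.2)
        (isClosed_cond _ fun _ => @IsOpen.isClosed_compl U (constructibleTopology U) _ h1.1)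
    obtain ⟨a, ha⟩ := exists_mem_of_cons_closed A hA fun σ => by
      obtain ⟨z, hz, hzW⟩ := isIrreducible_iff_sInter.1 hZ
        ((σ.filter fun W => (Z ∩ W.1).Nonempty).image Subtype.val)
        (fun W hW => by obtain ⟨W', -, rfl⟩ := Finset.mem_image.1 hW; exact W'.2.1)
        (fun W hW => by obtain ⟨W', hW', rfl⟩ := Finset.mem_image.1 hW; exact (Finset.mem_filter.1 hW').2)
      obtain ⟨a, rfl⟩ := hsurj z
      exact ⟨a, fun W hW => ⟨fun hn => hzW W.1 (Finset.mem_coe.2 (Finset.mem_image.2 ⟨W, Finset.mem_filter.2 ⟨hW, hn⟩, rfl⟩)),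
        fun hn haW => hn ⟨π a, hz, haW⟩⟩⟩
    have haZ : π a ∈ Z := by
      rw [← hZc.closure_eq, hb.mem_closure_iff]
      intro W hW haW
      by_contra hn
      exact (ha ⟨W, hW⟩).2 (fun hne => hn (Set.inter_comm Z W ▸ hne)) haW
    refine ⟨π a, (closure_minimal (Set.singleton_subset_iff.2 haZ) hZc).antisymm fun z hz => ?_⟩
    rw [hb.mem_closure_iff]
    exact fun W hW hzW => ⟨π a, (ha ⟨W, hW⟩).1 ⟨z, hz, hzW⟩, rfl⟩⟩
  have : PrespectralSpace X := ⟨hb⟩
  constructor

end Groth.Agent.Stk19
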