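import Groth.Agent.Stk19.Yoneda
import Groth.Agent.Stk19.Stack

/-! Gluing of morphisms and objects in terms of elements. -/

set_option autoImplicit false
set_option backward.isDefEq.respectTransparency false
set_option backward.isDefEq.respectTransparency.types false

universe v₄ u₄ v₃ u₃ v₂ u₂ v u

open CategoryTheory FibCat Groth.Agent.Desc19

namespace Groth.Agent.Stk19

variable {C : Type u} [Category.{v} C] {𝒳 : BasedCategory.{v₂, u₂} C} {𝒴 : BasedCategory.{v₃, u₃} C}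
  {𝒵 : BasedCategory.{v₄, u₄} C}

/-- The arrow to the value at the identity. -/
abbrev toTop {U : C} (F : overCat U ⥤ᵇ 𝒳) (a : (overCat U).obj) : F.obj a ⟶ F.obj (Over.mk (𝟙 U)) := F.map (toId a)

theorem toTop_map {U : C} (F : overCat U ⥤ᵇ 𝒳) (a : (overCat U).obj) :
    𝒳.p.map (toTop F a) = eqToHom (F.w_obj a) ≫ a.hom ≫ eqToHom (F.w_obj (Over.mk (𝟙 U))).symm :=
  based_map F (toId a)

theorem toTop_natural {U : C} {F G : overCat U ⥤ᵇ 𝒳} (α : F ⟶ G) (a : (overCat U).obj) :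
    toTop F a ≫ α.toNatTrans.app (Over.mk (𝟙 U)) = α.toNatTrans.app a ≫ toTop G a :=
  α.toNatTrans.naturality (toId a)

theorem toTop_comp {U : C} (F : overCat U ⥤ᵇ 𝒳) {a b : (overCat U).obj} (φ : a ⟶ b) :
    F.map φ ≫ toTop F b = toTop F a := by
  rw [toTop, toTop, ← F.toFunctor.map_comp, toId_natural]

/-- Vertical arrows agreeing locally are equal. -/
theorem vert_ext_of_prestack (h : IsFibGrpd 𝒳.p) {U : C} {R : Sieve U} (hR : Stk.IsPrestackFor R 𝒳)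
    {x y : 𝒳.obj} (φ ψ : x ⟶ y) (h1 : 𝒳.p.IsHomLift (𝟙 U) φ) (h2 : 𝒳.p.IsHomLift (𝟙 U) ψ)
    (hloc : ∀ ⦃V : C⦄ (f : V ⟶ U), R f → ∃ (z : 𝒳.obj) (ν : z ⟶ x), 𝒳.p.IsHomLift f ν ∧ ν ≫ φ = ν ≫ ψ) :
    φ = ψ := by
  obtain ⟨F, i, hi⟩ := exists_classifying h x (IsHomLift.domain_eq 𝒳.p (𝟙 U) φ)
  obtain ⟨G, j, hj⟩ := exists_classifying h y (IsHomLift.codomain_eq 𝒳.p (𝟙 U) φ)
  have hj' := vert_inv 𝒳.p j hj
  obtain ⟨α, hα⟩ := yoneda_exists h F G (i.hom ≫ φ ≫ j.inv) inferInstance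
  obtain ⟨β, hβ⟩ := yoneda_exists h F G (i.hom ≫ ψ ≫ j.inv) inferInstance
  have := hR.2
  have key : α = β := (Stk.resSieve R 𝒳).map_injective (based_hom_ext fun a => by
    refine fibGrpd_ext h (toTop G ((Stk.sieveIncl R).obj a))
      ((based_app_map α _).trans (based_app_map β _).symm) ?_
    show α.toNatTrans.app _ ≫ _ = β.toNatTrans.app _ ≫ _
    rw [← toTop_natural, ← toTop_natural, hα, hβ]
    obtain ⟨z, ν, hν, hνe⟩ := hloc a.obj.hom a.property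
    have e := IsHomLift.domain_eq 𝒳.p a.obj.hom ν
    obtain ⟨χ, ⟨-, hχ⟩, -⟩ := fibGrpd_fac h ν (toTop F ((Stk.sieveIncl R).obj a) ≫ i.hom)
      (eqToHom ((F.w_obj _).trans e.symm)) (by
        rw [𝒳.p.map_comp, toTop_map, IsHomLift.fac' 𝒳.p a.obj.hom ν, map_eq_of_vert 𝒳.p (R := U) i.hom]
        simp [Stk.sieveIncl])
    rw [← Category.assoc, ← Category.assoc _ i.hom, ← hχ, Category.assoc, Category.assoc, reassoc_of% hνe])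
  have := hα.symm.trans ((congrArg (fun t => t.toNatTrans.app (Over.mk (𝟙 U))) key).trans hβ)
  exact (cancel_mono j.inv).1 ((cancel_epi i.hom).1 this)

/-- A fully faithful functor of stacks which is locally essentially surjective is an equivalence. -/
theorem isEquivOver_of_locally_essSurj (J : GrothendieckTopology C) (h𝒳 : Stk.IsStack J 𝒳)
    (h𝒴 : Stk.IsPrestack J 𝒴) (F : 𝒳 ⥤ᵇ 𝒴) [F.toFunctor.Full] [F.toFunctor.Faithful]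
    (hloc : ∀ y : 𝒴.obj, ∃ R ∈ J (𝒴.p.obj y), ∀ ⦃V : C⦄ (f : V ⟶ 𝒴.p.obj y), R f →
      ∃ (x : 𝒳.obj) (φ : F.obj x ⟶ y), 𝒴.p.IsHomLift f φ) : IsEquivOver F := by
  refine EqvData.isEquivOver ⟨inferInstance, inferInstance, fun y => ?_⟩
  obtain ⟨R, hR, hx⟩ := hloc y
  have hx' : ∀ a : (Stk.sieveCat R).obj, ∃ (x : 𝒳.obj) (φ : F.obj x ⟶ y), 𝒴.p.IsHomLift a.obj.hom φ :=
    fun a => hx a.obj.hom a.property
  choose x φ hφ using hx'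
  have ex : ∀ a, 𝒳.p.obj (x a) = a.obj.left := fun a =>
    (F.w_obj (x a)).symm.trans (IsHomLift.domain_eq 𝒴.p a.obj.hom (φ a))
  have hm : ∀ a, 𝒴.p.map (φ a) = eqToHom ((F.w_obj (x a)).trans (ex a)) ≫ a.obj.hom := fun a => by
    have := IsHomLift.fac' 𝒴.p a.obj.hom (φ a)
    simpa using this
  have hf : ∀ (q : Σ a b : (Stk.sieveCat R).obj, a ⟶ b), ∃! χ : F.obj (x q.1) ⟶ F.obj (x q.2.1),
      𝒴.p.map χ = eqToHom ((F.w_obj _).trans (ex q.1)) ≫ q.2.2.hom.left ≫ eqToHom ((F.w_obj _).trans (ex q.2.1)).symm ∧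
        χ ≫ φ q.2.1 = φ q.1 := fun ⟨a, b, g⟩ => fibGrpd_fac h𝒴.1 _ _ _ (by
      rw [hm, hm]
      simp only [Category.assoc, eqToHom_trans_assoc, eqToHom_refl, Category.id_comp]
      rw [Over.w g.hom])
  choose m hm' hu using hf
  let D : Stk.sieveCat R ⥤ᵇ 𝒳 :=
    { toFunctor :=
        { obj := x
          map := fun {a b} g => F.toFunctor.preimage (m ⟨a, b, g⟩)
          map_id := fun a => F.toFunctor.map_injective (by
            rw [F.toFunctor.map_preimage, F.toFunctor.map_id]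
            refine (hu ⟨a, a, 𝟙 a⟩ _ ⟨?_, Category.id_comp _⟩).symm
            rw [show (𝟙 a : a ⟶ a).hom.left = 𝟙 a.obj.left from rfl]; simp)
          map_comp := fun {a b c} g g' => F.toFunctor.map_injective (by
            rw [F.toFunctor.map_preimage, F.toFunctor.map_comp, F.toFunctor.map_preimage, F.toFunctor.map_preimage]
            refine (hu ⟨a, c, g ≫ g'⟩ _ ⟨?_, by rw [Category.assoc, (hm' ⟨b, c, g'⟩).2, (hm' ⟨a, b, g⟩).2]⟩).symm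
            rw [𝒴.p.map_comp, (hm' ⟨a, b, g⟩).1, (hm' ⟨b, c, g'⟩).1,
              show (g ≫ g').hom.left = g.hom.left ≫ g'.hom.left from rfl]
            simp) }
      w := CategoryTheory.Functor.ext ex (fun a b g => by
        show 𝒳.p.map (F.toFunctor.preimage (m ⟨a, b, g⟩)) = _
        rw [based_map_back F, F.toFunctor.map_preimage, (hm' ⟨a, b, g⟩).1]
        simp only [Category.assoc, eqToHom_trans_assoc, eqToHom_refl, Category.id_comp, eqToHom_trans]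
        rfl) }
  obtain ⟨G, j, hj⟩ := exists_classifying h𝒴.1 y rfl
  have hc : ∀ a : (Stk.sieveCat R).obj, ∃! c : F.obj (x a) ⟶ G.obj ((Stk.sieveIncl R).obj a),
      𝒴.p.map c = eqToHom ((F.w_obj (x a)).trans ((ex a).trans (G.w_obj ((Stk.sieveIncl R).obj a)).symm)) ∧
        c ≫ (toTop G ((Stk.sieveIncl R).obj a) ≫ j.hom) = φ a := fun a => fibGrpd_fac h𝒴.1 _ _ _ (by
    rw [𝒴.p.map_comp, toTop_map, map_eq_of_vert 𝒴.p (R := 𝒴.p.obj y) j.hom, hm]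
    simp [Stk.sieveIncl])
  choose c hc1 hc2 using hc
  have hcv : ∀ a, 𝒴.p.IsHomLift (𝟙 (𝒴.p.obj (F.obj (x a)))) (c a) := fun a => vert_of_map_eq 𝒴.p (hc1 a).1
  have hci : ∀ a, IsIso (c a) := fun a =>
    have := hcv a
    fibGrpd_isIso_vert h𝒴.1 (R := 𝒴.p.obj (F.obj (x a))) _
  let e : (postB _ F).obj D ≅ (Stk.resSieve R 𝒴).obj G :=
    isoMk (fun a => @asIso _ _ _ _ (c a) (hci a)) hcv (fun {a b} g => by
      show F.map (F.toFunctor.preimage (m ⟨a, b, g⟩)) ≫ c b = c a ≫ G.map ((Stk.sieveIncl R).map g)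
      rw [F.toFunctor.map_preimage]
      refine fibGrpd_ext h𝒴.1 (toTop G ((Stk.sieveIncl R).obj b) ≫ j.hom) ?_ ?_
      · rw [𝒴.p.map_comp, 𝒴.p.map_comp, (hm' ⟨a, b, g⟩).1, (hc1 a).1, (hc1 b).1, based_map G]
        simp [Stk.sieveIncl]
      · rw [Category.assoc, (hc1 b).2, (hm' ⟨a, b, g⟩).2, Category.assoc, ← Category.assoc (G.map _),
          toTop_comp]
        exact (hc1 a).2.symm)
  have : (Stk.resSieve R 𝒳).IsEquivalence := h𝒳.2 R hR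
  obtain ⟨_, _⟩ := h𝒴.2 R hR
  let H := (Stk.resSieve R 𝒳).objPreimage D
  let e' : (Stk.resSieve R 𝒴).obj ((postB _ F).obj H) ≅ (Stk.resSieve R 𝒴).obj G :=
    (restrPost (Stk.sieveIncl R) F).app H ≪≫ (postB _ F).mapIso ((Stk.resSieve R 𝒳).objObjPreimageIso D) ≪≫ e
  let k := (Stk.resSieve R 𝒴).preimageIso e'
  refine ⟨H.obj (Over.mk (𝟙 (𝒴.p.obj y))), appIso k (Over.mk (𝟙 (𝒴.p.obj y))) ≪≫ j, ?_⟩
  exact vert_comp 𝒴.p _ _ (k.hom.isHomLift rfl) hj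

theorem locally_essSurj_of_isEquivOver (J : GrothendieckTopology C) {F : 𝒳 ⥤ᵇ 𝒴} (hF : IsEquivOver F)
    (h𝒴 : IsFibGrpd 𝒴.p) (y : 𝒴.obj) : ∃ R ∈ J (𝒴.p.obj y), ∀ ⦃V : C⦄ (f : V ⟶ 𝒴.p.obj y), R f →
      ∃ (x : 𝒳.obj) (φ : F.obj x ⟶ y), 𝒴.p.IsHomLift f φ := by
  obtain ⟨-, -, hs⟩ := EqvData.of_isEquivOver hF
  refine ⟨⊤, J.top_mem _, fun V f _ => ?_⟩
  obtain ⟨z, φ, hφ⟩ := h𝒴.exists_lift f
  obtain ⟨x, i, hi⟩ := hs z
  have ez : 𝒴.p.obj z = V := IsHomLift.domain_eq 𝒴.p f φ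
  have hi' : 𝒴.p.IsHomLift (𝟙 V) i.hom := ez ▸ hi
  exact ⟨x, i.hom ≫ φ, inferInstance⟩

/-- Restriction of an automorphism along an arrow. -/
theorem exists_restrict_aut (h : IsFibGrpd 𝒳.p) {t z : 𝒳.obj} (ν : z ⟶ t) (φ : t ⟶ t) (hφ : 𝒳.p.map φ = 𝟙 _) :
    ∃ φ' : z ⟶ z, 𝒳.p.map φ' = 𝟙 _ ∧ φ' ≫ ν = ν ≫ φ := by
  obtain ⟨φ', hφ', -⟩ := fibGrpd_fac h ν (ν ≫ φ) (𝟙 _) (by rw [𝒳.p.map_comp, hφ]; simp)
  exact ⟨φ', hφ'⟩

/-- Automorphisms killed by a functor are trivial as soon as this holds over a covering. -/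
theorem aut_eq_id_of_local (J : GrothendieckTopology C) (h : Stk.IsPrestack J 𝒳) {t : 𝒳.obj} (φ : t ⟶ t)
    (hφ : 𝒳.p.map φ = 𝟙 _) {R : Sieve (𝒳.p.obj t)} (hR : R ∈ J (𝒳.p.obj t))
    (hloc : ∀ ⦃V : C⦄ (f : V ⟶ 𝒳.p.obj t), R f → ∀ (z : 𝒳.obj) (ν : z ⟶ t), 𝒳.p.IsHomLift f ν →
      ∀ φ' : z ⟶ z, 𝒳.p.map φ' = 𝟙 _ → φ' ≫ ν = ν ≫ φ → φ' = 𝟙 z) : φ = 𝟙 t := by
  have hv : 𝒳.p.IsHomLift (𝟙 (𝒳.p.obj t)) φ := vert_of_map_eq 𝒳.p (h := rfl) (by simpa using hφ)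
  refine vert_ext_of_prestack h.1 (h.2 R hR) φ (𝟙 t) hv (IsHomLift.id rfl) fun V f hf => ?_
  obtain ⟨z, ν, hν⟩ := h.1.exists_lift f
  obtain ⟨φ', h1, h2⟩ := exists_restrict_aut h.1 ν φ hφ
  refine ⟨z, ν, hν, ?_⟩
  rw [← h2, hloc f hf z ν hν φ' h1 h2]
  simp

theorem local_lift_vert (h𝒳 : IsFibGrpd 𝒳.p) {F : 𝒴 ⥤ᵇ 𝒳} {G : 𝒵 ⥤ᵇ 𝒳}
    {t z : 𝒵.obj} {ν : z ⟶ t} {V : C} (f : V ⟶ 𝒵.p.obj t) (hν : 𝒵.p.IsHomLift f ν) {x : 𝒴.obj}
    (φ : F.obj x ⟶ G.obj t) (hφ : 𝒳.p.IsHomLift (f ≫ eqToHom (G.w_obj t).symm) φ) :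
    ∃ i : F.obj x ≅ G.obj z, 𝒳.p.IsHomLift (𝟙 (𝒴.p.obj x)) i.hom := by
  have e1 : 𝒳.p.obj (F.obj x) = V := IsHomLift.domain_eq 𝒳.p (f ≫ eqToHom (G.w_obj t).symm) φ
  have e2 : 𝒵.p.obj z = V := IsHomLift.domain_eq 𝒵.p f ν
  obtain ⟨χ, ⟨c1, -⟩, -⟩ := fibGrpd_fac h𝒳 (G.map ν) φ (eqToHom (e1.trans (e2.symm.trans (G.w_obj z).symm))) (by
    rw [based_map G, IsHomLift.fac' 𝒳.p (f ≫ eqToHom (G.w_obj t).symm) φ, IsHomLift.fac' 𝒵.p f ν]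
    simp)
  have hv : 𝒳.p.IsHomLift (𝟙 (𝒴.p.obj x)) χ := (vert_iff _ _).2 ⟨F.w_obj x, _, c1⟩
  have := fibGrpd_isIso_vert h𝒳 (R := 𝒴.p.obj x) χ
  exact ⟨asIso χ, hv⟩

/-- Faithfulness descends along a locally essentially surjective functor. -/
theorem faithful_of_faithful_fpFst (J : GrothendieckTopology C) (h𝒳 : IsFibGrpd 𝒳.p) (h𝒵 : Stk.IsPrestack J 𝒵)
    (F : 𝒴 ⥤ᵇ 𝒳) (G : 𝒵 ⥤ᵇ 𝒳)
    (hF : ∀ y : 𝒳.obj, ∃ R ∈ J (𝒳.p.obj y), ∀ ⦃V : C⦄ (f : V ⟶ 𝒳.p.obj y), R f →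
      ∃ (x : 𝒴.obj) (φ : F.obj x ⟶ y), 𝒳.p.IsHomLift f φ)
    (hG' : (fpFst F G).toFunctor.Faithful) : G.toFunctor.Faithful := by
  refine faithful_of_fiberFunctor G h𝒵.1 h𝒳 fun U => ⟨fun {a b} f g hfg => ?_⟩
  obtain ⟨t, rfl⟩ := a
  have := f.2
  have := g.2
  have := fibGrpd_isIso_vert h𝒵.1 (R := 𝒵.p.obj t) g.1
  have e : G.map f.1 = G.map g.1 := congrArg Subtype.val hfg
  suffices f.1 ≫ inv g.1 = 𝟙 t from Subtype.ext (by simpa using congrArg (· ≫ g.1) this)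
  have hmv : 𝒵.p.map (f.1 ≫ inv g.1) = 𝟙 _ := by
    rw [𝒵.p.map_comp, Functor.map_inv]
    simp [map_eq_of_vert 𝒵.p (R := 𝒵.p.obj t) f.1, map_eq_of_vert 𝒵.p (R := 𝒵.p.obj t) g.1]
  obtain ⟨R, hR, hl⟩ := hF (G.obj t)
  refine aut_eq_id_of_local J h𝒵 _ hmv (J.pullback_stable (eqToHom (G.w_obj t).symm) hR) fun V k hk z ν hν φ' h1 h2 => ?_
  obtain ⟨x, φ, hφ⟩ := hl _ hk
  obtain ⟨i, hi⟩ := local_lift_vert h𝒳 k hν φ hφ
  have hG : G.map φ' = 𝟙 _ := by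
    refine fibGrpd_ext h𝒳 (G.map ν) (by rw [based_map G, h1]; simp) ?_
    rw [← G.toFunctor.map_comp, h2, G.toFunctor.map_comp, G.toFunctor.map_comp, e, Functor.map_inv]
    simp
  let o : (fp F G).obj := fpMk x z i hi
  have := (fpFst F G).toFunctor.map_injective (X := o) (Y := o)
    (a₁ := fpHom (𝟙 x) φ' (by
      show F.map (𝟙 x) ≫ i.hom = i.hom ≫ G.map φ'
      simp [hG])) (a₂ := 𝟙 o) rfl
  exact congrArg (fun m => m.hom.snd) this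

/-- Being fibred in setoids descends along a fully faithful locally essentially surjective functor. -/
theorem setoid_of_setoid_fp (J : GrothendieckTopology C) (h𝒳 : IsFibGrpd 𝒳.p) (h𝒵 : Stk.IsPrestack J 𝒵)
    (F : 𝒴 ⥤ᵇ 𝒳) [F.toFunctor.Full] [F.toFunctor.Faithful] (G : 𝒵 ⥤ᵇ 𝒳)
    (hF : ∀ y : 𝒳.obj, ∃ R ∈ J (𝒳.p.obj y), ∀ ⦃V : C⦄ (f : V ⟶ 𝒳.p.obj y), R f →
      ∃ (x : 𝒴.obj) (φ : F.obj x ⟶ y), 𝒳.p.IsHomLift f φ)
    (h : IsFibSetoid (fp F G).p) : IsFibSetoid 𝒵.p := by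
  refine ⟨h𝒵.1, fun U => (thin_fiber_iff h𝒵.1 U).2 fun t α _ hα => ?_⟩
  obtain ⟨R, hR, hl⟩ := hF (G.obj t)
  refine aut_eq_id_of_local J h𝒵 _ hα (J.pullback_stable (eqToHom (G.w_obj t).symm) hR) fun V k hk z ν hν φ' h1 _ => ?_
  obtain ⟨x, φ, hφ⟩ := hl _ hk
  obtain ⟨i, hi⟩ := local_lift_vert h𝒳 k hν φ hφ
  let o : (fp F G).obj := fpMk x z i hi
  let σ : x ⟶ x := F.toFunctor.preimage (i.hom ≫ G.map φ' ≫ i.inv)
  let φo : o ⟶ o := fpHom σ φ' (by simp [σ, o, fpMk])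
  have hσ : 𝒴.p.map σ = 𝟙 _ := by
    rw [based_map_back F, F.toFunctor.map_preimage, 𝒳.p.map_comp, 𝒳.p.map_comp, based_map G, h1,
      map_eq_of_vert 𝒳.p (R := 𝒴.p.obj x) i.hom]
    have := vert_inv 𝒳.p i hi
    rw [map_eq_of_vert 𝒳.p (R := 𝒴.p.obj x) i.inv]
    simp
  have := (thin_fiber_iff h.1 ((fp F G).p.obj o)).1 (h.2 _) o φo rfl hσ
  exact congrArg (fun m => m.hom.snd) this

/-- A full subcategory closed under restriction in which objects glue is a stack. -/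
theorem isStack_fullSub (J : GrothendieckTopology C) (h𝒳 : Stk.IsStack J 𝒳) (Q : ObjectProperty 𝒳.obj)
    (h1 : ∀ ⦃y x : 𝒳.obj⦄ (φ : y ⟶ x), Q x → ∃ (y' : 𝒳.obj) (e : y ≅ y'), Q y' ∧ 𝒳.p.IsHomLift (𝟙 (𝒳.p.obj y)) e.hom)
    (h3 : ∀ ⦃U : C⦄ (R : Sieve U), R ∈ J U → ∀ (x : 𝒳.obj), 𝒳.p.obj x = U →
      (∀ ⦃V : C⦄ (f : V ⟶ U), R f → ∀ (y : 𝒳.obj) (φ : y ⟶ x), 𝒳.p.IsHomLift f φ →
        ∃ (y' : 𝒳.obj) (e : y ≅ y'), Q y' ∧ 𝒳.p.IsHomLift (𝟙 V) e.hom) →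
      ∃ (x' : 𝒳.obj) (e : x ≅ x'), Q x' ∧ 𝒳.p.IsHomLift (𝟙 U) e.hom) :
    Stk.IsStack J (BasedCategory.ofFunctor (Q.ι ⋙ 𝒳.p)) := by
  let 𝒬 : BasedCategory.{v₂, u₂} C := BasedCategory.ofFunctor (Q.ι ⋙ 𝒳.p)
  let I : 𝒬 ⥤ᵇ 𝒳 := { toFunctor := Q.ι, w := rfl }
  have : I.toFunctor.Full := inferInstanceAs Q.ι.Full
  have : I.toFunctor.Faithful := inferInstanceAs Q.ι.Faithful
  have hfib : IsFibGrpd 𝒬.p := fibGrpd_mk
    (fun t V f => by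
      obtain ⟨y, φ, e, hφ⟩ := fibGrpd_lift h𝒳.1 t.obj f
      obtain ⟨y', i, hy', hi⟩ := h1 φ t.property
      have hi' := vert_inv 𝒳.p i hi
      have e' : 𝒳.p.obj y' = V := (IsHomLift.codomain_eq 𝒳.p (𝟙 (𝒳.p.obj y)) i.hom).trans e
      refine ⟨⟨y', hy'⟩, ObjectProperty.homMk (i.inv ≫ φ), e', ?_⟩
      show 𝒳.p.map (i.inv ≫ φ) = _
      rw [𝒳.p.map_comp, map_eq_of_vert 𝒳.p (R := 𝒳.p.obj y) i.inv, hφ]
      simp)
    (fun φ ψ g hg => by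
      obtain ⟨χ, hχ, hu⟩ := fibGrpd_fac h𝒳.1 φ.hom ψ.hom g hg
      exact ⟨ObjectProperty.homMk χ, ⟨hχ.1, ObjectProperty.hom_ext _ hχ.2⟩,
        fun k hk => ObjectProperty.hom_ext _ (hu k.hom ⟨hk.1, congrArg (fun m => m.hom) hk.2⟩)⟩)
  refine ⟨hfib, fun U R hR => ?_⟩
  have hres : (Stk.resSieve R 𝒳).IsEquivalence := h𝒳.2 R hR
  have pf : ∀ {H K : overCat U ⥤ᵇ 𝒬} {k : (Stk.resSieve R 𝒬).obj H ⟶ (Stk.resSieve R 𝒬).obj K},
      ∃ α, (Stk.resSieve R 𝒬).map α = k := by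
    intro H K k
    obtain ⟨β, hβ⟩ := (Stk.resSieve R 𝒳).map_surjective (X := (postB _ I).obj H) (Y := (postB _ I).obj K)
      ((postB _ I).map k)
    refine ⟨⟨{ app := fun a => ObjectProperty.homMk (β.toNatTrans.app a)
               naturality := fun a b φ => ObjectProperty.hom_ext _ (β.toNatTrans.naturality φ) }, fun a => ?_⟩, ?_⟩
    · exact (vert_iff _ _).2 ⟨H.w_obj a, _, based_app_map β a⟩
    · exact based_hom_ext fun a => ObjectProperty.hom_ext _ (congrArg (fun m => m.toNatTrans.app a) hβ)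
  have pfa : ∀ {H K : overCat U ⥤ᵇ 𝒬} (α β : H ⟶ K), (Stk.resSieve R 𝒬).map α = (Stk.resSieve R 𝒬).map β → α = β := by
    intro H K α β hab
    have h' : (Stk.resSieve R 𝒳).map ((postB _ I).map α) = (Stk.resSieve R 𝒳).map ((postB _ I).map β) :=
      based_hom_ext fun a => congrArg (fun (m : (Stk.resSieve R 𝒬).obj H ⟶ (Stk.resSieve R 𝒬).obj K) => I.map (m.toNatTrans.app a)) hab
    have := (Stk.resSieve R 𝒳).map_injective h'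
    exact based_hom_ext fun a => I.toFunctor.map_injective (congrArg (fun m => m.toNatTrans.app a) this)
  refine { full := ⟨fun k => pf⟩, faithful := ⟨fun {_ _ α β} hab => pfa α β hab⟩, essSurj := ⟨fun D => ?_⟩ }
  let H := (Stk.resSieve R 𝒳).objPreimage ((postB _ I).obj D)
  let i := (Stk.resSieve R 𝒳).objObjPreimageIso ((postB _ I).obj D)
  have eU : 𝒳.p.obj (H.obj (Over.mk (𝟙 U))) = U := H.w_obj _
  obtain ⟨x', ex, hx', hex⟩ := h3 R hR (H.obj (Over.mk (𝟙 U))) eU (fun V f hf y φ hφ => by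
    let a : (Stk.sieveCat R).obj := ⟨Over.mk f, hf⟩
    have ey : 𝒳.p.obj y = V := IsHomLift.domain_eq 𝒳.p f φ
    obtain ⟨χ, ⟨c1, -⟩, -⟩ := fibGrpd_fac h𝒳.1 (toTop H ((Stk.sieveIncl R).obj a)) φ
      (eqToHom (ey.trans (H.w_obj ((Stk.sieveIncl R).obj a)).symm)) (by
        rw [toTop_map, IsHomLift.fac' 𝒳.p f φ]; simp [Stk.sieveIncl, a])
    have hv : 𝒳.p.IsHomLift (𝟙 V) χ := (vert_iff _ _).2 ⟨ey, _, c1⟩
    have := fibGrpd_isIso_vert h𝒳.1 (R := V) χ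
    exact ⟨(D.obj a).obj, asIso χ ≪≫ appIso i a, (D.obj a).property,
      vert_comp 𝒳.p _ _ hv (i.hom.isHomLift rfl)⟩)
  have hH : ∀ a : (overCat U).obj, ∃ (y : 𝒳.obj) (e : H.obj a ≅ y), Q y ∧ 𝒳.p.IsHomLift (𝟙 (𝒳.p.obj (H.obj a))) e.hom :=
    fun a => h1 (toTop H a ≫ ex.hom) hx'
  choose y e hy he using hH
  have hem : ∀ a, 𝒳.p.map (e a).hom = eqToHom (eq_of_vert 𝒳.p _ (he a)) := fun a =>
    have := he a
    map_eq_of_vert 𝒳.p (R := 𝒳.p.obj (H.obj a)) _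
  have hei : ∀ a, 𝒳.p.map (e a).inv = eqToHom (eq_of_vert 𝒳.p _ (he a)).symm := fun a => by
    rw [← cancel_epi (𝒳.p.map (e a).hom), ← 𝒳.p.map_comp, Iso.hom_inv_id, hem]; simp
  let H' : overCat U ⥤ᵇ 𝒬 :=
    { toFunctor :=
        { obj := fun a => ⟨y a, hy a⟩
          map := fun {a b} φ => ObjectProperty.homMk ((e a).inv ≫ H.map φ ≫ (e b).hom)
          map_id := fun a => ObjectProperty.hom_ext _ (show (e a).inv ≫ H.map (𝟙 a) ≫ (e a).hom = 𝟙 (y a) by simp)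
          map_comp := fun {a b c} φ ψ => ObjectProperty.hom_ext _
            (show (e a).inv ≫ H.map (φ ≫ ψ) ≫ (e c).hom =
              ((e a).inv ≫ H.map φ ≫ (e b).hom) ≫ (e b).inv ≫ H.map ψ ≫ (e c).hom by simp) }
      w := CategoryTheory.Functor.ext (fun a => (eq_of_vert 𝒳.p _ (he a)).symm.trans (H.w_obj a)) (fun a b φ => by
        show 𝒳.p.map ((e a).inv ≫ H.map φ ≫ (e b).hom) = _
        rw [𝒳.p.map_comp, 𝒳.p.map_comp, hei, hem, based_map H]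
        simp) }
  let k : (postB _ I).obj H' ≅ H := isoMk (fun a => (e a).symm)
    (fun a => vert_of_map_eq 𝒳.p (hei a))
    (fun {a b} φ => by
      show ((e a).inv ≫ H.map φ ≫ (e b).hom) ≫ (e b).inv = (e a).inv ≫ H.map φ
      simp)
  let d : (postB _ I).obj ((Stk.resSieve R 𝒬).obj H') ≅ (postB _ I).obj D :=
    (restrPost (Stk.sieveIncl R) I).symm.app H' ≪≫ (Stk.resSieve R 𝒳).mapIso k ≪≫ i
  refine ⟨H', ⟨isoMk (fun a => Q.ι.preimageIso (appIso d a)) (fun a => ?_) fun {a b} φ => ?_⟩⟩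
  · refine vert_of_map_eq _ (h := eq_of_vert 𝒳.p _ (based_app_vert d.hom a)) ?_
    show 𝒳.p.map (Q.ι.map (Q.ι.preimage (appIso d a).hom)) = _
    rw [Q.ι.map_preimage]
    exact based_app_map d.hom a
  · refine Q.ι.map_injective ?_
    rw [Q.ι.map_comp, Q.ι.map_comp, Functor.preimageIso_hom, Functor.preimageIso_hom, Q.ι.map_preimage, Q.ι.map_preimage]
    exact d.hom.toNatTrans.naturality φ

end Groth.Agent.Stk19
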