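import Groth.Agent.Stk19.Diag
import Groth.Agent.Stk19.FpFib
import Groth.Agent.Desc19.Cartesian

/-! The inertia of a functor over the base, and fibre products of fibred categories. -/

set_option autoImplicit false
set_option backward.isDefEq.respectTransparency false
set_option backward.isDefEq.respectTransparency.types false

universe v₄ u₄ v₃ u₃ v₂ u₂ v u

open CategoryTheory CategoryTheory.Limits FibCat Groth.Agent.Desc19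

namespace Groth.Agent.Stk19

variable {C : Type u} [Category.{v} C] {𝒳 : BasedCategory.{v₂, u₂} C} {𝒴 : BasedCategory.{v₃, u₃} C}
  {𝒮 : BasedCategory.{v₄, u₄} C}

/-- Between strongly cartesian morphisms over the same arrow there is a unique vertical isomorphism. -/
theorem sc_unique_iso {p : 𝒳.obj ⥤ C} {a a' b : 𝒳.obj} (φ : a ⟶ b) (φ' : a' ⟶ b)
    [p.IsStronglyCartesian (p.map φ) φ] [p.IsStronglyCartesian (p.map φ') φ'] (e : p.obj a = p.obj a')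
    (h : p.map φ = eqToHom e ≫ p.map φ') :
    ∃ i : a ≅ a', p.IsHomLift (𝟙 (p.obj a)) i.hom ∧ i.hom ≫ φ' = φ := by
  obtain ⟨u, ⟨hu1, hu2⟩, -⟩ := sc_spec p φ' φ (eqToHom e) h.symm
  obtain ⟨w, ⟨hw1, hw2⟩, -⟩ := sc_spec p φ φ' (eqToHom e.symm) (by rw [h]; simp)
  refine ⟨⟨u, w, sc_ext p φ ?_ ?_, sc_ext p φ' ?_ ?_⟩, vert_of_map_eq p hu1, hu2⟩
  · rw [p.map_comp, hu1, hw1]; simp
  · rw [Category.assoc, hw2, hu2, Category.id_comp]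
  · rw [p.map_comp, hu1, hw1]; simp
  · rw [Category.assoc, hu2, hw2, Category.id_comp]

theorem inertia_p_map {F : 𝒳 ⥤ᵇ 𝒴} {s t : (inertia F).obj} (φ : s ⟶ t) :
    (inertia F).p.map φ = 𝒳.p.map φ.hom := rfl

theorem inertia_aut_map {F : 𝒳 ⥤ᵇ 𝒴} (t : (inertia F).obj) : 𝒳.p.map t.aut.hom = 𝟙 _ := by
  rw [based_map_back F t.aut.hom, t.map_aut]
  simp

/-- A strongly cartesian arrow underlies a strongly cartesian arrow of the inertia. -/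
theorem sc_inertia {F : 𝒳 ⥤ᵇ 𝒴} {s t : (inertia F).obj} (φ : s ⟶ t)
    [𝒳.p.IsStronglyCartesian (𝒳.p.map φ.hom) φ.hom] :
    (inertia F).p.IsStronglyCartesian ((inertia F).p.map φ) φ := by
  refine sc_mk _ φ fun r ψ g hg => ?_
  obtain ⟨χ, ⟨h1, h2⟩, hu⟩ := sc_spec 𝒳.p φ.hom ψ.hom g hg
  have hc : r.aut.hom ≫ χ = χ ≫ s.aut.hom := by
    refine sc_ext 𝒳.p φ.hom ?_ ?_
    · rw [𝒳.p.map_comp, 𝒳.p.map_comp, inertia_aut_map, inertia_aut_map]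
      simp
    · rw [Category.assoc, h2, Category.assoc, φ.comm, ← Category.assoc χ, h2, ψ.comm]
  exact ⟨⟨χ, hc⟩, ⟨h1, InertiaObj.hom_ext h2⟩,
    fun χ' h => InertiaObj.hom_ext (hu χ'.hom ⟨h.1, congrArg InertiaObj.Hom.hom h.2⟩)⟩

/-- Strongly cartesian lifts in the inertia. -/
theorem inertia_lift {F : 𝒳 ⥤ᵇ 𝒴} (t : (inertia F).obj) {x : 𝒳.obj} (φ : x ⟶ t.pt)
    [𝒳.p.IsStronglyCartesian (𝒳.p.map φ) φ] [𝒴.p.IsStronglyCartesian (𝒴.p.map (F.map φ)) (F.map φ)] :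
    ∃ (s : (inertia F).obj) (e : s.pt = x) (ψ : s ⟶ t), ψ.hom = eqToHom e ≫ φ := by
  obtain ⟨a, ⟨ha1, ha2⟩, -⟩ := sc_spec 𝒳.p φ (φ ≫ t.aut.hom) (𝟙 _)
    (by rw [𝒳.p.map_comp, inertia_aut_map]; simp)
  have hinv : 𝒳.p.map t.aut.inv = 𝟙 _ := by
    have := congrArg 𝒳.p.map t.aut.hom_inv_id
    rwa [𝒳.p.map_comp, inertia_aut_map, Category.id_comp, CategoryTheory.Functor.map_id] at this
  obtain ⟨b, ⟨hb1, hb2⟩, -⟩ := sc_spec 𝒳.p φ (φ ≫ t.aut.inv) (𝟙 _)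
    (by rw [𝒳.p.map_comp, hinv]; simp)
  have hab : a ≫ b = 𝟙 x := sc_ext 𝒳.p φ (by rw [𝒳.p.map_comp, ha1, hb1]; simp)
    (by rw [Category.assoc, hb2, ← Category.assoc, ha2, Category.assoc, t.aut.hom_inv_id, Category.id_comp,
      Category.comp_id])
  have hba : b ≫ a = 𝟙 x := sc_ext 𝒳.p φ (by rw [𝒳.p.map_comp, ha1, hb1]; simp)
    (by rw [Category.assoc, ha2, ← Category.assoc, hb2, Category.assoc, t.aut.inv_hom_id, Category.id_comp,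
      Category.comp_id])
  refine ⟨⟨x, ⟨a, b, hab, hba⟩, ?_⟩, rfl, ⟨φ, ha2⟩, by simp⟩
  refine sc_ext 𝒴.p (F.map φ) ?_ ?_
  · rw [based_map F, ha1]
    simp
  · rw [← F.toFunctor.map_comp, ha2, F.toFunctor.map_comp, t.map_aut]
    simp

theorem fibGrpd_inertia (h𝒳 : IsFibGrpd 𝒳.p) (h𝒴 : IsFibGrpd 𝒴.p) (F : 𝒳 ⥤ᵇ 𝒴) :
    IsFibGrpd (inertia F).p := by
  refine fibGrpd_mk (fun t V f => ?_) (fun {r s t} φ ψ g hg => ?_)
  · obtain ⟨x, φ, e, hφ⟩ := fibGrpd_lift h𝒳 t.pt f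
    have := h𝒳.isStronglyCartesian φ
    have := h𝒴.isStronglyCartesian (F.map φ)
    obtain ⟨s, es, ψ, hψ⟩ := inertia_lift t φ
    subst es
    exact ⟨s, ψ, e, by rw [inertia_p_map, hψ, eqToHom_refl, Category.id_comp]; exact hφ⟩
  · have := h𝒳.isStronglyCartesian φ.hom
    have := sc_inertia φ
    exact sc_spec _ φ ψ g hg

theorem isFibered_inertia [𝒳.p.IsFibered] (F : 𝒳 ⥤ᵇ 𝒴) (hF : PreservesStronglyCartesian F) :
    (inertia F).p.IsFibered := by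
  refine isFibered_mk _ (fun t R f => ?_)
  obtain ⟨x, φ, hl, hsc⟩ := exists_sc_lift 𝒳.p t.pt R f
  have := hF _ φ hsc
  have := sc_map_of_sc 𝒴.p (𝒳.p.map φ) (F.map φ)
  obtain ⟨s, es, ψ, hψ⟩ := inertia_lift t φ
  subst es
  rw [eqToHom_refl, Category.id_comp] at hψ
  subst hψ
  exact ⟨s, ψ, (IsHomLift.of_fac (inertia F).p f ψ (IsHomLift.domain_eq 𝒳.p f ψ.hom) rfl
    (IsHomLift.fac 𝒳.p f ψ.hom)), sc_inertia ψ⟩

theorem isFibered_fp [𝒳.p.IsFibered] [𝒴.p.IsFibered] (F : 𝒳 ⥤ᵇ 𝒮) (G : 𝒴 ⥤ᵇ 𝒮)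
    (hF : ∀ {R S : C} (f : R ⟶ S) {a b : 𝒳.obj} (φ : a ⟶ b), 𝒳.p.IsStronglyCartesian f φ →
      𝒮.p.IsStronglyCartesian f (F.map φ))
    (hG : ∀ {R S : C} (f : R ⟶ S) {a b : 𝒴.obj} (φ : a ⟶ b), 𝒴.p.IsStronglyCartesian f φ →
      𝒮.p.IsStronglyCartesian f (G.map φ)) :
    (fp F G).p.IsFibered := by
  refine isFibered_mk _ (fun t R f => ?_)
  obtain ⟨x, φ, hl, hsc⟩ := exists_sc_lift 𝒳.p t.obj.fst R f
  obtain ⟨y, ψ, hl', hsc'⟩ := exists_sc_lift 𝒴.p t.obj.snd R (f ≫ eqToHom (fp_base_eq t).symm)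
  have ex := IsHomLift.domain_eq 𝒳.p f φ
  have ey := IsHomLift.domain_eq 𝒴.p (f ≫ eqToHom (fp_base_eq t).symm) ψ
  have mφ : 𝒳.p.map φ = eqToHom ex ≫ f := by
    have := IsHomLift.fac' 𝒳.p f φ; simpa using this
  have mψ : 𝒴.p.map ψ = eqToHom ey ≫ f ≫ eqToHom (fp_base_eq t).symm := by
    have := IsHomLift.fac' 𝒴.p (f ≫ eqToHom (fp_base_eq t).symm) ψ; simpa using this
  have := hF _ φ hsc
  have := hG _ ψ hsc'
  have a1 := sc_map_of_sc 𝒮.p (𝒳.p.map φ) (F.map φ)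
  have a2 := sc_map_of_sc 𝒮.p (𝒴.p.map ψ) (G.map ψ)
  have a3 : 𝒮.p.IsStronglyCartesian (𝒮.p.map (F.map φ ≫ t.obj.iso.hom)) (F.map φ ≫ t.obj.iso.hom) := by
    rw [𝒮.p.map_comp]
    infer_instance
  obtain ⟨i, hi, hi'⟩ := sc_unique_iso (p := 𝒮.p) (F.map φ ≫ t.obj.iso.hom) (G.map ψ)
    (by rw [F.w_obj, G.w_obj, ex, ey])
    (by rw [𝒮.p.map_comp, based_map F, based_map G, fp_iso_map, mφ, mψ]; simp)
  let s : (fp F G).obj := fpMk x y i (vert_change 𝒮.p _ hi (F.w_obj x))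
  let θ : s ⟶ t := fpHom φ ψ hi'.symm
  refine ⟨s, θ, IsHomLift.of_fac (fp F G).p f θ ex rfl (by
    show f = eqToHom ex.symm ≫ 𝒳.p.map φ ≫ eqToHom rfl
    rw [mφ]; simp), ?_⟩
  refine sc_mk _ θ fun r κ g hg => ?_
  obtain ⟨χ, ⟨h1, h2⟩, hu⟩ := sc_spec 𝒳.p φ κ.hom.fst g hg
  have eg : g ≫ 𝒳.p.map φ = 𝒳.p.map κ.hom.fst := hg
  obtain ⟨χ', ⟨h1', h2'⟩, hu'⟩ := sc_spec 𝒴.p ψ κ.hom.snd
    (eqToHom (fp_base_eq r) ≫ g ≫ eqToHom (ex.trans ey.symm))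
    (by rw [fp_map_snd, ← eg, mφ, mψ]; simp)
  have hw : F.map χ ≫ i.hom = r.obj.iso.hom ≫ G.map χ' := by
    refine sc_ext 𝒮.p (G.map ψ) ?_ ?_
    · rw [𝒮.p.map_comp, 𝒮.p.map_comp, based_map F, based_map G, fp_iso_map, h1, h1', map_eq_of_vert 𝒮.p (R := 𝒮.p.obj (F.obj x)) i.hom]
      simp
    · rw [Category.assoc, hi', Category.assoc, ← G.toFunctor.map_comp, h2', ← Category.assoc,
        ← F.toFunctor.map_comp, h2]
      exact κ.hom.w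
  refine ⟨fpHom χ χ' hw, ⟨h1, fp_hom_ext h2 h2'⟩, fun z hz => fp_hom_ext (hu _ ⟨hz.1, congrArg (fun m => m.hom.fst) hz.2⟩)
    (hu' _ ⟨?_, congrArg (fun m => m.hom.snd) hz.2⟩)⟩
  rw [fp_map_snd, show 𝒳.p.map z.hom.fst = g from hz.1]

/-- The inertia is the self-intersection of the diagonal. -/
theorem exists_inertia_equiv (F : 𝒳 ⥤ᵇ 𝒴) :
    ∃ E : inertia F ⥤ᵇ fp (diag F) (diag F),
      IsEquivOver E ∧ BasedFunctor.comp E (fpFst _ _) = inertiaToBase F ∧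
        BasedFunctor.comp E (fpSnd _ _) = inertiaToBase F := by
  let e : BasedFunctor.comp (inertiaToBase F) (diag F) ≅ BasedFunctor.comp (inertiaToBase F) (diag F) :=
    isoMk (fun t => fpIsoMk t.aut (Iso.refl _) (by
        show F.map t.aut.hom ≫ 𝟙 _ = 𝟙 _ ≫ F.map (𝟙 _)
        rw [t.map_aut, F.toFunctor.map_id]))
      (fun t => fpIsoMk_vert _ _ _ (vert_of_map_eq 𝒳.p (h := rfl) ((inertia_aut_map t).trans (eqToHom_refl _ _).symm)))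
      (fun {s t} φ => fp_hom_ext φ.comm.symm ((Category.comp_id _).trans (Category.id_comp _).symm))
  refine ⟨fpLift (inertiaToBase F) (inertiaToBase F) e,
    EqvData.isEquivOver ⟨⟨fun {s t} k => ?_⟩, ⟨fun {s t} k k' h => ?_⟩, fun z => ?_⟩, rfl, rfl⟩
  · have h1 : k.hom.fst ≫ t.aut.hom = s.aut.hom ≫ k.hom.snd := congrArg (fun m => m.hom.fst) k.hom.w
    have h2 : k.hom.fst ≫ 𝟙 _ = 𝟙 _ ≫ k.hom.snd := congrArg (fun m => m.hom.snd) k.hom.w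
    rw [Category.comp_id, Category.id_comp] at h2
    rw [← h2] at h1
    exact ⟨⟨k.hom.fst, h1.symm⟩, fp_hom_ext rfl h2⟩
  · exact InertiaObj.hom_ext (congrArg (fun m => m.hom.fst) h)
  · let i₁ : z.obj.fst ≅ z.obj.snd := (fpFst F F).toFunctor.mapIso z.obj.iso
    let i₂ : z.obj.fst ≅ z.obj.snd := (fpSnd F F).toFunctor.mapIso z.obj.iso
    have w : F.map i₁.hom ≫ 𝟙 _ = 𝟙 _ ≫ F.map i₂.hom := z.obj.iso.hom.hom.w
    rw [Category.comp_id, Category.id_comp] at w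
    refine ⟨⟨z.obj.fst, i₁ ≪≫ i₂.symm, ?_⟩, fpIsoMk (Iso.refl _) i₂ ?_, fpIsoMk_vert _ _ _ (IsHomLift.id rfl)⟩
    · show F.map (i₁.hom ≫ i₂.inv) = 𝟙 _
      rw [F.toFunctor.map_comp, w, ← F.toFunctor.map_comp, i₂.hom_inv_id, F.toFunctor.map_id]
    · apply fp_hom_ext
      · show 𝟙 _ ≫ i₁.hom = (i₁.hom ≫ i₂.inv) ≫ i₂.hom
        simp
      · show 𝟙 _ ≫ i₂.hom = 𝟙 _ ≫ i₂.hom
        rfl

end Groth.Agent.Stk19
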