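import Groth.Agent.Stk19.Inertia

/-! Cartesian morphisms of products over the base; diagonals and projections. -/

set_option autoImplicit false
set_option backward.isDefEq.respectTransparency false
set_option backward.isDefEq.respectTransparency.types false

universe v₄ u₄ v₃ u₃ v₂ u₂ v u

open CategoryTheory CategoryTheory.Limits FibCat Groth.Agent.Desc19

namespace Groth.Agent.Stk19

section Cart

variable {C : Type u} [Category.{v} C] {𝒳 : Type u₂} [Category.{v₂} 𝒳] (p : 𝒳 ⥤ C)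

theorem cart_mk {x y : 𝒳} (φ : x ⟶ y)
    (h : ∀ ⦃z : 𝒳⦄ (ψ : z ⟶ y) (e : p.obj z = p.obj x), p.map ψ = eqToHom e ≫ p.map φ →
      ∃! χ : z ⟶ x, p.map χ = eqToHom e ∧ χ ≫ φ = ψ) :
    p.IsCartesian (p.map φ) φ where
  universal_property {z} ψ hψ := by
    have e := IsHomLift.domain_eq p (p.map φ) ψ
    obtain ⟨χ, ⟨h1, h2⟩, hu⟩ := h ψ e (by simpa using IsHomLift.fac' p (p.map φ) ψ)
    refine ⟨χ, ⟨(vert_iff p χ).2 ⟨e, e, h1⟩, h2⟩, fun χ' h' => hu χ' ⟨?_, h'.2⟩⟩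
    have := h'.1
    exact map_eq_of_vert p (R := p.obj x) χ'

theorem cart_spec {x y : 𝒳} (φ : x ⟶ y) [p.IsCartesian (p.map φ) φ] {z : 𝒳} (ψ : z ⟶ y)
    (e : p.obj z = p.obj x) (h : p.map ψ = eqToHom e ≫ p.map φ) :
    ∃! χ : z ⟶ x, p.map χ = eqToHom e ∧ χ ≫ φ = ψ := by
  have : p.IsHomLift (p.map φ) ψ := IsHomLift.of_fac' p _ _ e rfl (by simpa using h)
  obtain ⟨χ, ⟨h1, h2⟩, hu⟩ := Functor.IsCartesian.universal_property (p := p) (f := p.map φ) (φ := φ) ψ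
  exact ⟨χ, ⟨map_eq_of_vert p (R := p.obj x) χ, h2⟩,
    fun χ' h' => hu χ' ⟨(vert_iff p χ').2 ⟨e, e, h'.1⟩, h'.2⟩⟩

theorem cart_map_of_cart {R S : C} {x y : 𝒳} (f : R ⟶ S) (φ : x ⟶ y) [p.IsCartesian f φ] :
    p.IsCartesian (p.map φ) φ := by
  subst_hom_lift p f φ
  infer_instance

theorem cart_of_cart_map {R S : C} {x y : 𝒳} (f : R ⟶ S) (φ : x ⟶ y) [p.IsHomLift f φ]
    (h : p.IsCartesian (p.map φ) φ) : p.IsCartesian f φ := by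
  subst_hom_lift p f φ
  exact h

end Cart

variable {C : Type u} [Category.{v} C] {𝒳 : BasedCategory.{v₂, u₂} C} {𝒴 : BasedCategory.{v₃, u₃} C}
  {𝒮 : BasedCategory.{v₄, u₄} C}

theorem cart_map_iff {F : 𝒳 ⥤ᵇ 𝒴} (hF : IsEquivOver F) {a b : 𝒳.obj} (φ : a ⟶ b) :
    𝒴.p.IsCartesian (𝒳.p.map φ) (F.map φ) ↔ 𝒳.p.IsCartesian (𝒳.p.map φ) φ := by
  obtain ⟨h1, h2, h3⟩ := EqvData.of_isEquivOver hF
  constructor
  · intro h
    have := cart_map_of_cart 𝒴.p (𝒳.p.map φ) (F.map φ)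
    refine cart_mk _ φ fun z ψ e hψ => ?_
    obtain ⟨θ, ⟨t1, t2⟩, tu⟩ := cart_spec 𝒴.p (F.map φ) (F.map ψ) ((F.w_obj z).trans (e.trans (F.w_obj a).symm))
      (by rw [based_map F, based_map F, hψ]; simp)
    refine ⟨F.toFunctor.preimage θ, ⟨?_, F.toFunctor.map_injective (by rw [F.toFunctor.map_comp, F.toFunctor.map_preimage, t2])⟩,
      fun χ h' => F.toFunctor.map_injective ?_⟩
    · rw [based_map_back F, F.toFunctor.map_preimage, t1]; simp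
    · rw [F.toFunctor.map_preimage]
      refine tu _ ⟨?_, by rw [← F.toFunctor.map_comp, h'.2]⟩
      rw [based_map F, h'.1]; simp
  · intro h
    refine cart_of_cart_map 𝒴.p _ _ (cart_mk _ _ fun η ψ e hψ => ?_)
    obtain ⟨ξ, i, hi⟩ := h3 η
    have mi : 𝒴.p.map i.hom = eqToHom (IsHomLift.domain_eq 𝒴.p (𝟙 (𝒴.p.obj η)) i.hom) := map_eq_of_vert 𝒴.p (R := 𝒴.p.obj η) _
    have e₀ : 𝒳.p.obj ξ = 𝒳.p.obj a :=
      (F.w_obj ξ).symm.trans ((IsHomLift.domain_eq 𝒴.p (𝟙 (𝒴.p.obj η)) i.hom).trans (e.trans (F.w_obj a)))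
    obtain ⟨χ, ⟨c1, c2⟩, cu⟩ := cart_spec 𝒳.p φ (F.toFunctor.preimage (i.hom ≫ ψ)) e₀
      (by rw [based_map_back F, F.toFunctor.map_preimage, 𝒴.p.map_comp, mi, hψ, based_map F]; simp)
    have mi' : 𝒴.p.map i.inv = eqToHom (IsHomLift.domain_eq 𝒴.p (𝟙 (𝒴.p.obj η)) i.hom).symm := by
      rw [← cancel_epi (𝒴.p.map i.hom), ← 𝒴.p.map_comp, i.hom_inv_id, mi]; simp
    refine ⟨i.inv ≫ F.map χ, ⟨?_, ?_⟩, fun χ' h' => ?_⟩
    · rw [𝒴.p.map_comp, mi', based_map F, c1]; simp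
    · rw [Category.assoc, ← F.toFunctor.map_comp, c2, F.toFunctor.map_preimage, i.inv_hom_id_assoc]
    · rw [← cancel_epi i.hom, i.hom_inv_id_assoc, ← F.toFunctor.map_preimage (i.hom ≫ χ')]
      refine congrArg F.map (cu _ ⟨?_, F.toFunctor.map_injective ?_⟩)
      · rw [based_map_back F, F.toFunctor.map_preimage, 𝒴.p.map_comp, mi, h'.1]; simp
      · rw [F.toFunctor.map_comp, F.toFunctor.map_preimage, F.toFunctor.map_preimage, Category.assoc, h'.2]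

/-- An object of a product over the base. -/
def prodMk (x : 𝒳.obj) (y : 𝒴.obj) (e : 𝒳.p.obj x = 𝒴.p.obj y) : (fp (toSelf 𝒳) (toSelf 𝒴)).obj :=
  fpMk (F := toSelf 𝒳) (G := toSelf 𝒴) x y (eqToIso e) ((vert_iff (𝟭 C) _).2 ⟨rfl, e, rfl⟩)

theorem cart_prod_iff {x y : (fp (toSelf 𝒳) (toSelf 𝒴)).obj} (φ : x ⟶ y) :
    (fp (toSelf 𝒳) (toSelf 𝒴)).p.IsCartesian ((fp (toSelf 𝒳) (toSelf 𝒴)).p.map φ) φ ↔
      𝒳.p.IsCartesian (𝒳.p.map φ.hom.fst) φ.hom.fst ∧ 𝒴.p.IsCartesian (𝒴.p.map φ.hom.snd) φ.hom.snd := by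
  constructor
  · intro h
    constructor
    · refine cart_mk _ _ fun z ψ e hψ => ?_
      let w : (fp (toSelf 𝒳) (toSelf 𝒴)).obj := prodMk z x.obj.snd (e.trans (fp_base_eq x).symm)
      let ψ' : w ⟶ y := prodHom ψ φ.hom.snd (by rw [fp_map_snd φ, hψ]; simp [w, prodMk, fpMk])
      obtain ⟨χ, ⟨c1, c2⟩, cu⟩ := cart_spec (fp (toSelf 𝒳) (toSelf 𝒴)).p φ ψ' e hψ
      refine ⟨χ.hom.fst, ⟨c1, congrArg (fun m => m.hom.fst) c2⟩, fun χ' h' => ?_⟩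
      have hc := cu (prodHom χ' (𝟙 _) (by rw [h'.1]; simp [w, prodMk, fpMk]))
        ⟨h'.1, fp_hom_ext h'.2 (Category.id_comp _)⟩
      exact congrArg (fun m => m.hom.fst) hc
    · refine cart_mk _ _ fun z ψ e hψ => ?_
      let w : (fp (toSelf 𝒳) (toSelf 𝒴)).obj := prodMk x.obj.fst z ((fp_base_eq x).symm.trans e.symm)
      let ψ' : w ⟶ y := prodHom φ.hom.fst ψ (by rw [hψ, fp_map_snd φ]; simp [w, prodMk, fpMk])
      obtain ⟨χ, ⟨c1, c2⟩, cu⟩ := cart_spec (fp (toSelf 𝒳) (toSelf 𝒴)).p φ ψ' rfl (by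
        show 𝒳.p.map φ.hom.fst = eqToHom rfl ≫ 𝒳.p.map φ.hom.fst
        simp)
      refine ⟨χ.hom.snd, ⟨?_, congrArg (fun m => m.hom.snd) c2⟩, fun χ' h' => ?_⟩
      · rw [fp_map_snd χ, show 𝒳.p.map χ.hom.fst = eqToHom rfl from c1]; simp [w, prodMk, fpMk]
      · have hc := cu (prodHom (𝟙 _) χ' (by rw [h'.1]; simp [w, prodMk, fpMk]))
          ⟨by
            show 𝒳.p.map (𝟙 _) = eqToHom rfl
            simp [w, prodMk, fpMk], fp_hom_ext (Category.id_comp _) h'.2⟩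
        exact congrArg (fun m => m.hom.snd) hc
  · rintro ⟨h1, h2⟩
    refine cart_mk _ _ fun z ψ e hψ => ?_
    have hψ' : 𝒳.p.map ψ.hom.fst = eqToHom e ≫ 𝒳.p.map φ.hom.fst := hψ
    obtain ⟨a, ⟨a1, a2⟩, au⟩ := cart_spec 𝒳.p φ.hom.fst ψ.hom.fst e hψ'
    obtain ⟨b, ⟨b1, b2⟩, bu⟩ := cart_spec 𝒴.p φ.hom.snd ψ.hom.snd
      ((fp_base_eq z).trans (e.trans (fp_base_eq x).symm))
      (by rw [fp_map_snd ψ, fp_map_snd φ, hψ']; simp)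
    refine ⟨prodHom a b (by rw [b1, a1]; simp), ⟨a1, fp_hom_ext a2 b2⟩,
      fun χ h => fp_hom_ext (au _ ⟨h.1, congrArg (fun m => m.hom.fst) h.2⟩)
        (bu _ ⟨?_, congrArg (fun m => m.hom.snd) h.2⟩)⟩
    rw [fp_map_snd χ, show 𝒳.p.map χ.hom.fst = eqToHom e from h.1]; simp

theorem isPreFibered_prod [𝒳.p.IsPreFibered] [𝒴.p.IsPreFibered] :
    (fp (toSelf 𝒳) (toSelf 𝒴)).p.IsPreFibered := by
  refine ⟨fun {t R} f => ?_⟩
  obtain ⟨x, φ, hφ⟩ := Functor.IsPreFibered.exists_isCartesian' (p := 𝒳.p) (a := t.obj.fst) f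
  obtain ⟨y, ψ, hψ⟩ := Functor.IsPreFibered.exists_isCartesian' (p := 𝒴.p) (a := t.obj.snd)
    (f ≫ eqToHom (fp_base_eq t).symm)
  have ex := IsHomLift.domain_eq 𝒳.p f φ
  have ey := IsHomLift.domain_eq 𝒴.p (f ≫ eqToHom (fp_base_eq t).symm) ψ
  have mφ : 𝒳.p.map φ = eqToHom ex ≫ f := by simpa using IsHomLift.fac' 𝒳.p f φ
  have mψ : 𝒴.p.map ψ = eqToHom ey ≫ f ≫ eqToHom (fp_base_eq t).symm := by
    simpa using IsHomLift.fac' 𝒴.p (f ≫ eqToHom (fp_base_eq t).symm) ψ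
  let s : (fp (toSelf 𝒳) (toSelf 𝒴)).obj :=
    prodMk x y (ex.trans ey.symm)
  let θ : s ⟶ t := prodHom φ ψ (by rw [mψ, mφ]; simp [s, prodMk, fpMk])
  have : (fp (toSelf 𝒳) (toSelf 𝒴)).p.IsHomLift f θ := IsHomLift.of_fac _ f θ ex rfl (by
    show f = eqToHom ex.symm ≫ 𝒳.p.map φ ≫ eqToHom rfl
    rw [mφ]; simp)
  exact ⟨s, θ, cart_of_cart_map _ f θ ((cart_prod_iff θ).2
    ⟨cart_map_of_cart 𝒳.p f φ, cart_map_of_cart 𝒴.p (f ≫ eqToHom (fp_base_eq t).symm) ψ⟩)⟩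

theorem sc_selfOver {R S : C} {a b : C} (f : R ⟶ S) (φ : a ⟶ b) (h : (selfOver C).p.IsHomLift f φ) :
    (selfOver C).p.IsStronglyCartesian f φ :=
  sc_of_sc_map _ f φ (fibGrpd_selfOver.isStronglyCartesian φ)

theorem isFibered_prod [𝒳.p.IsFibered] [𝒴.p.IsFibered] : (fp (toSelf 𝒳) (toSelf 𝒴)).p.IsFibered :=
  isFibered_fp _ _ (fun f _ _ φ h => sc_selfOver f _ (BasedFunctor.preserves_isHomLift _ f φ))
    (fun f _ _ φ h => sc_selfOver f _ (BasedFunctor.preserves_isHomLift _ f φ))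

theorem fibGrpd_fpSnd (h𝒳 : IsFibGrpd 𝒳.p) (h𝒴 : IsFibGrpd 𝒴.p) (F : 𝒳 ⥤ᵇ 𝒴) :
    IsFibGrpd (fpSnd F (BasedFunctor.id 𝒴)).toFunctor := by
  have hfp := fibGrpd_fp h𝒳 h𝒴 h𝒴 F (BasedFunctor.id 𝒴)
  let P := fpSnd F (BasedFunctor.id 𝒴)
  refine fibGrpd_mk (fun t η ψ => ?_) (fun {r s t} φ κ g hg => ?_)
  · obtain ⟨x, φ, e, hφ⟩ := fibGrpd_lift h𝒳 t.obj.fst (𝒴.p.map ψ ≫ eqToHom (fp_base_eq t))
    obtain ⟨i, ⟨i1, i2⟩, -⟩ := fibGrpd_fac h𝒴 ψ (F.map φ ≫ t.obj.iso.hom) (eqToHom ((F.w_obj x).trans e))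
      (by rw [𝒴.p.map_comp, based_map F, fp_iso_map, hφ]; simp [fpSnd])
    have hv : 𝒴.p.IsHomLift (𝟙 (𝒳.p.obj x)) i := (vert_iff _ _).2 ⟨F.w_obj x, _, i1⟩
    have := fibGrpd_isIso_vert h𝒴 (R := 𝒳.p.obj x) i
    exact ⟨fpMk (F := F) (G := BasedFunctor.id 𝒴) x η (asIso i) hv, fpHom φ ψ i2.symm, rfl,
      (Category.id_comp ψ).symm⟩
  · obtain ⟨χ, ⟨c1, c2⟩, cu⟩ := fibGrpd_fac hfp φ κ
      (eqToHom (P.w_obj t).symm ≫ 𝒴.p.map g ≫ eqToHom (P.w_obj s)) (by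
      rw [based_map_back P φ, based_map_back P κ, show P.map κ = g ≫ P.map φ from hg.symm, 𝒴.p.map_comp]
      simp)
    refine ⟨χ, ⟨fibGrpd_ext h𝒴 (P.map φ) ?_ ?_, c2⟩, fun χ' h' => cu χ' ⟨?_, h'.2⟩⟩
    · show 𝒴.p.map (P.map χ) = _
      rw [based_map P, c1]; simp
    · show P.map χ ≫ P.map φ = g ≫ P.map φ
      rw [← P.toFunctor.map_comp, c2]; exact hg.symm
    · rw [based_map_back P, show P.map χ' = g from h'.1]

theorem diag_equiv_iff (G : 𝒳 ⥤ᵇ 𝒴) (h𝒳 : IsFibGrpd 𝒳.p) (h𝒴 : IsFibGrpd 𝒴.p) :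
    (G.toFunctor.Full ∧ G.toFunctor.Faithful) ↔ IsEquivOver (diag G) := by
  constructor
  · rintro ⟨_, _⟩
    refine EqvData.isEquivOver ⟨⟨fun {a b} k => ?_⟩, ⟨fun {a b} k k' h => congrArg (fun m => m.hom.fst) h⟩, fun z => ?_⟩
    · have w : G.map k.hom.fst ≫ 𝟙 _ = 𝟙 _ ≫ G.map k.hom.snd := k.hom.w
      rw [Category.comp_id, Category.id_comp] at w
      exact ⟨k.hom.fst, fp_hom_ext rfl (G.toFunctor.map_injective w)⟩
    · refine ⟨z.obj.fst, fpIsoMk (Iso.refl _) (G.toFunctor.preimageIso z.obj.iso) ?_,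
        fpIsoMk_vert _ _ _ (IsHomLift.id rfl)⟩
      show G.map (𝟙 _) ≫ _ = 𝟙 _ ≫ G.map (G.toFunctor.preimage z.obj.iso.hom)
      simp
  · intro h
    obtain ⟨h1, -, h3⟩ := EqvData.of_isEquivOver h
    constructor
    · refine ⟨fun {x y} θ => ?_⟩
      obtain ⟨x', φ, e, hφ⟩ := fibGrpd_lift h𝒳 y (eqToHom (G.w_obj x).symm ≫ 𝒴.p.map θ ≫ eqToHom (G.w_obj y))
      obtain ⟨f, ⟨f1, f2⟩, -⟩ := fibGrpd_fac h𝒴 (G.map φ) θ
        (eqToHom ((G.w_obj x).trans (e.symm.trans (G.w_obj x').symm)))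
        (by rw [based_map G, hφ]; simp)
      have hv : 𝒴.p.IsHomLift (𝟙 (𝒳.p.obj x)) f := (vert_iff _ _).2 ⟨G.w_obj x, _, f1⟩
      have := fibGrpd_isIso_vert h𝒴 (R := 𝒳.p.obj x) f
      obtain ⟨z, i, -⟩ := h3 (fpMk x x' (asIso f) hv)
      let ia : z ≅ x := (fpFst G G).toFunctor.mapIso i
      let ib : z ≅ x' := (fpSnd G G).toFunctor.mapIso i
      have w : G.map ia.hom ≫ f = 𝟙 _ ≫ G.map ib.hom := i.hom.hom.w
      refine ⟨ia.inv ≫ ib.hom ≫ φ, ?_⟩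
      rw [G.toFunctor.map_comp, G.toFunctor.map_comp, ← Category.id_comp (G.map ib.hom), ← w, ← f2,
        ← Category.assoc, ← Category.assoc, ← G.toFunctor.map_comp, ia.inv_hom_id, G.toFunctor.map_id, Category.id_comp]
    · refine ⟨fun {x y} a b hab => ?_⟩
      let k : (diag G).obj x ⟶ (diag G).obj y := fpHom a b (by
        show G.map a ≫ 𝟙 _ = 𝟙 _ ≫ G.map b
        rw [Category.comp_id, Category.id_comp, hab])
      obtain ⟨c, hc⟩ := h1.map_surjective k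
      have ha : c = a := congrArg (fun m => m.hom.fst) hc
      have hb : c = b := congrArg (fun m => m.hom.snd) hc
      exact ha.symm.trans hb

theorem fibSetoid_of_inertia (h𝒳 : IsFibGrpd 𝒳.p) (h : IsEquivOver (inertiaToBase (toSelf 𝒳))) :
    IsFibSetoid 𝒳.p := by
  obtain ⟨h1, -, -⟩ := EqvData.of_isEquivOver h
  refine ⟨h𝒳, fun U => (thin_fiber_iff h𝒳 U).2 fun x φ hx hφ => ?_⟩
  have hv : 𝒳.p.IsHomLift (𝟙 (𝒳.p.obj x)) φ := vert_of_map_eq 𝒳.p (h := rfl) (by simpa using hφ)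
  have := fibGrpd_isIso_vert h𝒳 (R := 𝒳.p.obj x) φ
  let s : (inertia (toSelf 𝒳)).obj := ⟨x, asIso φ, hφ⟩
  let t : (inertia (toSelf 𝒳)).obj := (inertiaNeutral (toSelf 𝒳)).obj x
  obtain ⟨c, hc⟩ := h1.map_surjective (X := s) (Y := t) (show s.pt ⟶ t.pt from 𝟙 x)
  have hc' : c.hom = 𝟙 x := hc
  have := c.comm
  rw [hc'] at this
  simpa [s, t, inertiaNeutral] using this

end Groth.Agent.Stk19
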