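import Groth.Agent.Stk19.Slice

/-! Representable morphisms and diagonals. -/

set_option autoImplicit false
set_option backward.isDefEq.respectTransparency false
set_option backward.isDefEq.respectTransparency.types false

universe v₉ u₉ v₈ u₈ v₇ u₇ v₆ u₆ v₅ u₅ v₄ u₄ v₃ u₃ v₂ u₂ v u

open CategoryTheory CategoryTheory.Limits FibCat

namespace Groth.Agent.Stk19

variable {C : Type u} [Category.{v} C]

attribute [local instance] id_full id_faithful

section Iso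

variable {𝒳 : BasedCategory.{v₂, u₂} C} {𝒴 : BasedCategory.{v₃, u₃} C} {𝒯 : BasedCategory.{v₄, u₄} C}

theorem prod_proj_map {x y : (fp (toSelf 𝒳) (toSelf 𝒴)).obj} (f : x ⟶ y) :
    𝒴.p.map f.hom.snd = eqToHom (fp_base_eq x) ≫ 𝒳.p.map f.hom.fst ≫ eqToHom (fp_base_eq y).symm :=
  fp_map_snd f

/-- An isomorphism in a product over the base. -/
def prodIso {x y : (fp (toSelf 𝒳) (toSelf 𝒴)).obj} (f : x.obj.fst ≅ y.obj.fst) (g : x.obj.snd ≅ y.obj.snd)
    (h : 𝒴.p.map g.hom = eqToHom (fp_base_eq x) ≫ 𝒳.p.map f.hom ≫ eqToHom (fp_base_eq y).symm) : x ≅ y :=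
  fpIsoMk f g (prod_w _ _ h)

/-- A functor into a product is the pairing of its components. -/
def isoPair (z : 𝒯 ⥤ᵇ fp (toSelf 𝒳) (toSelf 𝒴)) :
    z ≅ pairSelf (BasedFunctor.comp z (fpFst (toSelf 𝒳) (toSelf 𝒴))) (BasedFunctor.comp z (fpSnd (toSelf 𝒳) (toSelf 𝒴))) :=
  isoMk (fun a => prodIso (Iso.refl _) (Iso.refl _) (by simp))
    (fun a => fpIsoMk_vert _ _ _ (IsHomLift.id rfl))
    (fun φ => fp_hom_ext ((Category.comp_id _).trans (Category.id_comp _).symm)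
      ((Category.comp_id _).trans (Category.id_comp _).symm))

end Iso

section ProdSlice

variable [HasBinaryProducts C]

/-- `C/(U ⨯ V) ⟶ C/U ×_C C/V`. -/
noncomputable def sliceProd (U V : C) : overCat (U ⨯ V) ⥤ᵇ fp (toSelf (overCat U)) (toSelf (overCat V)) :=
  pairSelf (overMapB prod.fst) (overMapB prod.snd)

theorem isEquivOver_sliceProd (U V : C) : IsEquivOver (sliceProd U V) := by
  refine EqvData.isEquivOver ⟨⟨fun {s t} k => ?_⟩, ⟨fun {s t} k k' h => ?_⟩, fun z => ?_⟩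
  · have h2 : k.hom.snd.left = k.hom.fst.left := (prod_proj_map k).trans (by simp)
    refine ⟨Over.homMk k.hom.fst.left ?_, fp_hom_ext (Over.OverMorphism.ext rfl) (Over.OverMorphism.ext h2.symm)⟩
    apply prod.hom_ext
    · rw [Category.assoc]; exact Over.w k.hom.fst
    · rw [Category.assoc, ← h2]; exact Over.w k.hom.snd
  · exact Over.OverMorphism.ext (congrArg (fun m => m.hom.fst.left) h :)
  · refine ⟨Over.mk (prod.lift z.obj.fst.hom (eqToHom (fp_base_eq z).symm ≫ z.obj.snd.hom)),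
      prodIso (Over.isoMk (Iso.refl _) (by simp [sliceProd, pairSelf, fpLift]))
      (Over.isoMk (eqToIso (fp_base_eq z).symm) (by simp [sliceProd, pairSelf, fpLift])) ?_, ?_⟩
    · simp
    · exact fpIsoMk_vert _ _ _ ((vert_iff _ _).2 ⟨rfl, rfl, rfl⟩)

theorem isRepresentable_prod (U V : C) : FibCat.IsRepresentable (fp (toSelf (overCat U)) (toSelf (overCat V))) :=
  isRepresentable_of_equiv' (isEquivOver_sliceProd U V) (isRepresentable_overCat _)

end ProdSlice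

theorem isRepresentable1_overMap [HasPullbacks C] {X Y : C} (f : X ⟶ Y) : IsRepresentable1 (overMapB f) :=
  fun U _ => isRepresentable_fp _ _ (isRepresentable_overCat U) (isRepresentable_overCat X) (isRepresentable_overCat Y)

theorem isRepresentable1_diag_iff [HasBinaryProducts C] [HasPullbacks C] {𝒮 : BasedCategory.{v₂, u₂} C} :
    IsRepresentable1 (FibCat.diag (toSelf 𝒮)) ↔ ∀ (U : C) (G : overCat U ⥤ᵇ 𝒮), IsRepresentable1 G := by
  constructor
  · intro h U G V y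
    have := id_full (fp (toSelf 𝒮) (toSelf 𝒮))
    have := id_faithful (fp (toSelf 𝒮) (toSelf 𝒮))
    refine isRepresentable_of_equiv (isEquivOver_magicSquare y G) ?_
    exact isRepresentable_of_equiv'
      (isEquivOver_fpMap (F := BasedFunctor.comp (sliceProd V U) (prodPair y G)) (G := diag (toSelf 𝒮))
        (F' := prodPair y G) (G' := diag (toSelf 𝒮))
        (sliceProd V U) (BasedFunctor.id 𝒮) (BasedFunctor.id _) (Iso.refl _) (Iso.refl _)
        (isEquivOver_sliceProd V U) (isEquivOver_id _))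
      (h (V ⨯ U) _)
  · intro h W z
    let x := BasedFunctor.comp z (fpFst (toSelf 𝒮) (toSelf 𝒮))
    let y := BasedFunctor.comp z (fpSnd (toSelf 𝒮) (toSelf 𝒮))
    let Δ := pairSelf (BasedFunctor.id (overCat W)) (BasedFunctor.id (overCat W))
    have e : BasedFunctor.comp Δ (prodPair x y) ≅ z :=
      isoMk (fun a => ((appIso (isoPair z) a) ≪≫ prodIso (Iso.refl _) (Iso.refl _) (by
          simp)).symm)
        (fun a => (vert_iff _ _).2 ⟨rfl, rfl, by
          show 𝒮.p.map (𝟙 _ ≫ 𝟙 _) = 𝟙 _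
          simp⟩)
        (fun φ => fp_hom_ext (by
            show x.map φ ≫ (𝟙 _ ≫ 𝟙 _) = (𝟙 _ ≫ 𝟙 _) ≫ x.map φ
            simp) (by
            show y.map φ ≫ (𝟙 _ ≫ 𝟙 _) = (𝟙 _ ≫ 𝟙 _) ≫ y.map φ
            simp))
    obtain ⟨E, hE, -, -⟩ := exists_congr (G := diag (toSelf 𝒮)) e (Iso.refl _)
    refine isRepresentable_of_equiv' hE (isRepresentable_of_equiv' (isEquivOver_fpPaste Δ (prodPair x y) (diag (toSelf 𝒮))) ?_)
    exact isRepresentable_fp _ _ (isRepresentable_overCat W)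
      (isRepresentable_of_equiv' (isEquivOver_magicSquare x y) (h W y W x)) (isRepresentable_prod W W)

section Relative

variable {𝒳 : BasedCategory.{v₂, u₂} C} {𝒴 : BasedCategory.{v₃, u₃} C} {𝒵 : BasedCategory.{v₄, u₄} C}
  {𝒲 : BasedCategory.{v₅, u₅} C}
variable (y : 𝒲 ⥤ᵇ 𝒴) (f : 𝒳 ⥤ᵇ 𝒴) (g : 𝒴 ⥤ᵇ 𝒵)

/-- The 2-isomorphism behind `relPairMap`. -/
def relIso₀ : BasedFunctor.comp (BasedFunctor.comp (fpFst (BasedFunctor.comp y g) (BasedFunctor.comp f g)) y) g ≅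
    BasedFunctor.comp (BasedFunctor.comp (fpSnd (BasedFunctor.comp y g) (BasedFunctor.comp f g)) f) g :=
  isoMk (fun t => t.obj.iso) (fun t => vert_change 𝒵.p _ (fp_iso_vert t) rfl) (fun φ => φ.hom.w)

/-- `𝒲 ×_𝒵 𝒳 ⟶ 𝒴 ×_𝒵 𝒴`. -/
def relPairMap : fp (BasedFunctor.comp y g) (BasedFunctor.comp f g) ⥤ᵇ fp g g :=
  fpLift (BasedFunctor.comp (fpFst _ _) y) (BasedFunctor.comp (fpSnd _ _) f) (relIso₀ y f g)

/-- Pushing a fibre product along `g`. -/
def fpPush : fp y f ⥤ᵇ fp (BasedFunctor.comp y g) (BasedFunctor.comp f g) :=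
  fpLift (fpFst y f) (fpSnd y f)
    (isoMk (fun t => g.toFunctor.mapIso t.obj.iso) (fun t => by
      have := fp_iso_vert t
      exact vert_change 𝒵.p _ (BasedFunctor.preserves_isHomLift g (𝟙 (𝒲.p.obj t.obj.fst)) t.obj.iso.hom) rfl)
      (fun {s t} φ => by
        show g.map (y.map φ.hom.fst) ≫ g.map t.obj.iso.hom = g.map s.obj.iso.hom ≫ g.map (f.map φ.hom.snd)
        have w : y.map φ.hom.fst ≫ t.obj.iso.hom = s.obj.iso.hom ≫ f.map φ.hom.snd := φ.hom.w
        rw [← g.toFunctor.map_comp, w, g.toFunctor.map_comp]))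

/-- The 2-isomorphism of the relative magic square. -/
def relIso : BasedFunctor.comp (fpPush y f g) (relPairMap y f g) ≅
    BasedFunctor.comp (BasedFunctor.comp (fpFst y f) y) (diag g) :=
  isoMk (fun t => fpIsoMk (Iso.refl _) t.obj.iso.symm (by
      show g.map (𝟙 _) ≫ 𝟙 _ = g.map t.obj.iso.hom ≫ g.map t.obj.iso.inv
      rw [← g.toFunctor.map_comp, Iso.hom_inv_id]
      exact Category.comp_id _))
    (fun t => fpIsoMk_vert _ _ _ (IsHomLift.id rfl))
    (fun {s t} φ => fp_hom_ext ((Category.comp_id _).trans (Category.id_comp _).symm) (by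
      show f.map φ.hom.snd ≫ t.obj.iso.inv = s.obj.iso.inv ≫ y.map φ.hom.fst
      have w : y.map φ.hom.fst ≫ t.obj.iso.hom = s.obj.iso.hom ≫ f.map φ.hom.snd := φ.hom.w
      rw [← cancel_epi s.obj.iso.hom, ← reassoc_of% w]
      simp))

/-- `𝒲 ×_𝒴 𝒳 ⟶ (𝒲 ×_𝒵 𝒳) ×_{𝒴 ×_𝒵 𝒴} 𝒴`. -/
def relMagic : fp y f ⥤ᵇ fp (relPairMap y f g) (diag g) :=
  fpLift (fpPush y f g) (BasedFunctor.comp (fpFst y f) y) (relIso y f g)

theorem isEquivOver_relMagic : IsEquivOver (relMagic y f g) := by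
  refine EqvData.isEquivOver ⟨⟨fun {s t} k => ?_⟩, ⟨fun {s t} k k' h => ?_⟩, fun z => ?_⟩
  · have h1 : y.map k.hom.fst.hom.fst ≫ 𝟙 _ = 𝟙 _ ≫ k.hom.snd := congrArg (fun m => m.hom.fst) k.hom.w
    have h2 : f.map k.hom.fst.hom.snd ≫ t.obj.iso.inv = s.obj.iso.inv ≫ k.hom.snd :=
      congrArg (fun m => m.hom.snd) k.hom.w
    rw [Category.comp_id, Category.id_comp] at h1
    refine ⟨fpHom k.hom.fst.hom.fst k.hom.fst.hom.snd ?_, fp_hom_ext (fp_hom_ext rfl rfl) h1⟩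
    rw [← cancel_mono t.obj.iso.inv, Category.assoc, Category.assoc, Iso.hom_inv_id, h2, h1]
    simp
  · exact fp_hom_ext (congrArg (fun m => m.hom.fst.hom.fst) h :) (congrArg (fun m => m.hom.fst.hom.snd) h :)
  · let i₁ : y.obj z.obj.fst.obj.fst ≅ z.obj.snd := (fpFst g g).toFunctor.mapIso z.obj.iso
    let i₂ : f.obj z.obj.fst.obj.snd ≅ z.obj.snd := (fpSnd g g).toFunctor.mapIso z.obj.iso
    have v0 : (fp g g).p.IsHomLift (𝟙 (𝒲.p.obj z.obj.fst.obj.fst)) z.obj.iso.hom := z.property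
    have v1 : 𝒴.p.IsHomLift (𝟙 (𝒲.p.obj z.obj.fst.obj.fst)) i₁.hom :=
      BasedFunctor.preserves_isHomLift (fpFst g g) _ z.obj.iso.hom
    have v2 : 𝒴.p.IsHomLift (𝟙 (𝒲.p.obj z.obj.fst.obj.fst)) i₂.hom :=
      BasedFunctor.preserves_isHomLift (fpSnd g g) _ z.obj.iso.hom
    have hw : g.map i₁.hom ≫ 𝟙 _ = z.obj.fst.obj.iso.hom ≫ g.map i₂.hom := z.obj.iso.hom.hom.w
    rw [Category.comp_id] at hw
    refine ⟨fpMk z.obj.fst.obj.fst z.obj.fst.obj.snd (i₁ ≪≫ i₂.symm)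
      (vert_comp 𝒴.p _ _ v1 (vert_inv 𝒴.p i₂ v2)), fpIsoMk (fpIsoMk (Iso.refl _) (Iso.refl _) ?_) i₁ ?_,
      fpIsoMk_vert _ _ _ (fpIsoMk_vert _ _ _ (IsHomLift.id rfl))⟩
    · show g.map (y.map (𝟙 _)) ≫ z.obj.fst.obj.iso.hom = g.map (i₁.hom ≫ i₂.inv) ≫ g.map (f.map (𝟙 _))
      rw [g.toFunctor.map_comp i₁.hom i₂.inv, hw]
      simp
      exact (Category.comp_id _).symm
    · apply fp_hom_ext
      · show y.map (𝟙 _) ≫ i₁.hom = 𝟙 _ ≫ i₁.hom
        simp
      · show f.map (𝟙 _) ≫ i₂.hom = (i₁ ≪≫ i₂.symm).inv ≫ i₁.hom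
        simp

theorem isRepresentable1_of_comp (hgf : IsRepresentable1 (BasedFunctor.comp f g))
    (hΔ : IsRepresentable1 (FibCat.diag g)) : IsRepresentable1 f := by
  intro U y
  have := id_full (fp g g)
  have := id_faithful (fp g g)
  refine isRepresentable_of_equiv (isEquivOver_relMagic y f g) ?_
  obtain ⟨V, j, hj⟩ := hgf U (BasedFunctor.comp y g)
  obtain ⟨e, he, -, -⟩ := exists_inverse hj
  exact isRepresentable_of_equiv'
    (isEquivOver_fpMap (F := BasedFunctor.comp e (relPairMap y f g)) (G := diag g)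
      (F' := relPairMap y f g) (G' := diag g) e (BasedFunctor.id 𝒴) (BasedFunctor.id _) (Iso.refl _) (Iso.refl _)
      he (isEquivOver_id _))
    (hΔ V _)

end Relative

end Groth.Agent.Stk19
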