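import Groth.Agent.Stk19.RepDiag

/-! The product of two functors over the base, as a composite of base changes. -/

set_option autoImplicit false
set_option backward.isDefEq.respectTransparency false
set_option backward.isDefEq.respectTransparency.types false

universe v₇ u₇ v₅ u₅ v₄ u₄ v₃ u₃ v₂ u₂ v u

open CategoryTheory CategoryTheory.Limits FibCat

namespace Groth.Agent.Stk19

variable {C : Type u} [Category.{v} C]
variable {𝒳 : BasedCategory.{v₂, u₂} C} {𝒳' : BasedCategory.{v₃, u₃} C} {𝒴 : BasedCategory.{v₄, u₄} C}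
  {𝒴' : BasedCategory.{v₅, u₅} C}

/-- The product of two functors over the base. -/
abbrev prodMapB (f : 𝒳 ⥤ᵇ 𝒴) (f' : 𝒳' ⥤ᵇ 𝒴') : fp (toSelf 𝒳) (toSelf 𝒳') ⥤ᵇ fp (toSelf 𝒴) (toSelf 𝒴') :=
  pairSelf (BasedFunctor.comp (fpFst (toSelf 𝒳) (toSelf 𝒳')) f) (BasedFunctor.comp (fpSnd (toSelf 𝒳) (toSelf 𝒳')) f')

/-- Any two pairings of the same components into a product are isomorphic. -/
def prodMapIso (f : 𝒳 ⥤ᵇ 𝒴) (f' : 𝒳' ⥤ᵇ 𝒴')
    (e : BasedFunctor.comp (BasedFunctor.comp (fpFst (toSelf 𝒳) (toSelf 𝒳')) f) (toSelf 𝒴) ≅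
      BasedFunctor.comp (BasedFunctor.comp (fpSnd (toSelf 𝒳) (toSelf 𝒳')) f') (toSelf 𝒴')) :
    fpLift (BasedFunctor.comp (fpFst (toSelf 𝒳) (toSelf 𝒳')) f) (BasedFunctor.comp (fpSnd (toSelf 𝒳) (toSelf 𝒳')) f') e ≅
      prodMapB f f' :=
  isoMk (fun a => prodIso (Iso.refl _) (Iso.refl _) (by simp))
    (fun a => fpIsoMk_vert _ _ _ (IsHomLift.id rfl))
    (fun φ => fp_hom_ext ((Category.comp_id _).trans (Category.id_comp _).symm)
      ((Category.comp_id _).trans (Category.id_comp _).symm))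

/-- `f × 𝟙` as a base change of `f`. -/
def prodLeft (f : 𝒳 ⥤ᵇ 𝒴) (ℬ : BasedCategory.{v₇, u₇} C) :
    fp (toSelf 𝒳) (toSelf ℬ) ⥤ᵇ fp (fpFst (toSelf 𝒴) (toSelf ℬ)) f :=
  fpLift (prodMapB f (BasedFunctor.id ℬ)) (fpFst (toSelf 𝒳) (toSelf ℬ)) (Iso.refl _)

/-- `𝟙 × f` as a base change of `f`. -/
def prodRight (f : 𝒳 ⥤ᵇ 𝒴) (ℬ : BasedCategory.{v₇, u₇} C) :
    fp (toSelf ℬ) (toSelf 𝒳) ⥤ᵇ fp (fpSnd (toSelf ℬ) (toSelf 𝒴)) f :=
  fpLift (prodMapB (BasedFunctor.id ℬ) f) (fpSnd (toSelf ℬ) (toSelf 𝒳)) (Iso.refl _)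

theorem isEquivOver_prodLeft (f : 𝒳 ⥤ᵇ 𝒴) (ℬ : BasedCategory.{v₇, u₇} C) : IsEquivOver (prodLeft f ℬ) := by
  refine EqvData.isEquivOver ⟨⟨fun {s t} k => ?_⟩, ⟨fun {s t} k k' h => ?_⟩, fun z => ?_⟩
  · have hw : k.hom.fst.hom.fst ≫ 𝟙 _ = 𝟙 _ ≫ f.map k.hom.snd := k.hom.w
    rw [Category.comp_id, Category.id_comp] at hw
    refine ⟨prodHom k.hom.snd k.hom.fst.hom.snd ?_, fp_hom_ext (fp_hom_ext hw.symm rfl) rfl⟩
    have h2 := prod_proj_map k.hom.fst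
    rw [hw, based_map f] at h2
    simpa using h2
  · exact fp_hom_ext (congrArg (fun m => m.hom.snd) h) (congrArg (fun m => m.hom.fst.hom.snd) h)
  · have hb : 𝒳.p.obj z.obj.snd = ℬ.p.obj z.obj.fst.obj.snd := (fp_base_eq z).trans (fp_base_eq z.obj.fst).symm
    let ξ : (fp (toSelf 𝒳) (toSelf ℬ)).obj := fpMk z.obj.snd z.obj.fst.obj.snd (eqToIso hb)
      (vert_of_map_eq (selfOver C).p (h := hb) rfl)
    have hv := vert_inv 𝒴.p z.obj.iso (fp_iso_vert z)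
    have hm : 𝒴.p.map z.obj.iso.inv = eqToHom ((f.w_obj z.obj.snd).trans ((fp_base_eq z))) :=
      map_eq_of_vert 𝒴.p (R := (fp (toSelf 𝒴) (toSelf ℬ)).p.obj z.obj.fst) z.obj.iso.inv
    refine ⟨ξ, fpIsoMk (prodIso z.obj.iso.symm (Iso.refl _) ?_) (Iso.refl _) ?_, ?_⟩
    · show ℬ.p.map (𝟙 _) = _ ≫ 𝒴.p.map z.obj.iso.inv ≫ _
      rw [hm]
      simp
    · show z.obj.iso.inv ≫ z.obj.iso.hom = 𝟙 _ ≫ f.map (𝟙 _)
      rw [f.toFunctor.map_id, z.obj.iso.inv_hom_id]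
      simp
    · refine fpIsoMk_vert _ _ _ (fpIsoMk_vert _ _ _ ?_)
      exact vert_change 𝒴.p _ (vert_inv 𝒴.p z.obj.iso (fp_iso_vert z)) ((f.w_obj z.obj.snd).trans (fp_base_eq z))

theorem isEquivOver_prodRight (f : 𝒳 ⥤ᵇ 𝒴) (ℬ : BasedCategory.{v₇, u₇} C) : IsEquivOver (prodRight f ℬ) := by
  refine EqvData.isEquivOver ⟨⟨fun {s t} k => ?_⟩, ⟨fun {s t} k k' h => ?_⟩, fun z => ?_⟩
  · have hw : k.hom.fst.hom.snd ≫ 𝟙 _ = 𝟙 _ ≫ f.map k.hom.snd := k.hom.w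
    rw [Category.comp_id, Category.id_comp] at hw
    refine ⟨prodHom k.hom.fst.hom.fst k.hom.snd ?_, fp_hom_ext (fp_hom_ext rfl hw.symm) rfl⟩
    have h2 := prod_proj_map k.hom.fst
    rw [hw] at h2
    rw [based_map_back f, h2]
    simp
  · exact fp_hom_ext (congrArg (fun m => m.hom.fst.hom.fst) h) (congrArg (fun m => m.hom.snd) h)
  · have hb : ℬ.p.obj z.obj.fst.obj.fst = 𝒳.p.obj z.obj.snd := (fp_base_eq z).symm
    let ξ : (fp (toSelf ℬ) (toSelf 𝒳)).obj := fpMk z.obj.fst.obj.fst z.obj.snd (eqToIso hb)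
      (vert_of_map_eq (selfOver C).p (h := hb) rfl)
    have hv := fp_iso_vert z
    have hm : 𝒴.p.map z.obj.iso.inv = eqToHom ((f.w_obj z.obj.snd).trans ((fp_base_eq z).trans (fp_base_eq z.obj.fst).symm)) := by
      have hv' := vert_inv 𝒴.p z.obj.iso hv
      rw [map_eq_of_vert 𝒴.p (R := (fp (toSelf ℬ) (toSelf 𝒴)).p.obj z.obj.fst) z.obj.iso.inv]
    refine ⟨ξ, fpIsoMk (prodIso (Iso.refl _) z.obj.iso.symm ?_) (Iso.refl _) ?_, ?_⟩
    · show 𝒴.p.map z.obj.iso.inv = _ ≫ ℬ.p.map (𝟙 _) ≫ _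
      rw [hm]
      simp
    · show z.obj.iso.inv ≫ z.obj.iso.hom = 𝟙 _ ≫ f.map (𝟙 _)
      rw [f.toFunctor.map_id, z.obj.iso.inv_hom_id]
      simp
    · exact fpIsoMk_vert _ _ _ (fpIsoMk_vert _ _ _ (IsHomLift.id rfl))

/-- The product is the composite of the two one-sided products. -/
def prodMapFactor (f : 𝒳 ⥤ᵇ 𝒴) (f' : 𝒳' ⥤ᵇ 𝒴') :
    BasedFunctor.comp (prodMapB f (BasedFunctor.id 𝒳')) (prodMapB (BasedFunctor.id 𝒴) f') ≅ prodMapB f f' :=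
  isoMk (fun a => prodIso (Iso.refl _) (Iso.refl _) (by simp))
    (fun a => fpIsoMk_vert _ _ _ (IsHomLift.id rfl))
    (fun φ => fp_hom_ext ((Category.comp_id _).trans (Category.id_comp _).symm)
      ((Category.comp_id _).trans (Category.id_comp _).symm))

end Groth.Agent.Stk19
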