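import Groth.Agent.Stk19.Stack
import Groth.Agent.Stk19.Yoneda

/-! A category faithful over a stack with stacky base changes is a stack. -/

set_option autoImplicit false
set_option backward.isDefEq.respectTransparency false
set_option backward.isDefEq.respectTransparency.types false

universe v₃ u₃ v₂ u₂ v u

open CategoryTheory FibCat Groth.Agent.Desc19

namespace Groth.Agent.Stk19

variable {C : Type u} [Category.{v} C] {𝒳 : BasedCategory.{v₂, u₂} C} {𝒴 : BasedCategory.{v₃, u₃} C}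

theorem isStackFor_of_relative (h𝒳 : IsFibGrpd 𝒳.p) (h𝒴 : IsFibGrpd 𝒴.p) (j : 𝒳 ⥤ᵇ 𝒴) [j.toFunctor.Faithful]
    {U : C} (R : Sieve U) (hY : Stk.IsStackFor R 𝒴) (hrel : ∀ y : overCat U ⥤ᵇ 𝒴, Stk.IsStackFor R (fp y j)) :
    Stk.IsStackFor R 𝒳 := by
  have : (Stk.resSieve R 𝒴).IsEquivalence := hY
  refine { faithful := ⟨fun {H K α β} h => ?_⟩, full := ⟨fun {H K} k => ?_⟩, essSurj := ⟨fun D => ?_⟩ }
  · have h' : (Stk.resSieve R 𝒴).map ((postB _ j).map α) = (Stk.resSieve R 𝒴).map ((postB _ j).map β) :=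
      based_hom_ext fun a => congrArg (fun (m : (Stk.resSieve R 𝒳).obj H ⟶ (Stk.resSieve R 𝒳).obj K) => j.map (m.toNatTrans.app a)) h
    have := (Stk.resSieve R 𝒴).map_injective h'
    exact based_hom_ext fun a => j.toFunctor.map_injective (congrArg (fun m => m.toNatTrans.app a) this)
  · obtain ⟨β, hβ⟩ := (Stk.resSieve R 𝒴).map_surjective (X := (postB _ j).obj H) (Y := (postB _ j).obj K)
      ((postB _ j).map k)
    have hβi := isIso_of_fibGrpd h𝒴 β
    have : (Stk.resSieve R (fp (BasedFunctor.comp H j) j)).IsEquivalence := hrel _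
    let H' : overCat U ⥤ᵇ fp (BasedFunctor.comp H j) j := fpLift (BasedFunctor.id _) H (Iso.refl _)
    let K' : overCat U ⥤ᵇ fp (BasedFunctor.comp H j) j := fpLift (BasedFunctor.id _) K (@asIso _ _ _ _ β hβi)
    let k' : (Stk.resSieve R _).obj H' ⟶ (Stk.resSieve R _).obj K' :=
      { toNatTrans :=
          { app := fun a => fpHom (𝟙 _) (k.toNatTrans.app a) (by
              show j.map (H.map (𝟙 _)) ≫ β.toNatTrans.app _ = 𝟙 _ ≫ j.map (k.toNatTrans.app a)
              simp only [CategoryTheory.Functor.map_id]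
              erw [Category.id_comp, Category.id_comp]
              exact congrArg (fun m => m.toNatTrans.app a) hβ)
            naturality := fun a b φ => fp_hom_ext ((Category.comp_id _).trans (Category.id_comp _).symm)
              (k.toNatTrans.naturality φ) }
        isHomLift' := fun a => (vert_iff _ _).2 ⟨rfl, rfl, (overCat U).p.map_id _⟩ }
    obtain ⟨α', hα'⟩ := (Stk.resSieve R (fp (BasedFunctor.comp H j) j)).map_surjective k'
    refine ⟨(postB _ (fpSnd (BasedFunctor.comp H j) j)).map α', based_hom_ext fun a => ?_⟩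
    exact congrArg (fun (m : (Stk.resSieve R _).obj H' ⟶ (Stk.resSieve R _).obj K') => (m.toNatTrans.app a).hom.snd) hα'
  · let y := (Stk.resSieve R 𝒴).objPreimage ((postB _ j).obj D)
    let ε := (Stk.resSieve R 𝒴).objObjPreimageIso ((postB _ j).obj D)
    let D' : Stk.sieveCat R ⥤ᵇ fp y j := fpLift (Stk.sieveIncl R) D ε
    have : (Stk.resSieve R (fp y j)).IsEquivalence := hrel y
    refine ⟨BasedFunctor.comp ((Stk.resSieve R (fp y j)).objPreimage D') (fpSnd y j), ⟨?_⟩⟩
    exact (postB _ (fpSnd y j)).mapIso ((Stk.resSieve R (fp y j)).objObjPreimageIso D')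

theorem isStack_of_relative (J : GrothendieckTopology C) (h𝒳 : IsFibGrpd 𝒳.p) (h𝒴 : Stk.IsStack J 𝒴)
    (j : 𝒳 ⥤ᵇ 𝒴) [j.toFunctor.Faithful]
    (hrel : ∀ (U : C) (y : overCat U ⥤ᵇ 𝒴), Stk.IsStack J (fp y j)) : Stk.IsStack J 𝒳 :=
  ⟨h𝒳, fun U R hR => isStackFor_of_relative h𝒳 h𝒴.1 j R (h𝒴.2 R hR) fun y => (hrel U y).2 R hR⟩

end Groth.Agent.Stk19
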