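import Groth.Agent.Stk19.Fp

/-! Symmetry and pasting of 2-fibre products over the base. -/

set_option autoImplicit false
set_option backward.isDefEq.respectTransparency false
set_option backward.isDefEq.respectTransparency.types false

universe v₉ u₉ v₈ u₈ v₇ u₇ v₆ u₆ v₅ u₅ v₄ u₄ v₃ u₃ v₂ u₂ v u

open CategoryTheory CategoryTheory.Limits FibCat

namespace Groth.Agent.Stk19

variable {C : Type u} [Category.{v} C]
variable {𝒳 : BasedCategory.{v₂, u₂} C} {𝒴 : BasedCategory.{v₃, u₃} C} {𝒮 : BasedCategory.{v₄, u₄} C}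
  {𝒲 : BasedCategory.{v₅, u₅} C} {𝒵 : BasedCategory.{v₆, u₆} C}

/-- The swap `𝒳 ×_𝒮 𝒴 ⟶ 𝒴 ×_𝒮 𝒳`. -/
def fpSwap (F : 𝒳 ⥤ᵇ 𝒮) (G : 𝒴 ⥤ᵇ 𝒮) : fp F G ⥤ᵇ fp G F :=
  fpLift (fpSnd F G) (fpFst F G) (fpIso F G).symm

theorem isEquivOver_fpSwap (F : 𝒳 ⥤ᵇ 𝒮) (G : 𝒴 ⥤ᵇ 𝒮) : IsEquivOver (fpSwap F G) :=
  ⟨fpSwap G F, ⟨isoMk (fun _ => fpIsoMk (Iso.refl _) (Iso.refl _) (by simp; rfl))
      (fun a => fpIsoMk_vert _ _ _ (IsHomLift.id rfl)) (fun φ => fp_hom_ext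
        ((Category.comp_id _).trans (Category.id_comp _).symm) ((Category.comp_id _).trans (Category.id_comp _).symm))⟩,
    ⟨isoMk (fun _ => fpIsoMk (Iso.refl _) (Iso.refl _) (by simp; rfl))
      (fun a => fpIsoMk_vert _ _ _ (IsHomLift.id rfl)) (fun φ => fp_hom_ext
        ((Category.comp_id _).trans (Category.id_comp _).symm) ((Category.comp_id _).trans (Category.id_comp _).symm))⟩⟩

section Paste

variable (a : 𝒲 ⥤ᵇ 𝒵) (g : 𝒵 ⥤ᵇ 𝒮) (f : 𝒳 ⥤ᵇ 𝒮)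

/-- The 2-isomorphism behind `fpPaste`. -/
def fpPasteIso : BasedFunctor.comp (fpFst a (fpFst g f)) (BasedFunctor.comp a g) ≅
    BasedFunctor.comp (BasedFunctor.comp (fpSnd a (fpFst g f)) (fpSnd g f)) f :=
  isoMk (fun t => g.toFunctor.mapIso t.obj.iso ≪≫ t.obj.snd.obj.iso)
    (fun t => by
      have h1 : 𝒵.p.IsHomLift (𝟙 (𝒲.p.obj t.obj.fst)) t.obj.iso.hom := t.property
      have h2 : 𝒮.p.IsHomLift (𝟙 (𝒲.p.obj t.obj.fst)) t.obj.snd.obj.iso.hom := by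
        have := t.obj.snd.property
        rw [show 𝒲.p.obj t.obj.fst = 𝒵.p.obj t.obj.snd.obj.fst from (fp_base_eq t).symm]
        exact this
      exact vert_change 𝒮.p _ (vert_comp 𝒮.p _ _
        (BasedFunctor.preserves_isHomLift g (𝟙 (𝒲.p.obj t.obj.fst)) t.obj.iso.hom) h2) rfl)
    (fun {s t} φ => by
      show g.map (a.map φ.hom.fst) ≫ g.map t.obj.iso.hom ≫ t.obj.snd.obj.iso.hom =
        (g.map s.obj.iso.hom ≫ s.obj.snd.obj.iso.hom) ≫ f.map φ.hom.snd.hom.snd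
      have w1 : a.map φ.hom.fst ≫ t.obj.iso.hom = s.obj.iso.hom ≫ φ.hom.snd.hom.fst := φ.hom.w
      have w2 : g.map φ.hom.snd.hom.fst ≫ t.obj.snd.obj.iso.hom = s.obj.snd.obj.iso.hom ≫ f.map φ.hom.snd.hom.snd :=
        φ.hom.snd.hom.w
      rw [← g.toFunctor.map_comp_assoc, w1, g.toFunctor.map_comp_assoc, w2]; simp)

/-- Pasting: `𝒲 ×_𝒵 (𝒵 ×_𝒮 𝒳) ⟶ 𝒲 ×_𝒮 𝒳`. -/
def fpPaste : fp a (fpFst g f) ⥤ᵇ fp (BasedFunctor.comp a g) f :=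
  fpLift (fpFst a (fpFst g f)) (BasedFunctor.comp (fpSnd a (fpFst g f)) (fpSnd g f)) (fpPasteIso a g f)

theorem fpPaste_fst : BasedFunctor.comp (fpPaste a g f) (fpFst (BasedFunctor.comp a g) f) = fpFst a (fpFst g f) := rfl

theorem isEquivOver_fpPaste : IsEquivOver (fpPaste a g f) := by
  refine EqvData.isEquivOver ⟨⟨fun {s t} k => ?_⟩, ⟨fun {s t} k k' h => ?_⟩, fun z => ?_⟩
  · have w : g.map (a.map k.hom.fst) ≫ g.map t.obj.iso.hom ≫ t.obj.snd.obj.iso.hom =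
        (g.map s.obj.iso.hom ≫ s.obj.snd.obj.iso.hom) ≫ f.map k.hom.snd := k.hom.w
    refine ⟨fpHom k.hom.fst (fpHom (s.obj.iso.inv ≫ a.map k.hom.fst ≫ t.obj.iso.hom) k.hom.snd ?_) ?_,
      fp_hom_ext rfl rfl⟩
    · change g.toFunctor.map (s.obj.iso.inv ≫ a.map k.hom.fst ≫ t.obj.iso.hom) ≫ t.obj.snd.obj.iso.hom = _
      rw [Functor.map_comp, Functor.map_comp, Category.assoc, Category.assoc, w, Category.assoc,
        ← g.toFunctor.map_comp_assoc, Iso.inv_hom_id]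
      simp
    · show a.map k.hom.fst ≫ t.obj.iso.hom = s.obj.iso.hom ≫ (s.obj.iso.inv ≫ a.map k.hom.fst ≫ t.obj.iso.hom)
      rw [Iso.hom_inv_id_assoc]
  · have h1 : k.hom.fst = k'.hom.fst := congrArg (fun m => m.hom.fst) h
    have h2 : k.hom.snd.hom.snd = k'.hom.snd.hom.snd := congrArg (fun m => m.hom.snd) h
    refine fp_hom_ext h1 (fp_hom_ext ?_ h2)
    have w : a.map k.hom.fst ≫ t.obj.iso.hom = s.obj.iso.hom ≫ k.hom.snd.hom.fst := k.hom.w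
    have w' : a.map k'.hom.fst ≫ t.obj.iso.hom = s.obj.iso.hom ≫ k'.hom.snd.hom.fst := k'.hom.w
    rw [← cancel_epi s.obj.iso.hom, ← w, ← w', h1]
  · have hz : 𝒮.p.IsHomLift (𝟙 (𝒵.p.obj (a.obj z.obj.fst))) z.obj.iso.hom := by
      rw [a.w_obj]; exact z.property
    refine ⟨fpMk (F := a) (G := fpFst g f) z.obj.fst (fpMk (a.obj z.obj.fst) z.obj.snd z.obj.iso hz) (Iso.refl _)
      (IsHomLift.id (a.w_obj _)), fpIsoMk (Iso.refl _) (Iso.refl _) ?_, fpIsoMk_vert _ _ _ (IsHomLift.id rfl)⟩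
    show g.map (a.map (𝟙 _)) ≫ z.obj.iso.hom = (g.map (𝟙 _) ≫ z.obj.iso.hom) ≫ f.map (𝟙 _)
    simp

end Paste

section Comp

variable (y : 𝒲 ⥤ᵇ 𝒮) (f : 𝒳 ⥤ᵇ 𝒵) (g : 𝒵 ⥤ᵇ 𝒮)

/-- The 2-isomorphism behind `fpCompFactor`. -/
def fpCompIso : BasedFunctor.comp (BasedFunctor.comp (fpFst (fpSnd y g) f) (fpFst y g)) y ≅
    BasedFunctor.comp (fpSnd (fpSnd y g) f) (BasedFunctor.comp f g) :=
  isoMk (fun t => t.obj.fst.obj.iso ≪≫ g.toFunctor.mapIso t.obj.iso)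
    (fun t => by
      have h1 : 𝒮.p.IsHomLift (𝟙 (𝒲.p.obj t.obj.fst.obj.fst)) t.obj.fst.obj.iso.hom := t.obj.fst.property
      have h2 : 𝒵.p.IsHomLift (𝟙 (𝒲.p.obj t.obj.fst.obj.fst)) t.obj.iso.hom := t.property
      exact vert_change 𝒮.p _ (vert_comp 𝒮.p _ _ h1
        (BasedFunctor.preserves_isHomLift g (𝟙 (𝒲.p.obj t.obj.fst.obj.fst)) t.obj.iso.hom)) rfl)
    (fun {s t} φ => by
      show y.map φ.hom.fst.hom.fst ≫ t.obj.fst.obj.iso.hom ≫ g.map t.obj.iso.hom =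
        (s.obj.fst.obj.iso.hom ≫ g.map s.obj.iso.hom) ≫ g.map (f.map φ.hom.snd)
      have w1 : φ.hom.fst.hom.snd ≫ t.obj.iso.hom = s.obj.iso.hom ≫ f.map φ.hom.snd := φ.hom.w
      have w2 : y.map φ.hom.fst.hom.fst ≫ t.obj.fst.obj.iso.hom = s.obj.fst.obj.iso.hom ≫ g.map φ.hom.fst.hom.snd :=
        φ.hom.fst.hom.w
      rw [reassoc_of% w2, ← g.toFunctor.map_comp, w1]; simp)

/-- `(𝒲 ×_𝒮 𝒵) ×_𝒵 𝒳 ⟶ 𝒲 ×_𝒮 𝒳`. -/
def fpCompFactor : fp (fpSnd y g) f ⥤ᵇ fp y (BasedFunctor.comp f g) :=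
  fpLift (BasedFunctor.comp (fpFst (fpSnd y g) f) (fpFst y g)) (fpSnd (fpSnd y g) f) (fpCompIso y f g)

theorem isEquivOver_fpCompFactor : IsEquivOver (fpCompFactor y f g) := by
  refine EqvData.isEquivOver ⟨⟨fun {s t} k => ?_⟩, ⟨fun {s t} k k' h => ?_⟩, fun z => ?_⟩
  · have w : y.map k.hom.fst ≫ t.obj.fst.obj.iso.hom ≫ g.map t.obj.iso.hom =
        (s.obj.fst.obj.iso.hom ≫ g.map s.obj.iso.hom) ≫ g.map (f.map k.hom.snd) := k.hom.w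
    refine ⟨fpHom (fpHom k.hom.fst (s.obj.iso.hom ≫ f.map k.hom.snd ≫ t.obj.iso.inv) ?_) k.hom.snd ?_,
      fp_hom_ext rfl rfl⟩
    · show y.map k.hom.fst ≫ t.obj.fst.obj.iso.hom =
        s.obj.fst.obj.iso.hom ≫ g.toFunctor.map (s.obj.iso.hom ≫ f.map k.hom.snd ≫ t.obj.iso.inv)
      have w' : ((y.map k.hom.fst ≫ t.obj.fst.obj.iso.hom) ≫ g.map t.obj.iso.hom) ≫ g.map t.obj.iso.inv =
          ((s.obj.fst.obj.iso.hom ≫ g.map s.obj.iso.hom) ≫ g.map (f.map k.hom.snd)) ≫ g.map t.obj.iso.inv :=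
        congrArg (· ≫ g.map t.obj.iso.inv) ((Category.assoc _ _ _).trans w)
      rw [Category.assoc (y.map k.hom.fst ≫ t.obj.fst.obj.iso.hom), ← g.toFunctor.map_comp, Iso.hom_inv_id,
        g.toFunctor.map_id, Category.comp_id] at w'
      rw [w']
      simp
    · show (s.obj.iso.hom ≫ f.map k.hom.snd ≫ t.obj.iso.inv) ≫ t.obj.iso.hom = s.obj.iso.hom ≫ f.map k.hom.snd
      simp
  · have h1 : k.hom.fst.hom.fst = k'.hom.fst.hom.fst := congrArg (fun m => m.hom.fst) h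
    have h2 : k.hom.snd = k'.hom.snd := congrArg (fun m => m.hom.snd) h
    refine fp_hom_ext (fp_hom_ext h1 ?_) h2
    have w : k.hom.fst.hom.snd ≫ t.obj.iso.hom = s.obj.iso.hom ≫ f.map k.hom.snd := k.hom.w
    have w' : k'.hom.fst.hom.snd ≫ t.obj.iso.hom = s.obj.iso.hom ≫ f.map k'.hom.snd := k'.hom.w
    rw [← cancel_mono t.obj.iso.hom, w, w', h2]
  · have hz : 𝒮.p.IsHomLift (𝟙 (𝒲.p.obj z.obj.fst)) z.obj.iso.hom := z.property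
    refine ⟨fpMk (F := fpSnd y g) (G := f) (fpMk (F := y) (G := g) z.obj.fst (f.obj z.obj.snd) z.obj.iso hz)
      z.obj.snd (Iso.refl _) (IsHomLift.id ((f.w_obj _).trans (fp_base_eq z))),
      fpIsoMk (Iso.refl _) (Iso.refl _) ?_, fpIsoMk_vert _ _ _ (IsHomLift.id rfl)⟩
    show y.map (𝟙 _) ≫ z.obj.iso.hom = (z.obj.iso.hom ≫ g.map (𝟙 _)) ≫ g.map (f.map (𝟙 _))
    simp
    exact (Category.comp_id _).symm

end Comp

theorem isEquivOver_fpFst {F : 𝒳 ⥤ᵇ 𝒮} {G : 𝒴 ⥤ᵇ 𝒮} (hG : IsEquivOver G) : IsEquivOver (fpFst F G) := by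
  obtain ⟨h1, h2, h3⟩ := EqvData.of_isEquivOver hG
  refine EqvData.isEquivOver ⟨⟨fun {s t} k => ?_⟩, ⟨fun {s t} k k' h => ?_⟩, fun x => ?_⟩
  · refine ⟨fpHom k (G.toFunctor.preimage (s.obj.iso.inv ≫ F.map k ≫ t.obj.iso.hom)) ?_, rfl⟩
    rw [Functor.map_preimage, Iso.hom_inv_id_assoc]
  · have hf : k.hom.fst = k'.hom.fst := h
    refine fp_hom_ext hf (G.toFunctor.map_injective ?_)
    have w : F.map k.hom.fst ≫ t.obj.iso.hom = s.obj.iso.hom ≫ G.map k.hom.snd := k.hom.w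
    have w' : F.map k'.hom.fst ≫ t.obj.iso.hom = s.obj.iso.hom ≫ G.map k'.hom.snd := k'.hom.w
    rw [← cancel_epi s.obj.iso.hom, ← w, ← w', hf]
  · obtain ⟨y, e, he⟩ := h3 (F.obj x)
    rw [F.w_obj] at he
    exact ⟨fpMk x y e.symm (vert_inv 𝒮.p e he), Iso.refl _, IsHomLift.id rfl⟩

end Groth.Agent.Stk19
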