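import Groth.Agent.Stk19.Gerbe

/-! Gerbes: invariance under equivalence, gerbes over the restricted site, maps bijective on automorphisms. -/

set_option autoImplicit false
set_option backward.isDefEq.respectTransparency false
set_option backward.isDefEq.respectTransparency.types false

universe v₅ u₅ v₄ u₄ v₃ u₃ v₂ u₂ v u

open CategoryTheory FibCat Groth.Agent.Desc19

namespace Groth.Agent.Stk19

variable {C : Type u} [Category.{v} C] {J : GrothendieckTopology C}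
  {𝒳 : BasedCategory.{v₂, u₂} C} {𝒴 : BasedCategory.{v₃, u₃} C}

theorem gerbe_toSelf_of_equiv {F : 𝒳 ⥤ᵇ 𝒴} (hF : IsEquivOver F) (h : Gerb.IsGerbeOver J (toSelf 𝒳)) :
    Gerb.IsGerbeOver J (toSelf 𝒴) := by
  refine ⟨fun U => ?_, fun y y' b hb => ?_⟩
  · obtain ⟨R, hR, hx⟩ := h.1 U
    refine ⟨R, hR, fun V f hf => ?_⟩
    obtain ⟨x, g, hg⟩ := hx f hf
    change 𝒳.p.obj x ⟶ U at g
    obtain ⟨e, hgm⟩ := lift_spec _ hg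
    change 𝒳.p.obj x = V at e
    change g = eqToHom e ≫ f at hgm
    refine ⟨F.obj x, eqToHom ((F.w_obj x).trans e) ≫ f, lift_mk _ ((F.w_obj x).trans e) rfl ?_⟩
    simp
    rfl
  · obtain ⟨-, -, hs⟩ := EqvData.of_isEquivOver hF
    obtain ⟨x, e, he⟩ := hs y
    obtain ⟨x', e', he'⟩ := hs y'
    obtain ⟨-, ebb, hbm⟩ := (vert_iff _ _).1 hb
    change 𝒴.p.obj y = 𝒴.p.obj y' at ebb
    have e1 : 𝒳.p.obj x = 𝒴.p.obj y := (F.w_obj x).symm.trans (eq_of_vert _ _ he)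
    have e2 : 𝒳.p.obj x' = 𝒴.p.obj y' := (F.w_obj x').symm.trans (eq_of_vert _ _ he')
    obtain ⟨R, hR, hx⟩ := h.2 x x' (eqToHom (e1.trans (ebb.trans e2.symm)))
      ((vert_iff _ _).2 ⟨rfl, e1.trans (ebb.trans e2.symm), rfl⟩)
    refine ⟨_, J.pullback_stable (eqToHom e1.symm) hR, fun V f hf => ?_⟩
    obtain ⟨w, φ, ψ, hφ, hψ, hφψ⟩ := hx _ hf
    have ew : 𝒳.p.obj w = V := IsHomLift.domain_eq 𝒳.p (f ≫ eqToHom e1.symm) φ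
    have hm : 𝒴.p.map e.hom = eqToHom (eq_of_vert _ _ he) := map_eq_of_vert _ (R := 𝒴.p.obj y) e.hom
    have hm' : 𝒴.p.map e'.hom = eqToHom (eq_of_vert _ _ he') := map_eq_of_vert _ (R := 𝒴.p.obj y') e'.hom
    refine ⟨F.obj w, F.map φ ≫ e.hom, F.map ψ ≫ e'.hom, ?_, ?_, ?_⟩
    · refine lift_mk _ ((F.w_obj w).trans ew) rfl ?_
      rw [𝒴.p.map_comp, based_map F, IsHomLift.fac' 𝒳.p (f ≫ eqToHom e1.symm) φ, hm]
      simp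
    · refine lift_mk _ ((F.w_obj w).trans ew) ebb.symm ?_
      rw [𝒴.p.map_comp, based_map F, IsHomLift.fac' 𝒳.p (f ≫ eqToHom e1.symm) ψ, hm']
      simp
    · change b = eqToHom ebb at hbm
      change 𝒳.p.map φ ≫ eqToHom (e1.trans (ebb.trans e2.symm)) = 𝒳.p.map ψ at hφψ
      show 𝒴.p.map (F.map φ ≫ e.hom) ≫ b = 𝒴.p.map (F.map ψ ≫ e'.hom)
      rw [hbm, 𝒴.p.map_comp, 𝒴.p.map_comp, based_map F, based_map F, ← hφψ, hm, hm']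
      simp

theorem isGerbe_iff_of_isEquivOver {F : 𝒳 ⥤ᵇ 𝒴} (hF : IsEquivOver F) :
    Gerb.IsGerbe J 𝒳 ↔ Gerb.IsGerbe J 𝒴 := by
  obtain ⟨G, hG, -, -⟩ := exists_inverse hF
  exact ⟨fun h => ⟨(isStack_iff_of_equiv J hF).1 h.1, gerbe_toSelf_of_equiv hF h.2⟩,
    fun h => ⟨(isStack_iff_of_equiv J hF).2 h.1, gerbe_toSelf_of_equiv hG h.2⟩⟩

theorem isGerbe_restricted {𝒳' : BasedCategory.{v₄, u₄} C} (h𝒳' : Stk.IsStack J 𝒳') (h𝒴 : Stk.IsStack J 𝒴)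
    {F' : 𝒳' ⥤ᵇ 𝒴} (hF' : IsFibGrpd F'.toFunctor) (hF : Gerb.IsGerbeOver J F') :
    Gerb.IsGerbe (𝒴.p.restrictedTopology J) (BasedCategory.ofFunctor F'.toFunctor) := by
  refine ⟨isStack_restricted J h𝒳' h𝒴 F' hF', fun y => ?_, fun x x' b hb => ?_⟩
  · obtain ⟨R, hR, hx⟩ := hF.1 y
    refine ⟨R.functorPullback 𝒴.p, (mem_restricted_iff h𝒴.1 J _).2 (by rw [sieve_push_pullback h𝒴.1]; exact hR), ?_⟩
    intro z φ (hφ : R.arrows (𝒴.p.map φ))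
    obtain ⟨x, g, hg⟩ := hx _ hφ
    obtain ⟨e, hgm⟩ := lift_spec _ hg
    obtain ⟨κ, ⟨hκ1, hκ2⟩, -⟩ := fibGrpd_fac h𝒴.1 g φ (eqToHom e.symm) (by rw [hgm]; simp)
    obtain ⟨w, a, ew, ha⟩ := fibGrpd_lift hF' x κ
    refine ⟨w, eqToHom ew ≫ φ, lift_mk _ ew rfl ?_⟩
    simp
    rfl
  · change F'.obj x ⟶ F'.obj x' at b
    obtain ⟨-, ebb, hbm⟩ := (vert_iff _ _).1 hb
    change F'.obj x = F'.obj x' at ebb
    change b = eqToHom ebb at hbm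
    obtain ⟨R, hR, hw⟩ := hF.2 x x' b ((vert_iff _ _).2 ⟨F'.w_obj x, congrArg 𝒴.p.obj ebb, by rw [hbm, eqToHom_map]⟩)
    have hR' : (R.pullback (eqToHom (F'.w_obj x))).functorPullback 𝒴.p ∈ 𝒴.p.restrictedTopology J (F'.obj x) :=
      (mem_restricted_iff h𝒴.1 J _).2 (by rw [sieve_push_pullback h𝒴.1]; exact J.pullback_stable _ hR)
    refine ⟨_, hR', fun (z : 𝒴.obj) (φ : z ⟶ F'.obj x) hφ => ?_⟩
    obtain ⟨x₀, α, β, hα, hβ, hαβ⟩ := hw (𝒴.p.map φ ≫ eqToHom (F'.w_obj x)) hφ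
    have e₀ : 𝒳'.p.obj x₀ = 𝒴.p.obj z := IsHomLift.domain_eq 𝒳'.p (𝒴.p.map φ ≫ eqToHom (F'.w_obj x)) α
    have hαm := IsHomLift.fac' 𝒳'.p (𝒴.p.map φ ≫ eqToHom (F'.w_obj x)) α
    obtain ⟨κ, ⟨hκ1, hκ2⟩, -⟩ := fibGrpd_fac h𝒴.1 (F'.map α) φ (eqToHom ((F'.w_obj x₀).trans e₀).symm)
      (by rw [based_map F', hαm]; simp)
    obtain ⟨w, a, ew, ha⟩ := fibGrpd_lift hF' x₀ κ
    refine ⟨w, a ≫ α, a ≫ β, lift_mk _ ew rfl ?_, lift_mk _ ew ebb.symm ?_, ?_⟩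
    · show F'.map (a ≫ α) = _
      rw [F'.toFunctor.map_comp, ha, Category.assoc, hκ2]
      simp
    · show F'.map (a ≫ β) = _
      rw [F'.toFunctor.map_comp, ha, ← hαβ, Category.assoc, reassoc_of% hκ2, hbm]
    · show F'.map (a ≫ α) ≫ b = F'.map (a ≫ β)
      rw [F'.toFunctor.map_comp, F'.toFunctor.map_comp, Category.assoc, hαβ]

theorem isEquivOver_of_autMap {φ : 𝒳 ⥤ᵇ 𝒴} (h𝒳 : Gerb.IsGerbe J 𝒳) (h𝒴 : Gerb.IsGerbe J 𝒴)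
    {U₀ : C} (term : ∀ U : C, Nonempty (U ⟶ U₀)) (uniq : ∀ {U : C} (f g : U ⟶ U₀), f = g)
    (s : 𝒳.obj) (hs : 𝒳.p.obj s = U₀)
    (hφ : ∀ (x : 𝒳.obj) (c : x ⟶ s), Function.Bijective (Gerb.autMap φ x)) : IsEquivOver φ := by
  have hX := h𝒳.1.1
  have hY := h𝒴.1.1
  have := fibGrpd_isFibered hX
  -- local comparison with restrictions of `s`
  have locs : ∀ x : 𝒳.obj, ∃ R ∈ J (𝒳.p.obj x), ∀ ⦃V : C⦄ (f : V ⟶ 𝒳.p.obj x), R f →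
      ∀ (z : 𝒳.obj) (ν : z ⟶ x),
      𝒳.p.IsHomLift f ν → Nonempty (z ⟶ s) := by
    intro x
    obtain ⟨g⟩ := term (𝒳.p.obj x)
    obtain ⟨w, a, ew, ha⟩ := fibGrpd_lift hX s (g ≫ eqToHom hs.symm)
    obtain ⟨R, hR, hx⟩ := h𝒳.2.2 x w (eqToHom ew.symm) ((vert_iff _ _).2 ⟨rfl, ew.symm, rfl⟩)
    refine ⟨R, hR, fun V f hf z ν hν => ?_⟩
    obtain ⟨x₀, α, β, hα, -, -⟩ := hx f hf
    obtain ⟨ez, hνm⟩ := lift_spec _ hν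
    obtain ⟨eα, hαm⟩ := lift_spec _ hα
    obtain ⟨κ, -, -⟩ := fibGrpd_fac hX α ν (eqToHom (ez.trans eα.symm)) (by rw [hαm, hνm]; simp)
    exact ⟨κ ≫ β ≫ a⟩
  have inj : ∀ (z : 𝒳.obj) (c : z ⟶ s) (θ : z ⟶ z), 𝒳.p.map θ = 𝟙 _ → φ.map θ = 𝟙 _ → θ = 𝟙 z := by
    intro z c θ h1 h2
    have : 𝒳.p.IsHomLift (𝟙 (𝒳.p.obj z)) θ := (vert_iff _ _).2 ⟨rfl, rfl, h1⟩
    have hi := fibGrpd_isIso_vert hX (R := 𝒳.p.obj z) θ
    let θf : Gerb.fib z ⟶ Gerb.fib z := ⟨θ, this⟩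
    have : IsIso θf := (fibGrpd_iff.1 hX).2 _ |>.all_isIso θf
    have e : Gerb.autMap φ z (asIso θf) = Gerb.autMap φ z 1 := by
      rw [map_one]
      exact Aut.ext (Functor.Fiber.hom_ext h2)
    exact congrArg (fun α : Gerb.AutO z => α.hom.1) ((hφ z c).1 e)
  have faith : ∀ (x x' : 𝒳.obj) (e : 𝒳.p.obj x = 𝒳.p.obj x') (α β : x ⟶ x'),
      𝒳.p.map α = eqToHom e → 𝒳.p.map β = eqToHom e → φ.map α = φ.map β → α = β := by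
    intro x x' e α β hα hβ hαβ
    obtain ⟨R, hR, hloc⟩ := locs x
    refine vert_ext_of_prestack hX (isStack_isPrestack h𝒳.1 |>.2 R hR) α β (vert_of_map_eq _ hα) (vert_of_map_eq _ hβ)
      fun V f hf => ?_
    obtain ⟨z, ν, hν⟩ := hX.exists_lift f
    obtain ⟨c⟩ := hloc f hf z ν hν
    obtain ⟨θ, ⟨h1, h2⟩, -⟩ := fibGrpd_fac hX (ν ≫ β) (ν ≫ α) (𝟙 _) (by rw [𝒳.p.map_comp, 𝒳.p.map_comp, hα, hβ]; simp)
    have hθ : φ.map θ = 𝟙 _ := by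
      refine fibGrpd_ext hY (φ.map (ν ≫ β)) (by rw [based_map φ, h1]; simp) ?_
      rw [← φ.toFunctor.map_comp, h2, Category.id_comp, φ.toFunctor.map_comp, φ.toFunctor.map_comp, hαβ]
    refine ⟨z, ν, hν, ?_⟩
    rw [← h2, inj z c θ h1 hθ]
    simp
  obtain ⟨hfull, hfaith⟩ := fullyFaithful_of_vert φ (fun a b ψ _ => hY.isStronglyCartesian _) fun x x' e θ hθ => by
    obtain ⟨R₁, hR₁, hloc⟩ := locs x
    obtain ⟨R₂, hR₂, hxx⟩ := h𝒳.2.2 x x' (eqToHom e) ((vert_iff _ _).2 ⟨rfl, e, rfl⟩)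
    have hR : R₁ ⊓ R₂ ∈ J (𝒳.p.obj x) := J.intersection_covering hR₁ hR₂
    have P : ∀ z (ν : z ⟶ x), (R₁ ⊓ R₂).arrows (𝒳.p.map ν ≫ eqToHom rfl) →
        ∃ t : z ⟶ x', 𝒳.p.map t = 𝒳.p.map ν ≫ eqToHom e ∧ φ.map t = φ.map ν ≫ θ := by
      intro z ν hν
      rw [eqToHom_refl, Category.comp_id] at hν
      obtain ⟨c⟩ := hloc _ hν.1 z ν (IsHomLift.map 𝒳.p ν)
      obtain ⟨x₀, α, β, hα, hβ, -⟩ := hxx _ hν.2
      obtain ⟨eα, hαm⟩ := lift_spec _ hα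
      have hβm : 𝒳.p.map β = eqToHom eα ≫ 𝒳.p.map ν ≫ eqToHom e := by
        simpa using IsHomLift.fac' 𝒳.p (𝒳.p.map ν) β
      obtain ⟨κ, ⟨hκ1, -⟩, -⟩ := fibGrpd_fac hX α ν (eqToHom eα.symm) (by rw [hαm]; simp)
      obtain ⟨γ, ⟨hγ1, hγ2⟩, -⟩ := fibGrpd_fac hY (φ.map (κ ≫ β)) (φ.map ν ≫ θ) (𝟙 _) (by
        rw [𝒴.p.map_comp, based_map φ, based_map φ, 𝒳.p.map_comp, hκ1, hβm, hθ]; simp)
      have hγv : 𝒴.p.IsHomLift (𝟙 (𝒴.p.obj (φ.obj z))) γ := (vert_iff _ _).2 ⟨rfl, rfl, hγ1⟩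
      let γf : Gerb.fib (φ.obj z) ⟶ Gerb.fib (φ.obj z) := ⟨γ, hγv⟩
      have : IsIso γf := (fibGrpd_iff.1 hY).2 _ |>.all_isIso γf
      obtain ⟨A, hA⟩ := (hφ z c).2 (asIso γf)
      have hA' : φ.map A.hom.1 = γ := congrArg (fun α : Gerb.AutO (φ.obj z) => α.hom.1) hA
      have hA1 : 𝒳.p.map A.hom.1 = 𝟙 _ := by
        have := A.hom.2
        simpa using map_eq_of_vert 𝒳.p (R := 𝒳.p.obj z) A.hom.1
      refine ⟨A.hom.1 ≫ κ ≫ β, ?_, ?_⟩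
      · rw [𝒳.p.map_comp, 𝒳.p.map_comp, hA1, hκ1, hβm]; simp
      · rw [φ.toFunctor.map_comp, hA', hγ2]
    have uniqT : ∀ z (t t' : z ⟶ x'), 𝒳.p.map t = 𝒳.p.map t' → φ.map t = φ.map t' → t = t' := by
      intro z t t' h1 h2
      obtain ⟨w, a, ew, ha⟩ := fibGrpd_lift hX x' (𝒳.p.map t)
      obtain ⟨t₁, ⟨k1, k2⟩, -⟩ := fibGrpd_fac hX a t (eqToHom ew.symm) (by rw [ha]; simp)
      obtain ⟨t₂, ⟨l1, l2⟩, -⟩ := fibGrpd_fac hX a t' (eqToHom ew.symm) (by rw [ha, h1]; simp)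
      rw [← k2, ← l2, faith z w ew.symm t₁ t₂ k1 l1 (fibGrpd_ext hY (φ.map a) (by
        rw [based_map φ, based_map φ, k1, l1]) (by
        rw [← φ.toFunctor.map_comp, ← φ.toFunctor.map_comp, k2, l2, h2]))]
    choose t ht1 ht2 using P
    obtain ⟨χ, ⟨hχ, hχs⟩, hu⟩ := (isPrestackFor_iff_glue hX _).1 (isStack_isPrestack h𝒳.1 |>.2 _ hR) x x' rfl e.symm t
      (fun z ν h => ht1 z ν h)
      (fun z' z g ν h h' => uniqT _ _ _ (by rw [ht1, 𝒳.p.map_comp, 𝒳.p.map_comp, ht1, Category.assoc])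
        (by rw [ht2, φ.toFunctor.map_comp, φ.toFunctor.map_comp, ht2, Category.assoc]))
    refine ⟨χ, ⟨hχ, ?_⟩, fun χ' ⟨h1, h2⟩ => hu χ' ⟨h1, fun z ν h => uniqT _ _ _ (by rw [ht1, 𝒳.p.map_comp, h1])
      (by rw [ht2, φ.toFunctor.map_comp, h2])⟩⟩
    refine vert_ext_of_prestack hY (isStack_isPrestack h𝒴.1 |>.2 _ hR) (φ.map χ) θ
      (vert_change _ _ (vert_of_map_eq _ (show 𝒴.p.map (φ.map χ) = eqToHom ((φ.w_obj x).trans (e.trans (φ.w_obj x').symm))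
        by rw [based_map φ, hχ]; simp)) (φ.w_obj x))
      (vert_change _ _ (vert_of_map_eq _ hθ) (φ.w_obj x)) fun V f hf => ?_
    obtain ⟨z, ν, ez, hν⟩ := fibGrpd_lift hX x f
    have hR' : (R₁ ⊓ R₂).arrows (𝒳.p.map ν ≫ eqToHom rfl) := by
      simpa [hν] using (R₁ ⊓ R₂).downward_closed hf (eqToHom ez)
    refine ⟨φ.obj z, φ.map ν, lift_mk _ ((φ.w_obj z).trans ez) (φ.w_obj x) (by rw [based_map φ, hν]; simp), ?_⟩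
    rw [← φ.toFunctor.map_comp, hχs z ν hR', ht2]
  refine isEquivOver_of_locally_essSurj J h𝒳.1 (isStack_isPrestack h𝒴.1) φ fun y => ?_
  obtain ⟨g⟩ := term (𝒴.p.obj y)
  obtain ⟨w, a, ew, ha⟩ := fibGrpd_lift hX s (g ≫ eqToHom hs.symm)
  obtain ⟨R, hR, hy⟩ := h𝒴.2.2 y (φ.obj w) (eqToHom ((φ.w_obj w).trans ew).symm)
    ((vert_iff _ _).2 ⟨rfl, ((φ.w_obj w).trans ew).symm, rfl⟩)
  refine ⟨R, hR, fun V f hf => ?_⟩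
  obtain ⟨y₀, α, β, hα, hβ, -⟩ := hy f hf
  obtain ⟨eα, hαm⟩ := lift_spec _ hα
  obtain ⟨x, b, ex, hb⟩ := fibGrpd_lift hX w (f ≫ eqToHom ew.symm)
  have hβm := IsHomLift.fac' 𝒴.p f β
  obtain ⟨κ, ⟨hκ1, -⟩, -⟩ := fibGrpd_fac hY β (φ.map b) (eqToHom ((φ.w_obj x).trans (ex.trans eα.symm)))
    (by rw [hβm, based_map φ, hb]; simp)
  exact ⟨x, κ ≫ α, lift_mk _ ((φ.w_obj x).trans ex) rfl (by rw [𝒴.p.map_comp, hκ1, hαm]; simp)⟩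

end Groth.Agent.Stk19
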