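import Groth.Agent.Stk19.RelGlue
import Groth.Prelude.Def_StGerb2

/-! Gerbes over a site: composition, base change, descent, invariance. -/

set_option autoImplicit false
set_option backward.isDefEq.respectTransparency false
set_option backward.isDefEq.respectTransparency.types false

universe v₅ u₅ v₄ u₄ v₃ u₃ v₂ u₂ v u

open CategoryTheory FibCat Groth.Agent.Desc19

namespace Groth.Agent.Stk19

theorem lift_spec {C : Type u} [Category.{v} C] {𝒳 : Type u₂} [Category.{v₂} 𝒳] (p : 𝒳 ⥤ C) {a b : 𝒳} {φ : a ⟶ b}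
    {V : C} {f : V ⟶ p.obj b} (h : p.IsHomLift f φ) : ∃ e : p.obj a = V, p.map φ = eqToHom e ≫ f :=
  ⟨IsHomLift.domain_eq p f φ, by simpa using IsHomLift.fac' p f φ⟩

theorem lift_mk {C : Type u} [Category.{v} C] {𝒳 : Type u₂} [Category.{v₂} 𝒳] (p : 𝒳 ⥤ C) {a b : 𝒳} {φ : a ⟶ b}
    {V U : C} {f : V ⟶ U} (e : p.obj a = V) (e' : p.obj b = U) (h : p.map φ = eqToHom e ≫ f ≫ eqToHom e'.symm) :
    p.IsHomLift f φ :=
  IsHomLift.of_fac' p f φ e e' h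

variable {C : Type u} [Category.{v} C] {J : GrothendieckTopology C}
  {𝒳 : BasedCategory.{v₂, u₂} C} {𝒴 : BasedCategory.{v₃, u₃} C} {𝒵 : BasedCategory.{v₄, u₄} C}

theorem gerbeOver_comp (h𝒳 : IsFibGrpd 𝒳.p) (h𝒴 : IsFibGrpd 𝒴.p) {F : 𝒳 ⥤ᵇ 𝒴} {G : 𝒴 ⥤ᵇ 𝒵}
    (hF : Gerb.IsGerbeOver J F) (hG : Gerb.IsGerbeOver J G) : Gerb.IsGerbeOver J (BasedFunctor.comp F G) := by
  refine ⟨fun z => ?_, fun x x' b hb => ?_⟩
  · obtain ⟨R, hR, hz⟩ := hG.1 z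
    have key : ∀ ⦃V : C⦄ (f : V ⟶ 𝒵.p.obj z), R f → ∃ T ∈ J V, ∀ ⦃W : C⦄ (h : W ⟶ V), T h →
        ∃ (x : 𝒳.obj) (g : (BasedFunctor.comp F G).obj x ⟶ z), 𝒵.p.IsHomLift (h ≫ f) g := by
      intro V f hf
      obtain ⟨y, g, hg⟩ := hz f hf
      obtain ⟨eg, hgm⟩ := lift_spec _ hg
      obtain ⟨S, hS, hy⟩ := hF.1 y
      have ey : 𝒴.p.obj y = V := (G.w_obj y).symm.trans eg
      refine ⟨_, J.pullback_stable (eqToHom ey.symm) hS, fun W h hh => ?_⟩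
      obtain ⟨x, g', hg'⟩ := hy _ hh
      obtain ⟨eg', hgm'⟩ := lift_spec _ hg'
      refine ⟨x, G.map g' ≫ g, lift_mk _ ((G.w_obj _).trans eg') rfl ?_⟩
      show 𝒵.p.map (G.map g' ≫ g) = _
      rw [𝒵.p.map_comp, based_map G, hgm', hgm]
      simp
    choose T hT hx using key
    refine ⟨Sieve.bind R (fun V f hf => T f hf), J.bind_covering hR (fun V f hf => hT f hf), ?_⟩
    rintro V _ ⟨W, h, f, hf, hh, rfl⟩
    exact hx f hf h hh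
  · obtain ⟨R, hR, hy⟩ := hG.2 (F.obj x) (F.obj x') b (vert_change _ _ hb (by
      exact (G.w_obj _)))
    obtain ⟨-, hb2, hbm⟩ := (vert_iff _ _).1 hb
    have exx : 𝒳.p.obj x' = 𝒳.p.obj x :=
      ((F.w_obj x').symm.trans (G.w_obj _).symm).trans (hb2.symm.trans ((G.w_obj _).trans (F.w_obj x)))
    have key : ∀ ⦃V : C⦄ (f : V ⟶ 𝒳.p.obj x), R.pullback (eqToHom (F.w_obj x).symm) f → ∃ T ∈ J V,
        ∀ ⦃W : C⦄ (h : W ⟶ V), T h → ∃ (x₀ : 𝒳.obj) (φ : x₀ ⟶ x) (ψ : x₀ ⟶ x'),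
          𝒳.p.IsHomLift (h ≫ f) φ ∧ 𝒳.p.IsHomLift (h ≫ f) ψ ∧ G.map (F.map φ) ≫ b = G.map (F.map ψ) := by
      intro V f hf
      obtain ⟨y₀, φ, ψ, hφ, hψ, hφψ⟩ := hy _ hf
      have eφ : 𝒴.p.obj y₀ = V := IsHomLift.domain_eq 𝒴.p (f ≫ eqToHom (F.w_obj x).symm) φ
      have ex' : 𝒴.p.obj (F.obj x') = 𝒴.p.obj (F.obj x) := (F.w_obj x').trans (exx.trans (F.w_obj x).symm)
      have hφm : 𝒴.p.map φ = eqToHom eφ ≫ f ≫ eqToHom (F.w_obj x).symm := by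
        simpa using IsHomLift.fac' 𝒴.p (f ≫ eqToHom (F.w_obj x).symm) φ
      have hψm : 𝒴.p.map ψ = eqToHom eφ ≫ f ≫ eqToHom ((F.w_obj x').trans exx).symm := by
        simpa using IsHomLift.fac' 𝒴.p (f ≫ eqToHom (F.w_obj x).symm) ψ
      obtain ⟨w, a, ew, ha⟩ := fibGrpd_lift h𝒳 x f
      obtain ⟨w', a', ew', ha'⟩ := fibGrpd_lift h𝒳 x' (f ≫ eqToHom exx.symm)
      obtain ⟨κ, ⟨hκ1, hκ2⟩, -⟩ := fibGrpd_fac h𝒴 φ (F.map a) (eqToHom ((F.w_obj w).trans (ew.trans eφ.symm)))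
        (by rw [based_map F, ha, hφm]; simp)
      obtain ⟨b', ⟨hb1, hb'⟩, -⟩ := fibGrpd_fac h𝒴 (F.map a') (κ ≫ ψ)
        (eqToHom ((F.w_obj w).trans (ew.trans (ew'.symm.trans (F.w_obj w').symm))))
        (by rw [based_map F, ha', 𝒴.p.map_comp, hκ1, hψm]; simp)
      obtain ⟨S, hS, hw⟩ := hF.2 w w' b' ((vert_iff _ _).2 ⟨F.w_obj w, _, hb1⟩)
      refine ⟨_, J.pullback_stable (eqToHom ew.symm) hS, fun W h hh => ?_⟩
      obtain ⟨w₀, α, β, hα, hβ, hαβ⟩ := hw _ hh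
      refine ⟨w₀, α ≫ a, β ≫ a', ?_, ?_, ?_⟩
      · have eα : 𝒳.p.obj w₀ = W := IsHomLift.domain_eq 𝒳.p (h ≫ eqToHom ew.symm) α
        refine lift_mk _ eα rfl ?_
        rw [𝒳.p.map_comp, IsHomLift.fac' 𝒳.p (h ≫ eqToHom ew.symm) α, ha]
        simp
      · have eβ : 𝒳.p.obj w₀ = W := IsHomLift.domain_eq 𝒳.p (h ≫ eqToHom ew.symm) β
        refine lift_mk _ eβ exx ?_
        rw [𝒳.p.map_comp, IsHomLift.fac' 𝒳.p (h ≫ eqToHom ew.symm) β, ha']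
        simp
      · calc G.map (F.map (α ≫ a)) ≫ b = G.map (F.map α ≫ κ) ≫ G.map φ ≫ b := by
              rw [F.toFunctor.map_comp, ← hκ2, ← Category.assoc]
              erw [G.toFunctor.map_comp, Category.assoc]
          _ = G.map (F.map α ≫ κ) ≫ G.map ψ := by rw [hφψ]
          _ = G.map (F.map (β ≫ a')) := by
              rw [← G.toFunctor.map_comp, Category.assoc, ← hb', ← Category.assoc, hαβ, F.toFunctor.map_comp]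
    choose T hT hx using key
    refine ⟨Sieve.bind (R.pullback (eqToHom (F.w_obj x).symm)) (fun V f hf => T f hf),
      J.bind_covering (J.pullback_stable _ hR) (fun V f hf => hT f hf), ?_⟩
    rintro V _ ⟨W, h, f, hf, hh, rfl⟩
    exact hx f hf h hh

theorem gerbeOver_fpFst (h𝒳 : IsFibGrpd 𝒳.p) (h𝒵 : IsFibGrpd 𝒵.p) (h𝒴 : IsFibGrpd 𝒴.p) (G : 𝒵 ⥤ᵇ 𝒴) {F : 𝒳 ⥤ᵇ 𝒴}
    (hF : Gerb.IsGerbeOver J F) : Gerb.IsGerbeOver J (fpFst G F) := by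
  refine ⟨fun y' => ?_, fun o o' b hb => ?_⟩
  · obtain ⟨R, hR, hx⟩ := hF.1 (G.obj y')
    refine ⟨_, J.pullback_stable (eqToHom (G.w_obj y').symm) hR, fun V f hf => ?_⟩
    obtain ⟨x, g, hg⟩ := hx _ hf
    obtain ⟨z, ν, hν⟩ := h𝒵.exists_lift f
    obtain ⟨i, hi⟩ := local_lift_vert h𝒴 (F := F) (G := G) f hν g hg
    refine ⟨fpMk z x i.symm (vert_change _ _ (vert_inv _ i hi) (G.w_obj z)), ν, hν⟩
  · obtain ⟨-, ebb, hbm⟩ := (vert_iff _ _).1 hb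
    change 𝒵.p.map (X := o.obj.fst) (Y := o'.obj.fst) b = _ at hbm
    let c : F.obj o.obj.snd ⟶ F.obj o'.obj.snd := o.obj.iso.inv ≫ G.map (X := o.obj.fst) b ≫ o'.obj.iso.hom
    have hinv : 𝒴.p.map o.obj.iso.inv =
        eqToHom ((G.w_obj o.obj.fst).trans ((fp_base_eq o).symm.trans (F.w_obj o.obj.snd).symm)).symm :=
      (cancel_mono (𝒴.p.map o.obj.iso.hom)).1 (by rw [← 𝒴.p.map_comp, Iso.inv_hom_id, fp_iso_map]; simp)
    have hc : 𝒴.p.map c = eqToHom (by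
        rw [F.w_obj, F.w_obj, fp_base_eq, fp_base_eq]; exact ebb) := by
      simp only [c, 𝒴.p.map_comp, based_map G, hinv, fp_iso_map, hbm]
      simp
    obtain ⟨R, hR, hx⟩ := hF.2 o.obj.snd o'.obj.snd c ((vert_iff _ _).2 ⟨F.w_obj _, _, hc⟩)
    refine ⟨_, J.pullback_stable (eqToHom (fp_base_eq o).symm) hR, fun V f hf => ?_⟩
    obtain ⟨x₀, φ, ψ, hφ, hψ, hφψ⟩ := hx _ hf
    have eφ : 𝒳.p.obj x₀ = V := IsHomLift.domain_eq 𝒳.p (f ≫ eqToHom (fp_base_eq o).symm) φ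
    have hφm := IsHomLift.fac' 𝒳.p (f ≫ eqToHom (fp_base_eq o).symm) φ
    obtain ⟨z, ν, ez, hν⟩ := fibGrpd_lift h𝒵 o.obj.fst f
    obtain ⟨θ, ⟨hθ1, hθ2⟩, -⟩ := fibGrpd_fac h𝒴 (F.map φ) (G.map ν ≫ o.obj.iso.hom)
      (eqToHom ((G.w_obj z).trans (ez.trans (eφ.symm.trans (F.w_obj x₀).symm))))
      (by rw [𝒴.p.map_comp, based_map G, hν, fp_iso_map, based_map F, hφm]; simp)
    have : IsIso θ :=
      have : IsIso (𝒴.p.map θ) := by rw [hθ1]; infer_instance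
      fibGrpd_isIso h𝒴 θ
    let o₀ : (fp G F).obj := fpMk z x₀ (asIso θ) ((vert_iff _ _).2 ⟨G.w_obj z, _, hθ1⟩)
    let a₁ : o₀ ⟶ o := fpHom ν φ (by show G.map ν ≫ o.obj.iso.hom = θ ≫ F.map φ; rw [hθ2])
    let a₂ : o₀ ⟶ o' := fpHom (ν ≫ b) ψ (by
      show G.map (ν ≫ b) ≫ o'.obj.iso.hom = θ ≫ F.map ψ
      rw [← hφψ, reassoc_of% hθ2]
      simp [c, fpFst])
    refine ⟨o₀, a₁, a₂, lift_mk _ ez rfl (by simpa [fpMk, a₁] using hν), lift_mk _ ez (ebb.symm) ?_, rfl⟩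
    show 𝒵.p.map (ν ≫ b) = _
    erw [𝒵.p.map_comp, hν, hbm]
    simp

theorem gerbeOver_of_equiv_comp {𝒲 : BasedCategory.{v₅, u₅} C}
    (E : 𝒲 ⥤ᵇ 𝒳) (hE : IsEquivOver E) (F : 𝒳 ⥤ᵇ 𝒴)
    (h : Gerb.IsGerbeOver J (BasedFunctor.comp E F)) : Gerb.IsGerbeOver J F := by
  obtain ⟨-, -, hs⟩ := EqvData.of_isEquivOver hE
  refine ⟨fun y => ?_, fun o o' b hb => ?_⟩
  · obtain ⟨R, hR, hx⟩ := h.1 y
    exact ⟨R, hR, fun V f hf => let ⟨ξ, g, hg⟩ := hx f hf; ⟨E.obj ξ, g, hg⟩⟩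
  · obtain ⟨ξ, e, he⟩ := hs o
    obtain ⟨ξ', e', he'⟩ := hs o'
    obtain ⟨-, ebb, hbm⟩ := (vert_iff _ _).1 hb
    have hem : 𝒳.p.map e.hom = eqToHom (eq_of_vert _ _ he) := map_eq_of_vert _ (R := 𝒳.p.obj o) e.hom
    have hem' : 𝒳.p.map e'.inv = eqToHom (eq_of_vert _ _ he').symm :=
      have := vert_inv _ e' he'
      map_eq_of_vert _ (R := 𝒳.p.obj o') e'.inv
    have e1 : 𝒲.p.obj ξ = 𝒳.p.obj o := (E.w_obj ξ).symm.trans (eq_of_vert _ _ he)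
    have ebe : 𝒳.p.obj o' = 𝒳.p.obj o := (F.w_obj o').symm.trans (ebb.symm.trans (F.w_obj o))
    let b' : F.obj (E.obj ξ) ⟶ F.obj (E.obj ξ') := F.map e.hom ≫ b ≫ F.map e'.inv
    have hb' : 𝒴.p.map b' = eqToHom ((F.w_obj _).trans ((eq_of_vert _ _ he).trans
        (ebe.symm.trans ((eq_of_vert _ _ he').symm.trans (F.w_obj _).symm)))) := by
      simp only [b', 𝒴.p.map_comp, based_map F, hem, hem', hbm]
      simp
    obtain ⟨R, hR, hx⟩ := h.2 ξ ξ' b' ((vert_iff _ _).2 ⟨(F.w_obj _).trans (E.w_obj ξ), _, hb'⟩)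
    refine ⟨_, J.pullback_stable (eqToHom e1.symm) hR, fun V f hf => ?_⟩
    obtain ⟨w, φ, ψ, hφ, hψ, hφψ⟩ := hx _ hf
    have ew : 𝒲.p.obj w = V := IsHomLift.domain_eq 𝒲.p (f ≫ eqToHom e1.symm) φ
    have hφm := IsHomLift.fac' 𝒲.p (f ≫ eqToHom e1.symm) φ
    have hψm := IsHomLift.fac' 𝒲.p (f ≫ eqToHom e1.symm) ψ
    refine ⟨E.obj w, E.map φ ≫ e.hom, E.map ψ ≫ e'.hom, ?_, ?_, ?_⟩
    · refine lift_mk _ ((E.w_obj w).trans ew) rfl ?_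
      rw [𝒳.p.map_comp, based_map E, hφm, hem]
      simp
    · refine lift_mk _ ((E.w_obj w).trans ew) ebe ?_
      rw [𝒳.p.map_comp, based_map E, hψm, map_eq_of_vert _ (R := 𝒳.p.obj o') e'.hom]
      simp
    · have h1 : F.map (E.map φ) ≫ b' = F.map (E.map ψ) := hφψ
      rw [F.toFunctor.map_comp, F.toFunctor.map_comp, ← h1]
      simp only [b', Category.assoc, ← F.toFunctor.map_comp, Iso.inv_hom_id]
      simp

theorem gerbeOver_of_fpFst (h𝒳 : IsFibGrpd 𝒳.p) (h𝒵 : IsFibGrpd 𝒵.p) (h𝒴 : IsFibGrpd 𝒴.p) {G : 𝒵 ⥤ᵇ 𝒴} {F : 𝒳 ⥤ᵇ 𝒴}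
    (hG : Gerb.LocSurjObj J G) (hF : Gerb.IsGerbeOver J (fpFst G F)) : Gerb.IsGerbeOver J F := by
  refine ⟨fun y => ?_, fun x x' b hb => ?_⟩
  · obtain ⟨R, hR, hy⟩ := hG y
    have key : ∀ ⦃V : C⦄ (f : V ⟶ 𝒴.p.obj y), R f → ∃ T ∈ J V, ∀ ⦃W : C⦄ (h : W ⟶ V), T h →
        ∃ (x : 𝒳.obj) (g : F.obj x ⟶ y), 𝒴.p.IsHomLift (h ≫ f) g := by
      intro V f hf
      obtain ⟨y', g, hg⟩ := hy f hf
      obtain ⟨eg, hgm⟩ := lift_spec _ hg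
      obtain ⟨S, hS, hz⟩ := hF.1 y'
      refine ⟨_, J.pullback_stable (eqToHom ((G.w_obj y').symm.trans eg).symm) hS, fun W h hh => ?_⟩
      obtain ⟨o, g', hg'⟩ := hz _ hh
      change o.obj.fst ⟶ y' at g'
      have eo : 𝒵.p.obj o.obj.fst = W := IsHomLift.domain_eq 𝒵.p (h ≫ eqToHom ((G.w_obj y').symm.trans eg).symm) g'
      have hgm' := IsHomLift.fac' 𝒵.p (h ≫ eqToHom ((G.w_obj y').symm.trans eg).symm) g'
      have hinv : 𝒴.p.map o.obj.iso.inv =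
          eqToHom ((G.w_obj o.obj.fst).trans ((fp_base_eq o).symm.trans (F.w_obj o.obj.snd).symm)).symm :=
        (cancel_mono (𝒴.p.map o.obj.iso.hom)).1 (by rw [← 𝒴.p.map_comp, Iso.inv_hom_id, fp_iso_map]; simp)
      refine ⟨o.obj.snd, o.obj.iso.inv ≫ G.map g' ≫ g,
        lift_mk _ ((F.w_obj _).trans ((fp_base_eq o).trans eo)) rfl ?_⟩
      rw [𝒴.p.map_comp, 𝒴.p.map_comp, hinv, based_map G, hgm', hgm]
      simp
    choose T hT hx using key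
    refine ⟨Sieve.bind R (fun V f hf => T f hf), J.bind_covering hR (fun V f hf => hT f hf), ?_⟩
    rintro V _ ⟨W, h, f, hf, hh, rfl⟩
    exact hx f hf h hh
  · obtain ⟨-, ebb, hbm⟩ := (vert_iff _ _).1 hb
    have exx : 𝒳.p.obj x' = 𝒳.p.obj x := (F.w_obj x').symm.trans (ebb.symm.trans (F.w_obj x))
    obtain ⟨R, hR, hy⟩ := hG (F.obj x)
    have key : ∀ ⦃V : C⦄ (f : V ⟶ 𝒳.p.obj x), R.pullback (eqToHom (F.w_obj x).symm) f → ∃ T ∈ J V,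
        ∀ ⦃W : C⦄ (h : W ⟶ V), T h → ∃ (x₀ : 𝒳.obj) (φ : x₀ ⟶ x) (ψ : x₀ ⟶ x'),
          𝒳.p.IsHomLift (h ≫ f) φ ∧ 𝒳.p.IsHomLift (h ≫ f) ψ ∧ F.map φ ≫ b = F.map ψ := by
      intro V f hf
      obtain ⟨y', g, hg⟩ := hy _ hf
      obtain ⟨eg, hgm⟩ := lift_spec _ hg
      have ey : 𝒵.p.obj y' = V := (G.w_obj y').symm.trans eg
      obtain ⟨w, a, ew, ha⟩ := fibGrpd_lift h𝒳 x f
      obtain ⟨w', a', ew', ha'⟩ := fibGrpd_lift h𝒳 x' (f ≫ eqToHom exx.symm)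
      obtain ⟨κ, ⟨hκ1, hκ2⟩, -⟩ := fibGrpd_fac h𝒴 (F.map a) g
        (eqToHom (eg.trans (ew.symm.trans (F.w_obj w).symm))) (by rw [based_map F, ha, hgm]; simp)
      obtain ⟨b', ⟨hb1, hb'⟩, -⟩ := fibGrpd_fac h𝒴 (F.map a') (F.map a ≫ b)
        (eqToHom ((F.w_obj w).trans (ew.trans (ew'.symm.trans (F.w_obj w').symm))))
        (by rw [based_map F, ha', 𝒴.p.map_comp, based_map F, ha, hbm]; simp)
      have : IsIso κ :=
        have : IsIso (𝒴.p.map κ) := by rw [hκ1]; infer_instance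
        fibGrpd_isIso h𝒴 κ
      have : IsIso b' :=
        have : IsIso (𝒴.p.map b') := by rw [hb1]; infer_instance
        fibGrpd_isIso h𝒴 b'
      let o : (fp G F).obj := fpMk y' w (asIso κ) ((vert_iff _ _).2 ⟨G.w_obj y', _, hκ1⟩)
      let o' : (fp G F).obj := fpMk y' w' (asIso κ ≪≫ asIso b') ((vert_iff _ _).2 ⟨G.w_obj y',
        (eg.trans (ew'.symm.trans (F.w_obj w').symm)), by simp [hκ1, hb1]⟩)
      obtain ⟨S, hS, hz⟩ := hF.2 o o' (𝟙 y') ((vert_iff _ _).2 ⟨rfl, rfl, 𝒵.p.map_id _⟩)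
      refine ⟨_, J.pullback_stable (eqToHom ey.symm) hS, fun W h hh => ?_⟩
      obtain ⟨o₀, φ, ψ, hφ, hψ, hφψ⟩ := hz _ hh
      have e1 : φ.hom.fst = ψ.hom.fst := (Category.comp_id _).symm.trans hφψ
      have eW : 𝒵.p.obj o₀.obj.fst = W := IsHomLift.domain_eq (fp G F).p (h ≫ eqToHom ey.symm) φ
      have h2 : 𝒵.p.map φ.hom.fst = _ := IsHomLift.fac' (fp G F).p (h ≫ eqToHom ey.symm) φ
      refine ⟨o₀.obj.snd, φ.hom.snd ≫ a, ψ.hom.snd ≫ a', ?_, ?_, ?_⟩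
      · refine lift_mk _ ((fp_base_eq o₀).trans eW) rfl ?_
        rw [𝒳.p.map_comp, fp_map_snd, h2, ha]
        simp [o, fpMk]
      · refine lift_mk _ ((fp_base_eq o₀).trans eW) exx ?_
        rw [𝒳.p.map_comp, fp_map_snd, ← e1, h2, ha']
        simp [o', fpMk]
      · have hw1 : G.map φ.hom.fst ≫ κ = o₀.obj.iso.hom ≫ F.map φ.hom.snd := φ.hom.w
        have hw2 : G.map ψ.hom.fst ≫ κ ≫ b' = o₀.obj.iso.hom ≫ F.map ψ.hom.snd := ψ.hom.w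
        rw [← e1, reassoc_of% hw1] at hw2
        rw [F.toFunctor.map_comp, F.toFunctor.map_comp, ← (cancel_epi _).1 hw2, Category.assoc, Category.assoc, hb']
    choose T hT hx using key
    refine ⟨Sieve.bind (R.pullback (eqToHom (F.w_obj x).symm)) (fun V f hf => T f hf),
      J.bind_covering (J.pullback_stable _ hR) (fun V f hf => hT f hf), ?_⟩
    rintro V _ ⟨W, h, f, hf, hh, rfl⟩
    exact hx f hf h hh

theorem gerbeOver_of_isEquivOver (h𝒴 : IsFibGrpd 𝒴.p) {F : 𝒳 ⥤ᵇ 𝒴} (hF : IsEquivOver F) (h𝒳 : IsFibGrpd 𝒳.p) :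
    Gerb.IsGerbeOver J F := by
  obtain ⟨_, _, -⟩ := EqvData.of_isEquivOver hF
  refine ⟨fun y => locally_essSurj_of_isEquivOver J hF h𝒴 y, fun x x' b hb => ⟨⊤, J.top_mem _, fun V f _ => ?_⟩⟩
  obtain ⟨w, a, ha⟩ := h𝒳.exists_lift f
  obtain ⟨-, ebb, hbm⟩ := (vert_iff _ _).1 hb
  have exx : 𝒳.p.obj x' = 𝒳.p.obj x := (F.w_obj x').symm.trans (ebb.symm.trans (F.w_obj x))
  obtain ⟨e, ham⟩ := lift_spec _ ha
  refine ⟨w, a, a ≫ F.toFunctor.preimage b, ha, lift_mk _ e exx ?_, by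
    rw [F.toFunctor.map_comp, F.toFunctor.map_preimage]⟩
  rw [𝒳.p.map_comp, ham, based_map_back F (F.toFunctor.preimage b), F.toFunctor.map_preimage, hbm]
  simp

end Groth.Agent.Stk19
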