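import Groth.Agent.Stk19.Diag
import Groth.Agent.Stk19.FibSet
import Mathlib.CategoryTheory.Limits.Shapes.Pullback.HasPullback
import Mathlib.CategoryTheory.Limits.Shapes.BinaryProducts

/-! Slices as categories over the base. -/

set_option autoImplicit false
set_option backward.isDefEq.respectTransparency false
set_option backward.isDefEq.respectTransparency.types false

universe v₉ u₉ v₈ u₈ v₇ u₇ v₆ u₆ v₅ u₅ v₄ u₄ v₃ u₃ v₂ u₂ v u

open CategoryTheory CategoryTheory.Limits FibCat

namespace Groth.Agent.Stk19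

variable {C : Type u} [Category.{v} C]

/-- The functor of slices over the base given by composition. -/
abbrev overMapB {A B : C} (h : A ⟶ B) : overCat A ⥤ᵇ overCat B := ⟨Over.map h, Over.mapForget_eq h⟩

theorem isFibSet_overForget (U : C) : IsFibSet (Over.forget U) := by
  refine fibSet_iff.2 fun η V f => ?_
  let φ₀ : Over.mk (f ≫ η.hom) ⟶ η := Over.homMk f
  refine ⟨⟨_, φ₀⟩, IsHomLift.map (Over.forget U) φ₀, ?_⟩
  rintro ⟨ξ, ψ⟩ hψ
  have hψ' : (Over.forget U).IsHomLift f ψ := hψ
  have e := IsHomLift.domain_eq (Over.forget U) f ψ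
  have hm := IsHomLift.fac' (Over.forget U) f ψ
  simp at e hm
  subst e
  simp at hm
  subst hm
  have key : ∀ (k : ξ.left ⟶ U) (hk : ψ.left ≫ η.hom = k),
      (⟨Over.mk k, Over.homMk ψ.left hk⟩ : Σ x : Over U, (x ⟶ η)) = ⟨_, φ₀⟩ := by
    rintro _ rfl; rfl
  exact key ξ.hom (Over.w ψ)

theorem isFibGrpd_overCat (U : C) : IsFibGrpd (overCat U).p := (isFibSet_overForget U).1

@[simp] theorem overCat_p_map {U : C} {a b : (overCat U).obj} (φ : a ⟶ b) : (overCat U).p.map φ = φ.left := rfl

@[simp] theorem overCat_p_obj {U : C} (a : (overCat U).obj) : (overCat U).p.obj a = a.left := rfl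

theorem overCat_map_eq {U : C} {a b : (overCat U).obj} (φ ψ : a ⟶ b) (h : (overCat U).p.map φ = (overCat U).p.map ψ) :
    φ = ψ :=
  Over.OverMorphism.ext h

/-- A 2-isomorphism into a slice is determined by equality of structure maps. -/
def isoToSlice {𝒲 : BasedCategory.{v₂, u₂} C} {B : C} (P Q : 𝒲 ⥤ᵇ overCat B)
    (h : ∀ a, eqToHom (P.w_obj a).symm ≫ (P.obj a).hom = eqToHom (Q.w_obj a).symm ≫ (Q.obj a).hom) :
    P ≅ Q :=
  isoMk (fun a => Over.isoMk (eqToIso ((P.w_obj a).trans (Q.w_obj a).symm)) (by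
      have := congrArg (eqToHom (P.w_obj a) ≫ ·) (h a)
      simp at this
      simp [this]))
    (fun a => (vert_iff _ _).2 ⟨rfl, (P.w_obj a).trans (Q.w_obj a).symm, rfl⟩)
    (fun {a b} φ => overCat_map_eq _ _ (by
      rw [(overCat B).p.map_comp, (overCat B).p.map_comp, based_map P φ, based_map Q φ]
      simp))

/-- The morphism of the base under a functor of slices. -/
def underHom {A B : C} (F : overCat A ⥤ᵇ overCat B) : A ⟶ B :=
  eqToHom (F.w_obj (Over.mk (𝟙 A))).symm ≫ (F.obj (Over.mk (𝟙 A))).hom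

theorem underHom_spec {A B : C} (F : overCat A ⥤ᵇ overCat B) (a : (overCat A).obj) :
    eqToHom (F.w_obj a).symm ≫ (F.obj a).hom = a.hom ≫ underHom F := by
  let t : a ⟶ Over.mk (𝟙 A) := Over.homMk a.hom
  have h1 := Over.w (F.map t)
  have h2 : (F.map t).left = eqToHom (F.w_obj a) ≫ a.hom ≫ eqToHom (F.w_obj (Over.mk (𝟙 A))).symm :=
    based_map F t
  rw [← h1, h2]
  simp [underHom]

/-- A functor of slices over the base is composition with a morphism. -/
def isoOverMap {A B : C} (F : overCat A ⥤ᵇ overCat B) : F ≅ overMapB (underHom F) :=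
  isoToSlice F _ (fun a => by
    rw [underHom_spec]
    exact (Category.id_comp _).symm)

theorem slice_iso_hom_w {A B : C} {f : A ⟶ B} {A' : C} {g : A' ⟶ B}
    (t : (fp (overMapB f) (overMapB g)).obj) :
    eqToHom (fp_base_eq t).symm ≫ t.obj.snd.hom ≫ g = t.obj.fst.hom ≫ f := by
  have h := Over.w t.obj.iso.hom
  have h2 : (t.obj.iso.hom).left = eqToHom (fp_base_eq t).symm := fp_iso_map t
  rw [h2] at h
  exact h

variable [HasPullbacks C]

/-- `C/(A ×_B A') ⟶ (C/A) ×_{C/B} (C/A')`. -/
noncomputable def slicePullback {A A' B : C} (f : A ⟶ B) (g : A' ⟶ B) :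
    overCat (pullback f g) ⥤ᵇ fp (overMapB f) (overMapB g) :=
  fpLift (overMapB (pullback.fst f g)) (overMapB (pullback.snd f g))
    (isoToSlice _ _ (fun a => by
      show 𝟙 _ ≫ ((a.hom ≫ pullback.fst f g) ≫ f) = 𝟙 _ ≫ ((a.hom ≫ pullback.snd f g) ≫ g)
      simp [pullback.condition]))

theorem isEquivOver_slicePullback {A A' B : C} (f : A ⟶ B) (g : A' ⟶ B) :
    IsEquivOver (slicePullback f g) := by
  refine EqvData.isEquivOver ⟨⟨fun {s t} k => ?_⟩, ⟨fun {s t} k k' h => ?_⟩, fun z => ?_⟩
  · have h2 : k.hom.snd.left = k.hom.fst.left := by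
      have := fp_map_snd k
      exact this.trans (by simp)
    refine ⟨Over.homMk k.hom.fst.left ?_, fp_hom_ext (Over.OverMorphism.ext rfl) (Over.OverMorphism.ext h2.symm)⟩
    apply pullback.hom_ext
    · rw [Category.assoc]; exact Over.w k.hom.fst
    · rw [Category.assoc, ← h2]; exact Over.w k.hom.snd
  · exact Over.OverMorphism.ext (congrArg (fun m => m.hom.fst.left) h :)
  · refine ⟨Over.mk (pullback.lift z.obj.fst.hom (eqToHom (fp_base_eq z).symm ≫ z.obj.snd.hom)
      (by rw [Category.assoc, slice_iso_hom_w])), fpIsoMk (Over.isoMk (Iso.refl _) (by simp [slicePullback, fpLift]))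
      (Over.isoMk (eqToIso (fp_base_eq z).symm) (by simp [slicePullback, fpLift])) ?_, ?_⟩
    · apply overCat_map_eq
      refine ((overCat B).p.map_comp _ _).trans (Eq.trans ?_ ((overCat B).p.map_comp _ _).symm)
      rw [fp_iso_map z, fp_iso_map]
      simp
    · exact fpIsoMk_vert _ _ _ ((vert_iff _ _).2 ⟨rfl, rfl, rfl⟩)

/-- Fibre products of representable categories over a representable base are representable. -/
theorem isRepresentable_fp {𝒜 : BasedCategory.{v₂, u₂} C} {ℬ : BasedCategory.{v₃, u₃} C}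
    {𝒮 : BasedCategory.{v₄, u₄} C} (F : 𝒜 ⥤ᵇ 𝒮) (G : ℬ ⥤ᵇ 𝒮) (hA : FibCat.IsRepresentable 𝒜)
    (hB : FibCat.IsRepresentable ℬ) (hS : FibCat.IsRepresentable 𝒮) : FibCat.IsRepresentable (fp F G) := by
  obtain ⟨A, a, ha⟩ := hA
  obtain ⟨B, b, hb⟩ := hB
  obtain ⟨S, c, hc⟩ := hS
  obtain ⟨a', -, ⟨ua⟩, -⟩ := exists_inverse ha
  obtain ⟨b', -, ⟨ub⟩, -⟩ := exists_inverse hb
  obtain ⟨h1, h2, -⟩ := EqvData.of_isEquivOver hc
  let P := BasedFunctor.comp (BasedFunctor.comp a' F) c
  let Q := BasedFunctor.comp (BasedFunctor.comp b' G) c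
  let F' := overMapB (underHom P)
  let G' := overMapB (underHom Q)
  let e₁ : BasedFunctor.comp F c ≅ BasedFunctor.comp a F' :=
    isoMk (fun x => (c.toFunctor.mapIso (F.toFunctor.mapIso (appIso ua x))).symm ≪≫ appIso (isoOverMap P) (a.obj x))
      (fun x => (vert_iff _ _).2 ⟨rfl, by rw [BasedFunctor.w_obj, BasedFunctor.w_obj], by
        show (overCat S).p.map (c.map (F.map (ua.inv.toNatTrans.app x)) ≫ (isoOverMap P).hom.toNatTrans.app (a.obj x)) = _
        rw [(overCat S).p.map_comp, based_app_map, based_map c, based_map F, based_app_map]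
        simp [eqToHom_map]⟩)
      (fun φ => overCat_map_eq _ _ (by
        simp only [Functor.map_comp, Iso.trans_hom, Iso.symm_hom, Functor.mapIso_inv, appIso_inv, appIso_hom,
          based_app_map]
        rw [based_map (BasedFunctor.comp F c), based_map (BasedFunctor.comp a F'), based_map c, based_map c,
          based_map F, based_map F, based_app_map, based_app_map]
        simp [eqToHom_map]))
  let e₂ : BasedFunctor.comp G c ≅ BasedFunctor.comp b G' :=
    isoMk (fun x => (c.toFunctor.mapIso (G.toFunctor.mapIso (appIso ub x))).symm ≪≫ appIso (isoOverMap Q) (b.obj x))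
      (fun x => (vert_iff _ _).2 ⟨rfl, by rw [BasedFunctor.w_obj, BasedFunctor.w_obj], by
        show (overCat S).p.map (c.map (G.map (ub.inv.toNatTrans.app x)) ≫ (isoOverMap Q).hom.toNatTrans.app (b.obj x)) = _
        rw [(overCat S).p.map_comp, based_app_map, based_map c, based_map G, based_app_map]
        simp [eqToHom_map]⟩)
      (fun φ => overCat_map_eq _ _ (by
        simp only [Functor.map_comp, Iso.trans_hom, Iso.symm_hom, Functor.mapIso_inv, appIso_inv, appIso_hom,
          based_app_map]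
        rw [based_map (BasedFunctor.comp G c), based_map (BasedFunctor.comp b G'), based_map c, based_map c,
          based_map G, based_map G, based_app_map, based_app_map]
        simp [eqToHom_map]))
  exact isRepresentable_of_equiv (isEquivOver_fpMap (F' := F') (G' := G') a b c e₁ e₂ ha hb)
    (isRepresentable_of_equiv' (isEquivOver_slicePullback (underHom P) (underHom Q)) (isRepresentable_overCat _))

end Groth.Agent.Stk19
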