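import Groth.Agent.Stk19.Stack
import Groth.Agent.Stk19.Slice
import Mathlib.CategoryTheory.Sites.SheafOfTypes

/-! The category over the base of a presheaf is a stack exactly when the presheaf is a sheaf. -/

set_option autoImplicit false
set_option backward.isDefEq.respectTransparency false
set_option backward.isDefEq.respectTransparency.types false

universe w v₂ u₂ v u

open CategoryTheory Opposite FibCat Groth.Agent.Desc19

namespace Groth.Agent.Stk19

variable {C : Type u} [Category.{v} C] {P : Cᵒᵖ ⥤ Type w} {𝒲 : BasedCategory.{v₂, u₂} C}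

/-- The sections attached to a functor over the base into the category of a presheaf. -/
def secOf (G : 𝒲 ⥤ᵇ Stk.ofPsh P) (a : 𝒲.obj) : P.obj (op (𝒲.p.obj a)) :=
  P.map (eqToHom (G.w_obj a).symm).op (G.obj a).sec

theorem secOf_compat (G : 𝒲 ⥤ᵇ Stk.ofPsh P) {a b : 𝒲.obj} (φ : a ⟶ b) :
    P.map (𝒲.p.map φ).op (secOf G b) = secOf G a := by
  have h : (G.map φ).hom = eqToHom (G.w_obj a) ≫ 𝒲.p.map φ ≫ eqToHom (G.w_obj b).symm := based_map G φ
  unfold secOf
  rw [← (G.map φ).map_sec, h]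
  simp only [← Functor.map_comp_apply, ← op_comp]
  simp

/-- A functor over the base into the category of a presheaf, from compatible sections. -/
def mkPshFunctor (s : ∀ a : 𝒲.obj, P.obj (op (𝒲.p.obj a)))
    (hs : ∀ {a b : 𝒲.obj} (φ : a ⟶ b), P.map (𝒲.p.map φ).op (s b) = s a) : 𝒲 ⥤ᵇ Stk.ofPsh P where
  toFunctor :=
    { obj := fun a => ⟨𝒲.p.obj a, s a⟩
      map := fun φ => ⟨𝒲.p.map φ, hs φ⟩
      map_id := fun a => Stk.EltObj.hom_ext (𝒲.p.map_id a)
      map_comp := fun φ ψ => Stk.EltObj.hom_ext (𝒲.p.map_comp φ ψ) }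
  w := rfl

theorem secOf_mk (s : ∀ a : 𝒲.obj, P.obj (op (𝒲.p.obj a)))
    (hs : ∀ {a b : 𝒲.obj} (φ : a ⟶ b), P.map (𝒲.p.map φ).op (s b) = s a) (a : 𝒲.obj) :
    secOf (mkPshFunctor s hs) a = s a := by
  show P.map (𝟙 (𝒲.p.obj a)).op (s a) = s a
  rw [op_id, Functor.map_id_apply]

theorem secOf_eq_of_hom {G H : 𝒲 ⥤ᵇ Stk.ofPsh P} (α : G ⟶ H) (a : 𝒲.obj) : secOf G a = secOf H a := by
  have h : (α.toNatTrans.app a).hom = eqToHom ((G.w_obj a).trans (H.w_obj a).symm) := based_app_map α a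
  unfold secOf
  rw [← (α.toNatTrans.app a).map_sec, h]
  simp only [← Functor.map_comp_apply, ← op_comp]
  simp

theorem psh_hom_unique {G H : 𝒲 ⥤ᵇ Stk.ofPsh P} (α β : G ⟶ H) : α = β :=
  based_hom_ext fun a => Stk.EltObj.hom_ext ((based_app_map α a).trans (based_app_map β a).symm)

/-- The 2-morphism between functors with equal sections. -/
def homOfSecEq {G H : 𝒲 ⥤ᵇ Stk.ofPsh P} (h : ∀ a, secOf G a = secOf H a) : G ⟶ H where
  toNatTrans :=
    { app := fun a => ⟨eqToHom ((G.w_obj a).trans (H.w_obj a).symm), by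
        have e : P.map (eqToHom (G.w_obj a)).op (secOf G a) = P.map (eqToHom (G.w_obj a)).op (secOf H a) := by rw [h]
        unfold secOf at e
        simp only [← Functor.map_comp_apply, ← op_comp] at e
        simpa using e.symm⟩
      naturality := fun a b φ => Stk.EltObj.hom_ext (by
        show (G.map φ).hom ≫ eqToHom ((G.w_obj b).trans (H.w_obj b).symm) = eqToHom ((G.w_obj a).trans (H.w_obj a).symm) ≫ (H.map φ).hom
        rw [show (G.map φ).hom = _ from based_map G φ, show (H.map φ).hom = _ from based_map H φ]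
        simp) }
  isHomLift' a := (vert_iff _ _).2 ⟨G.w_obj a, (G.w_obj a).trans (H.w_obj a).symm, rfl⟩

/-- The functor on a slice attached to a section. -/
def pshOfElt {U : C} (t : P.obj (op U)) : overCat U ⥤ᵇ Stk.ofPsh P :=
  mkPshFunctor (fun a => P.map a.hom.op t) (fun {a b} φ => by
    show P.map φ.left.op (P.map b.hom.op t) = P.map a.hom.op t
    rw [← Functor.map_comp_apply, ← op_comp, Over.w φ])

theorem secOf_pshOfElt {U : C} (t : P.obj (op U)) (a : (overCat U).obj) : secOf (pshOfElt t) a = P.map a.hom.op t :=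
  by
    show P.map (𝟙 a.left).op (P.map a.hom.op t) = P.map a.hom.op t
    rw [op_id, Functor.map_id_apply]

variable (P) in
theorem isPrestackFor_ofPsh {U : C} (R : Sieve U) (h : Presieve.IsSeparatedFor P R.arrows) :
    Stk.IsPrestackFor R (Stk.ofPsh P) := by
  refine ⟨⟨fun {G H} k => ?_⟩, ⟨fun _ => psh_hom_unique _ _⟩⟩
  have e : ∀ a : (overCat U).obj, secOf G a = secOf H a := by
    have eid : secOf G (Over.mk (𝟙 U)) = secOf H (Over.mk (𝟙 U)) := by
      refine h.ext fun V f hf => ?_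
      let a : (Stk.sieveCat R).obj := ⟨Over.mk f, hf⟩
      let φ : ((Stk.sieveIncl R).obj a : (overCat U).obj) ⟶ Over.mk (𝟙 U) := Over.homMk f (Category.comp_id f)
      have eG := secOf_compat G φ
      have eH := secOf_compat H φ
      exact eG.trans ((secOf_eq_of_hom k a).trans eH.symm)
    intro a
    rw [← secOf_compat G (Over.homMk a.hom : a ⟶ Over.mk (𝟙 U)), ← secOf_compat H (Over.homMk a.hom : a ⟶ Over.mk (𝟙 U)), eid]
  exact ⟨homOfSecEq e, psh_hom_unique _ _⟩

theorem isStackFor_ofPsh_iff {U : C} (R : Sieve U) :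
    Stk.IsStackFor R (Stk.ofPsh P) ↔ Presieve.IsSheafFor P R.arrows := by
  constructor
  · intro hst
    have : (Stk.resSieve R (Stk.ofPsh P)).IsEquivalence := hst
    intro x hx
    let G : Stk.sieveCat R ⥤ᵇ Stk.ofPsh P := mkPshFunctor (fun a => x a.obj.hom a.property) (fun {a b} φ => by
      have hw : φ.hom.left ≫ b.obj.hom = a.obj.hom := Over.w φ.hom
      have := hx (g₁ := φ.hom.left) (g₂ := 𝟙 _) b.property a.property (by rw [hw, Category.id_comp])
      rw [op_id, Functor.map_id_apply] at this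
      exact this)
    let H := (Stk.resSieve R (Stk.ofPsh P)).objPreimage G
    let i := (Stk.resSieve R (Stk.ofPsh P)).objObjPreimageIso G
    refine ⟨secOf H (Over.mk (𝟙 U)), fun V f hf => ?_, fun t ht => ?_⟩
    · let a : (Stk.sieveCat R).obj := ⟨Over.mk f, hf⟩
      let φ : ((Stk.sieveIncl R).obj a : (overCat U).obj) ⟶ Over.mk (𝟙 U) := Over.homMk f (Category.comp_id f)
      exact (secOf_compat H φ).trans ((secOf_eq_of_hom i.hom a).trans (secOf_mk _ _ a))
    · let T : overCat U ⥤ᵇ Stk.ofPsh P := mkPshFunctor (fun a => P.map a.hom.op t) (fun {a b} φ => by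
        show P.map φ.left.op (P.map b.hom.op t) = P.map a.hom.op t
        rw [← Functor.map_comp_apply, ← op_comp, Over.w φ])
      have e : ∀ a, secOf ((Stk.resSieve R (Stk.ofPsh P)).obj T) a = secOf ((Stk.resSieve R (Stk.ofPsh P)).obj H) a :=
        fun a => (secOf_pshOfElt t ((Stk.sieveIncl R).obj a)).trans
          ((ht a.obj.hom a.property).trans ((secOf_mk _ _ a).symm.trans (secOf_eq_of_hom i.hom a).symm))
      refine Eq.trans ?_ (secOf_eq_of_hom ((Stk.resSieve R (Stk.ofPsh P)).preimage (homOfSecEq e)) (Over.mk (𝟙 U)))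
      refine Eq.trans ?_ (secOf_pshOfElt t (Over.mk (𝟙 U))).symm
      show t = P.map (𝟙 U).op t
      rw [op_id, Functor.map_id_apply]
  · intro h
    obtain ⟨_, _⟩ := isPrestackFor_ofPsh P R h.isSeparatedFor
    refine { essSurj := ⟨fun G => ?_⟩ }
    let x : Presieve.FamilyOfElements P R.arrows := fun V f hf => secOf G ⟨Over.mk f, hf⟩
    have hx : x.Compatible := by
      intro Y₁ Y₂ Z g₁ g₂ f₁ f₂ h₁ h₂ hw
      let a : (Stk.sieveCat R).obj := ⟨Over.mk (g₁ ≫ f₁), R.downward_closed h₁ g₁⟩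
      let φ₁ : a ⟶ ⟨Over.mk f₁, h₁⟩ := ObjectProperty.homMk (Over.homMk g₁ rfl)
      let φ₂ : a ⟶ ⟨Over.mk f₂, h₂⟩ := ObjectProperty.homMk (Over.homMk g₂ hw.symm)
      exact (secOf_compat G φ₁).trans (secOf_compat G φ₂).symm
    obtain ⟨t, ht, -⟩ := h x hx
    let T : overCat U ⥤ᵇ Stk.ofPsh P := pshOfElt t
    have e : ∀ a, secOf ((Stk.resSieve R (Stk.ofPsh P)).obj T) a = secOf G a :=
      fun a => (secOf_pshOfElt t ((Stk.sieveIncl R).obj a)).trans (ht a.obj.hom a.property)
    exact ⟨T, ⟨⟨homOfSecEq e, homOfSecEq fun a => (e a).symm, psh_hom_unique _ _, psh_hom_unique _ _⟩⟩⟩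

theorem isStack_ofPsh_iff (J : GrothendieckTopology C) :
    Stk.IsStack J (Stk.ofPsh P) ↔ Presieve.IsSheaf J P :=
  ⟨fun h U R hR => (isStackFor_ofPsh_iff R).1 (h.2 R hR),
    fun h => ⟨inferInstanceAs (IsFibGrpd (Stk.EltObj.forget P)), fun _ R hR => (isStackFor_ofPsh_iff R).2 (h R hR)⟩⟩

/-- The slice as the category of the representable presheaf. -/
def yonToSlice (U : C) : Stk.ofPsh (yoneda.obj U) ⥤ᵇ overCat U where
  toFunctor :=
    { obj := fun a => Over.mk (show a.base ⟶ U from a.sec)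
      map := fun {a b} f => Over.homMk f.hom f.map_sec
      map_id := fun a => Over.OverMorphism.ext rfl
      map_comp := fun f g => Over.OverMorphism.ext rfl }
  w := rfl

/-- The inverse identification. -/
def sliceToYon (U : C) : overCat U ⥤ᵇ Stk.ofPsh (yoneda.obj U) where
  toFunctor :=
    { obj := fun a => ⟨a.left, a.hom⟩
      map := fun {a b} f => ⟨f.left, Over.w f⟩ }
  w := rfl

theorem isEquivOver_yonToSlice (U : C) : IsEquivOver (yonToSlice U) := ⟨sliceToYon U, ⟨Iso.refl _⟩, ⟨Iso.refl _⟩⟩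

theorem isStack_overCat_iff (J : GrothendieckTopology C) (U : C) :
    Stk.IsStack J (overCat U) ↔ Presieve.IsSheaf J (yoneda.obj U) :=
  (isStack_iff_of_equiv J (isEquivOver_yonToSlice U)).symm.trans (isStack_ofPsh_iff J)

theorem fibSet_ofPsh : IsFibSet (Stk.ofPsh P).p := by
  refine fibSet_iff.2 fun η U f => ?_
  refine ⟨⟨⟨U, P.map f.op η.sec⟩, ⟨f, rfl⟩⟩, IsHomLift.of_fac' _ _ _ rfl rfl (by simp), ?_⟩
  rintro ⟨⟨V, s⟩, ⟨g, hg⟩⟩ hh
  have e : V = U := IsHomLift.domain_eq (Stk.ofPsh P).p f (⟨g, hg⟩ : (⟨V, s⟩ : Stk.EltObj P) ⟶ η)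
  subst e
  have : g = f := by simpa using IsHomLift.fac' (Stk.ofPsh P).p f (⟨g, hg⟩ : (⟨V, s⟩ : Stk.EltObj P) ⟶ η)
  subst this
  refine Sigma.mk.inj_iff.mpr ?_
  change V ⟶ η.base at g
  have : s = P.map g.op η.sec := hg.symm
  subst this
  exact ⟨rfl, HEq.rfl⟩

theorem setoid_overCat (U : C) : IsFibSetoid (overCat U).p := fibSet_fibSetoid (isFibSet_overForget U)

end Groth.Agent.Stk19
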