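import Groth.Agent.Stk19.FibGrpd
import Mathlib.CategoryTheory.Sites.InducedTopology
import Mathlib.CategoryTheory.Sites.Over

/-! The topology restricted along a category fibred in groupoids. -/

set_option autoImplicit false
set_option backward.isDefEq.respectTransparency false
set_option backward.isDefEq.respectTransparency.types false

universe w v₃ u₃ v₂ u₂ v u

open CategoryTheory FibCat Groth.Agent.Desc19 Opposite

namespace Groth.Agent.Stk19

section Plain

variable {C : Type u} [Category.{v} C] {𝒳 : Type u₂} [Category.{v₂} 𝒳] {p : 𝒳 ⥤ C}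

theorem sieve_pullback_push (hp : IsFibGrpd p) {x : 𝒳} (S : Sieve x) :
    (S.functorPushforward p).functorPullback p = S := by
  refine le_antisymm (fun z φ hφ => ?_) (fun z φ hφ => Presieve.image_mem_functorPushforward p _ hφ)
  obtain ⟨w, ψ, g, hψ, e⟩ := hφ
  obtain ⟨χ, ⟨-, hχ⟩, -⟩ := fibGrpd_fac hp ψ φ g e.symm
  exact hχ ▸ S.downward_closed hψ χ

theorem sieve_push_pullback (hp : IsFibGrpd p) {x : 𝒳} (R : Sieve (p.obj x)) :
    (R.functorPullback p).functorPushforward p = R := by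
  refine le_antisymm (fun V f hf => ?_) (fun V f hf => ?_)
  · obtain ⟨w, ψ, g, hψ, e⟩ := hf
    rw [e]
    exact R.downward_closed hψ g
  · obtain ⟨y, φ, e, hφ⟩ := fibGrpd_lift hp x f
    refine ⟨y, φ, eqToHom e.symm, ?_, by rw [hφ]; simp⟩
    show R.arrows (p.map φ)
    rw [hφ]
    exact R.downward_closed hf _

theorem push_mem_iff (hp : IsFibGrpd p) {x : 𝒳} (S : Sieve x) {z : 𝒳} (φ : z ⟶ x) :
    (S.functorPushforward p).arrows (p.map φ) ↔ S.arrows φ :=
  Iff.of_eq (congrArg (fun T : Sieve x => T.arrows φ) (sieve_pullback_push hp S))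

theorem push_pullback (hp : IsFibGrpd p) {x y : 𝒳} (S : Sieve x) (φ : y ⟶ x) :
    (S.pullback φ).functorPushforward p = (S.functorPushforward p).pullback (p.map φ) := by
  conv_lhs => rw [← sieve_pullback_push hp S, ← Sieve.functorPullback_pullback]
  exact sieve_push_pullback hp _

/-- The topology of sieves whose image is covering. -/
def imageTopology (hp : IsFibGrpd p) (J : GrothendieckTopology C) : GrothendieckTopology 𝒳 where
  sieves x := {S | S.functorPushforward p ∈ J (p.obj x)}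
  top_mem' x := by
    show (⊤ : Sieve x).functorPushforward p ∈ J _
    rw [Sieve.functorPushforward_top]
    exact J.top_mem _
  pullback_stable' x y S f hS := by
    show (S.pullback f).functorPushforward p ∈ J _
    rw [push_pullback hp]
    exact J.pullback_stable _ hS
  transitive' x S hS R hR := by
    refine J.transitive hS _ fun V f hf => ?_
    obtain ⟨w, ψ, g, hψ, rfl⟩ := hf
    rw [Sieve.pullback_comp, ← push_pullback hp]
    exact J.pullback_stable _ (hR hψ)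

theorem mem_restricted_iff (hp : IsFibGrpd p) (J : GrothendieckTopology C) {x : 𝒳} (S : Sieve x) :
    S ∈ p.restrictedTopology J x ↔ S.functorPushforward p ∈ J (p.obj x) := by
  refine ⟨fun h => ?_, Functor.mem_restrictedTopology_of_functorPushforward_mem⟩
  refine (Precoverage.toGrothendieck_le_iff_le_toPrecoverage (J := imageTopology hp J)).2 ?_ x h
  intro y T hT
  show (Sieve.generate T).functorPushforward p ∈ J _
  rw [← Sieve.generate_map_eq_functorPushforward]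
  exact hT

theorem overPost_isEquivalence (hp : IsFibGrpd p) (x : 𝒳) :
    (Over.post p : Over x ⥤ Over (p.obj x)).IsEquivalence := by
  refine { faithful := ⟨fun {a b} f g h => ?_⟩, full := ⟨fun {a b} k => ?_⟩, essSurj := ⟨fun a => ?_⟩ }
  · exact Over.OverMorphism.ext (fibGrpd_ext hp b.hom (congrArg Over.Hom.left h) ((Over.w f).trans (Over.w g).symm))
  · obtain ⟨χ, ⟨h1, h2⟩, -⟩ := fibGrpd_fac hp b.hom a.hom k.left (Over.w k)
    exact ⟨Over.homMk χ h2, Over.OverMorphism.ext h1⟩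
  · obtain ⟨y, φ, e, hφ⟩ := fibGrpd_lift hp x a.hom
    exact ⟨Over.mk φ, ⟨Over.isoMk (eqToIso e) hφ.symm⟩⟩

theorem mem_over_restricted_iff (hp : IsFibGrpd p) (J : GrothendieckTopology C) (x : 𝒳) (a : Over x) (S : Sieve a) :
    S ∈ (p.restrictedTopology J).over x a ↔
      S.functorPushforward (Over.post p) ∈ (J.over (p.obj x)) ((Over.post p).obj a) := by
  rw [GrothendieckTopology.mem_over_iff, GrothendieckTopology.mem_over_iff, mem_restricted_iff hp J]
  refine Iff.of_eq (congrArg (fun T => T ∈ J (p.obj a.left)) ?_)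
  show (S.functorPushforward (Over.forget x)).functorPushforward p =
    (S.functorPushforward (Over.post p)).functorPushforward (Over.forget (p.obj x))
  rw [← Sieve.functorPushforward_comp, ← Sieve.functorPushforward_comp]
  rfl

end Plain

variable {C : Type u} [Category.{v} C] {𝒳 : BasedCategory.{v₂, u₂} C} {𝒴 : BasedCategory.{v₃, u₃} C}

theorem push_push {F : 𝒳 ⥤ᵇ 𝒴} (_h𝒳 : IsFibGrpd 𝒳.p) {x : 𝒳.obj} (S : Sieve x) {V : C} (f : V ⟶ 𝒴.p.obj (F.obj x)) :
    ((S.functorPushforward F.toFunctor).functorPushforward 𝒴.p).arrows f ↔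
      (S.functorPushforward 𝒳.p).arrows (f ≫ eqToHom (F.w_obj x)) := by
  constructor
  · rintro ⟨w, ψ, g, ⟨z, φ, h, hφ, rfl⟩, rfl⟩
    refine ⟨z, φ, g ≫ 𝒴.p.map h ≫ eqToHom (F.w_obj z), hφ, ?_⟩
    simp [based_map F φ]
  · rintro ⟨z, φ, g, hφ, e⟩
    refine ⟨F.obj z, F.map φ, g ≫ eqToHom (F.w_obj z).symm, ⟨z, φ, 𝟙 _, hφ, (Category.id_comp _).symm⟩, ?_⟩
    rw [← cancel_mono (eqToHom (F.w_obj x)), e]
    simp [based_map F φ]

theorem restricted_coverPreserving (J : GrothendieckTopology C) (h𝒳 : IsFibGrpd 𝒳.p) (h𝒴 : IsFibGrpd 𝒴.p) (F : 𝒳 ⥤ᵇ 𝒴) :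
    CoverPreserving (𝒳.p.restrictedTopology J) (𝒴.p.restrictedTopology J) F.toFunctor := by
  refine ⟨fun {x S} hS => ?_⟩
  rw [mem_restricted_iff h𝒴]
  rw [mem_restricted_iff h𝒳] at hS
  refine J.superset_covering ?_ (J.pullback_stable (eqToHom (F.w_obj x)) hS)
  exact fun V f hf => (push_push h𝒳 S f).2 hf

theorem restricted_cocontinuous (J : GrothendieckTopology C) (h𝒳 : IsFibGrpd 𝒳.p) (h𝒴 : IsFibGrpd 𝒴.p) (F : 𝒳 ⥤ᵇ 𝒴) :
    F.toFunctor.IsCocontinuous (𝒳.p.restrictedTopology J) (𝒴.p.restrictedTopology J) := by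
  refine ⟨fun {x T} hT => ?_⟩
  rw [mem_restricted_iff h𝒳]
  rw [mem_restricted_iff h𝒴] at hT
  refine J.superset_covering ?_ (J.pullback_stable (eqToHom (F.w_obj x).symm) hT)
  intro V f hf
  obtain ⟨z, φ, e, hφ⟩ := fibGrpd_lift h𝒳 x f
  refine ⟨z, φ, eqToHom e.symm, ?_, by rw [hφ]; simp⟩
  show T.arrows (F.map φ)
  rw [← push_mem_iff h𝒴 T, based_map F φ, hφ]
  simpa using (T.functorPushforward 𝒴.p).downward_closed hf (eqToHom ((F.w_obj z).trans e))

theorem restricted_compatiblePreserving (h𝒳 : IsFibGrpd 𝒳.p) (h𝒴 : IsFibGrpd 𝒴.p) (F : 𝒳 ⥤ᵇ 𝒴)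
    (K : GrothendieckTopology 𝒴.obj) : CompatiblePreserving.{w} K F.toFunctor := by
  refine ⟨fun ℱ {Z T ξ} hξ {Y₁ Y₂ W} f₁ f₂ {g₁ g₂} hg₁ hg₂ e => ?_⟩
  obtain ⟨z, a₁, ez, ha₁⟩ := fibGrpd_lift h𝒳 Y₁ (𝒴.p.map f₁ ≫ eqToHom (F.w_obj Y₁))
  have hproj := congrArg 𝒴.p.map e
  simp only [𝒴.p.map_comp, based_map F] at hproj
  obtain ⟨a₂, ⟨ha₂, ha⟩, -⟩ := fibGrpd_fac h𝒳 g₂ (a₁ ≫ g₁) (eqToHom ez ≫ 𝒴.p.map f₂ ≫ eqToHom (F.w_obj Y₂)) (by
    rw [𝒳.p.map_comp, ha₁, ← cancel_mono (eqToHom (F.w_obj Z).symm)]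
    simp only [Category.assoc]
    rw [← hproj])
  obtain ⟨t, ⟨ht, htf⟩, -⟩ := fibGrpd_fac h𝒴 (F.map a₁) f₁ (eqToHom ((F.w_obj z).trans ez).symm) (by
    rw [based_map F, ha₁]; simp)
  have htf₂ : t ≫ F.map a₂ = f₂ := by
    refine fibGrpd_ext h𝒴 (F.map g₂) ?_ ?_
    · rw [𝒴.p.map_comp, ht, based_map F, ha₂]; simp
    · rw [Category.assoc, ← F.toFunctor.map_comp, ha, F.toFunctor.map_comp, ← Category.assoc, htf, e]
  rw [← htf, ← htf₂, op_comp, op_comp, ℱ.obj.map_comp, ℱ.obj.map_comp]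
  have := hξ a₁ a₂ hg₁ hg₂ ha.symm
  simp only [CategoryTheory.types_comp_apply]
  exact congrArg _ this

theorem restricted_continuous (J : GrothendieckTopology C) (h𝒳 : IsFibGrpd 𝒳.p) (h𝒴 : IsFibGrpd 𝒴.p) (F : 𝒳 ⥤ᵇ 𝒴) :
    F.toFunctor.IsContinuous (𝒳.p.restrictedTopology J) (𝒴.p.restrictedTopology J) :=
  Functor.isContinuous_of_coverPreserving (restricted_compatiblePreserving h𝒳 h𝒴 F _)
    (restricted_coverPreserving J h𝒳 h𝒴 F)

end Groth.Agent.Stk19
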