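import Groth.Prelude.Def_FibCat2
import Groth.Agent.Stk19.FibGrpd

/-! Calculus of 2-fibre products over the base. -/

set_option autoImplicit false
set_option backward.isDefEq.respectTransparency false
set_option backward.isDefEq.respectTransparency.types false

universe v₉ u₉ v₈ u₈ v₇ u₇ v₆ u₆ v₅ u₅ v₄ u₄ v₃ u₃ v₂ u₂ v u

open CategoryTheory CategoryTheory.Limits FibCat

namespace Groth.Agent.Stk19

variable {C : Type u} [Category.{v} C]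
variable {𝒳 : BasedCategory.{v₂, u₂} C} {𝒴 : BasedCategory.{v₃, u₃} C} {𝒮 : BasedCategory.{v₄, u₄} C}
variable {𝒳' : BasedCategory.{v₅, u₅} C} {𝒴' : BasedCategory.{v₆, u₆} C} {𝒮' : BasedCategory.{v₇, u₇} C}

/-- An object of the fibre product over the base. -/
def fpMk {F : 𝒳 ⥤ᵇ 𝒮} {G : 𝒴 ⥤ᵇ 𝒮} (x : 𝒳.obj) (y : 𝒴.obj) (φ : F.obj x ≅ G.obj y)
    (h : 𝒮.p.IsHomLift (𝟙 (𝒳.p.obj x)) φ.hom) : (fp F G).obj :=
  ⟨⟨x, y, φ⟩, h⟩

variable {F : 𝒳 ⥤ᵇ 𝒮} {G : 𝒴 ⥤ᵇ 𝒮}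

theorem fp_iso_vert (a : (fp F G).obj) : 𝒮.p.IsHomLift (𝟙 (𝒳.p.obj a.obj.fst)) a.obj.iso.hom :=
  a.property

theorem fp_base_eq (a : (fp F G).obj) : 𝒴.p.obj a.obj.snd = 𝒳.p.obj a.obj.fst :=
  (fpSnd F G).w_obj a

theorem fp_map_snd {a b : (fp F G).obj} (f : a ⟶ b) :
    𝒴.p.map f.hom.snd = eqToHom (fp_base_eq a) ≫ 𝒳.p.map f.hom.fst ≫ eqToHom (fp_base_eq b).symm :=
  based_map (fpSnd F G) f

theorem fp_iso_map (a : (fp F G).obj) :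
    𝒮.p.map a.obj.iso.hom =
      eqToHom ((F.w_obj a.obj.fst).trans ((fp_base_eq a).symm.trans (G.w_obj a.obj.snd).symm)) :=
  have : 𝒮.p.IsHomLift (𝟙 (𝒳.p.obj a.obj.fst)) a.obj.iso.hom := a.property
  map_eq_of_vert 𝒮.p (R := 𝒳.p.obj a.obj.fst) _

/-- A morphism of the fibre product over the base. -/
def fpHom {a b : (fp F G).obj} (f : a.obj.fst ⟶ b.obj.fst) (g : a.obj.snd ⟶ b.obj.snd)
    (w : F.map f ≫ b.obj.iso.hom = a.obj.iso.hom ≫ G.map g) : a ⟶ b :=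
  ObjectProperty.homMk ⟨f, g, w⟩

@[simp] theorem fpHom_fst {a b : (fp F G).obj} (f : a.obj.fst ⟶ b.obj.fst) (g : a.obj.snd ⟶ b.obj.snd)
    (w : F.map f ≫ b.obj.iso.hom = a.obj.iso.hom ≫ G.map g) : (fpHom f g w).hom.fst = f := rfl

@[simp] theorem fpHom_snd {a b : (fp F G).obj} (f : a.obj.fst ⟶ b.obj.fst) (g : a.obj.snd ⟶ b.obj.snd)
    (w : F.map f ≫ b.obj.iso.hom = a.obj.iso.hom ≫ G.map g) : (fpHom f g w).hom.snd = g := rfl

theorem fp_hom_ext {a b : (fp F G).obj} {f g : a ⟶ b} (h1 : f.hom.fst = g.hom.fst)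
    (h2 : f.hom.snd = g.hom.snd) : f = g :=
  ObjectProperty.hom_ext _ (CategoricalPullback.hom_ext h1 h2)

/-- An isomorphism of the fibre product over the base. -/
def fpIsoMk {a b : (fp F G).obj} (f : a.obj.fst ≅ b.obj.fst) (g : a.obj.snd ≅ b.obj.snd)
    (w : F.map f.hom ≫ b.obj.iso.hom = a.obj.iso.hom ≫ G.map g.hom) : a ≅ b where
  hom := fpHom f.hom g.hom w
  inv := fpHom f.inv g.inv (by
    rw [← cancel_epi (F.map f.hom), ← F.toFunctor.map_comp_assoc, f.hom_inv_id, reassoc_of% w,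
      ← G.toFunctor.map_comp, g.hom_inv_id]
    simp)
  hom_inv_id := fp_hom_ext f.hom_inv_id g.hom_inv_id
  inv_hom_id := fp_hom_ext f.inv_hom_id g.inv_hom_id

theorem fpIsoMk_vert {a b : (fp F G).obj} (f : a.obj.fst ≅ b.obj.fst) (g : a.obj.snd ≅ b.obj.snd)
    (w : F.map f.hom ≫ b.obj.iso.hom = a.obj.iso.hom ≫ G.map g.hom) {R : C}
    (h : 𝒳.p.IsHomLift (𝟙 R) f.hom) : (fp F G).p.IsHomLift (𝟙 R) (fpIsoMk f g w).hom :=
  (vert_iff _ _).2 ((vert_iff 𝒳.p f.hom).1 h)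

/-- Components of a 2-isomorphism are vertical, so we may glue them into fibre-product objects. -/
theorem based_vert {P Q : 𝒳 ⥤ᵇ 𝒴} (e : P ≅ Q) (a : 𝒳.obj) :
    𝒴.p.IsHomLift (𝟙 (𝒳.p.obj a)) (e.hom.toNatTrans.app a) := e.hom.isHomLift rfl

section Map

variable {F' : 𝒳' ⥤ᵇ 𝒮'} {G' : 𝒴' ⥤ᵇ 𝒮'} (a : 𝒳 ⥤ᵇ 𝒳') (b : 𝒴 ⥤ᵇ 𝒴') (c : 𝒮 ⥤ᵇ 𝒮')
  (e₁ : BasedFunctor.comp F c ≅ BasedFunctor.comp a F') (e₂ : BasedFunctor.comp G c ≅ BasedFunctor.comp b G')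

/-- The 2-isomorphism behind `fpMap`. -/
def fpMapIso : BasedFunctor.comp (BasedFunctor.comp (fpFst F G) a) F' ≅
    BasedFunctor.comp (BasedFunctor.comp (fpSnd F G) b) G' :=
  isoMk (fun x => (appIso e₁ x.obj.fst).symm ≪≫ c.toFunctor.mapIso x.obj.iso ≪≫ appIso e₂ x.obj.snd)
    (fun x => by
      have h1 : 𝒮'.p.IsHomLift (𝟙 (𝒳.p.obj x.obj.fst)) (appIso e₁ x.obj.fst).symm.hom :=
        e₁.inv.isHomLift rfl
      have h0 : 𝒮.p.IsHomLift (𝟙 (𝒳.p.obj x.obj.fst)) x.obj.iso.hom := x.property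
      have h2 : 𝒮'.p.IsHomLift (𝟙 (𝒳.p.obj x.obj.fst)) (c.map x.obj.iso.hom) :=
        BasedFunctor.preserves_isHomLift c (𝟙 (𝒳.p.obj x.obj.fst)) x.obj.iso.hom
      have h3 : 𝒮'.p.IsHomLift (𝟙 (𝒳.p.obj x.obj.fst)) (appIso e₂ x.obj.snd).hom :=
        e₂.hom.isHomLift (fp_base_eq x)
      exact vert_change 𝒮'.p _ (vert_comp 𝒮'.p _ _ h1 (vert_comp 𝒮'.p _ _ h2 h3)) rfl)
    (fun {x y} φ => by
      show F'.map (a.map φ.hom.fst) ≫ e₁.inv.toNatTrans.app _ ≫ c.map y.obj.iso.hom ≫ e₂.hom.toNatTrans.app _ =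
        (e₁.inv.toNatTrans.app _ ≫ c.map x.obj.iso.hom ≫ e₂.hom.toNatTrans.app _) ≫ G'.map (b.map φ.hom.snd)
      have n1 : F'.map (a.map φ.hom.fst) ≫ e₁.inv.toNatTrans.app y.obj.fst =
          e₁.inv.toNatTrans.app x.obj.fst ≫ c.map (F.map φ.hom.fst) := e₁.inv.toNatTrans.naturality φ.hom.fst
      have n2 : c.map (G.map φ.hom.snd) ≫ e₂.hom.toNatTrans.app y.obj.snd =
          e₂.hom.toNatTrans.app x.obj.snd ≫ G'.map (b.map φ.hom.snd) := e₂.hom.toNatTrans.naturality φ.hom.snd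
      have w : F.map φ.hom.fst ≫ y.obj.iso.hom = x.obj.iso.hom ≫ G.map φ.hom.snd := φ.hom.w
      rw [reassoc_of% n1, ← c.toFunctor.map_comp_assoc, w, c.toFunctor.map_comp_assoc, n2]
      simp)

/-- Functoriality of fibre products over the base in the cospan. -/
def fpMap : fp F G ⥤ᵇ fp F' G' :=
  fpLift (BasedFunctor.comp (fpFst F G) a) (BasedFunctor.comp (fpSnd F G) b) (fpMapIso a b c e₁ e₂)

theorem fpMap_fst : BasedFunctor.comp (fpMap a b c e₁ e₂) (fpFst F' G') = BasedFunctor.comp (fpFst F G) a := rfl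

theorem fpMap_snd : BasedFunctor.comp (fpMap a b c e₁ e₂) (fpSnd F' G') = BasedFunctor.comp (fpSnd F G) b :=
  based_ext rfl

theorem isEquivOver_fpMap (ha : IsEquivOver a) (hb : IsEquivOver b) [c.toFunctor.Full] [c.toFunctor.Faithful] :
    IsEquivOver (fpMap a b c e₁ e₂) := by
  obtain ⟨a1, a2, a3⟩ := EqvData.of_isEquivOver ha
  obtain ⟨b1, b2, b3⟩ := EqvData.of_isEquivOver hb
  refine EqvData.isEquivOver ⟨⟨fun {x y} t => ?_⟩, ⟨fun {x y} s t h => ?_⟩, fun z => ?_⟩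
  · obtain ⟨f, hf⟩ := a.toFunctor.map_surjective t.hom.fst
    obtain ⟨g, hg⟩ := b.toFunctor.map_surjective t.hom.snd
    refine ⟨fpHom f g (c.toFunctor.map_injective ?_), fp_hom_ext hf hg⟩
    have tw : F'.map t.hom.fst ≫ (e₁.inv.toNatTrans.app y.obj.fst ≫ c.map y.obj.iso.hom ≫ e₂.hom.toNatTrans.app y.obj.snd) =
        (e₁.inv.toNatTrans.app x.obj.fst ≫ c.map x.obj.iso.hom ≫ e₂.hom.toNatTrans.app x.obj.snd) ≫ G'.map t.hom.snd := t.hom.w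
    rw [← hf, ← hg] at tw
    have n1 : F'.map (a.map f) ≫ e₁.inv.toNatTrans.app y.obj.fst =
        e₁.inv.toNatTrans.app x.obj.fst ≫ c.map (F.map f) := e₁.inv.toNatTrans.naturality f
    have n2 : c.map (G.map g) ≫ e₂.hom.toNatTrans.app y.obj.snd =
        e₂.hom.toNatTrans.app x.obj.snd ≫ G'.map (b.map g) := e₂.hom.toNatTrans.naturality g
    rw [reassoc_of% n1, Category.assoc, Category.assoc, ← n2] at tw
    replace tw := (cancel_epi (appIso e₁ x.obj.fst).inv).1 tw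
    simp only [← Category.assoc] at tw
    replace tw := (cancel_mono (appIso e₂ y.obj.snd).hom).1 tw
    simpa using tw
  · exact fp_hom_ext (a.toFunctor.map_injective (congrArg (fun k => k.hom.fst) h))
      (b.toFunctor.map_injective (congrArg (fun k => k.hom.snd) h))
  · obtain ⟨x, i, hi⟩ := a3 z.obj.fst
    obtain ⟨y, j, hj⟩ := b3 z.obj.snd
    let m : c.obj (F.obj x) ≅ c.obj (G.obj y) := appIso e₁ x ≪≫ F'.toFunctor.mapIso i ≪≫ z.obj.iso ≪≫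
      G'.toFunctor.mapIso j.symm ≪≫ (appIso e₂ y).symm
    have hm : c.map (c.toFunctor.preimage m.hom) = m.hom := c.toFunctor.map_preimage _
    have hx : 𝒳.p.obj x = 𝒳'.p.obj z.obj.fst :=
      (a.w_obj x).symm.trans (IsHomLift.domain_eq 𝒳'.p (𝟙 (𝒳'.p.obj z.obj.fst)) i.hom)
    have hy : 𝒴.p.obj y = 𝒴'.p.obj z.obj.snd :=
      (b.w_obj y).symm.trans (IsHomLift.domain_eq 𝒴'.p (𝟙 (𝒴'.p.obj z.obj.snd)) j.hom)
    have hmv : 𝒮'.p.IsHomLift (𝟙 (𝒳.p.obj x)) m.hom := by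
      refine vert_comp 𝒮'.p _ _ (e₁.hom.isHomLift rfl) (vert_comp 𝒮'.p _ _ ?_ (vert_comp 𝒮'.p _ _ ?_ (vert_comp 𝒮'.p _ _ ?_ ?_)))
      · rw [hx]; exact BasedFunctor.preserves_isHomLift F' (𝟙 (𝒳'.p.obj z.obj.fst)) i.hom
      · rw [hx]; exact z.property
      · rw [hx, ← fp_base_eq z]
        exact BasedFunctor.preserves_isHomLift G' (𝟙 (𝒴'.p.obj z.obj.snd)) j.inv
      · exact e₂.inv.isHomLift (by rw [hx, hy, fp_base_eq z])
    have hv : 𝒮.p.IsHomLift (𝟙 (𝒳.p.obj x)) (c.toFunctor.preimage m.hom) :=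
      (c.isHomLift_iff (𝟙 (𝒳.p.obj x)) _).1 (by rw [hm]; exact hmv)
    refine ⟨fpMk x y (c.toFunctor.preimageIso m) hv, fpIsoMk i j ?_, fpIsoMk_vert _ _ _ hi⟩
    show F'.map i.hom ≫ z.obj.iso.hom =
      (e₁.inv.toNatTrans.app x ≫ c.map (c.toFunctor.preimageIso m).hom ≫ e₂.hom.toNatTrans.app y) ≫ G'.map j.hom
    rw [Functor.preimageIso_hom, hm]
    change _ = ((appIso e₁ x).inv ≫ m.hom ≫ (appIso e₂ y).hom) ≫ G'.toFunctor.map j.hom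
    simp only [m, Iso.trans_hom, Functor.mapIso_hom, Iso.symm_hom, Category.assoc, Iso.inv_hom_id_assoc,
      ← G'.toFunctor.map_comp, Iso.inv_hom_id, G'.toFunctor.map_id, Category.comp_id]

end Map

section Congr

/-- Changing the two functors by 2-isomorphisms. -/
theorem exists_congr {F₁ : 𝒳 ⥤ᵇ 𝒮} {G₁ : 𝒴 ⥤ᵇ 𝒮} (e₁ : F ≅ F₁) (e₂ : G ≅ G₁) :
    ∃ E : fp F G ⥤ᵇ fp F₁ G₁, IsEquivOver E ∧
      BasedFunctor.comp E (fpFst F₁ G₁) = fpFst F G ∧ BasedFunctor.comp E (fpSnd F₁ G₁) = fpSnd F G :=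
  have : (BasedFunctor.id 𝒮).toFunctor.Full := inferInstanceAs (𝟭 𝒮.obj : 𝒮.obj ⥤ 𝒮.obj).Full
  have : (BasedFunctor.id 𝒮).toFunctor.Faithful := inferInstanceAs (𝟭 𝒮.obj : 𝒮.obj ⥤ 𝒮.obj).Faithful
  ⟨fpMap (F' := F₁) (G' := G₁) (BasedFunctor.id 𝒳) (BasedFunctor.id 𝒴) (BasedFunctor.id 𝒮) e₁ e₂,
    isEquivOver_fpMap _ _ _ _ _ (isEquivOver_id 𝒳) (isEquivOver_id 𝒴), rfl, based_ext rfl⟩

end Congr

end Groth.Agent.Stk19
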