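import Groth.Agent.Stk19.Elem
import Groth.Agent.Stk19.Restricted
import Groth.Agent.Stk19.Fp

/-! Stacks over stacks: the relative gluing condition. -/

set_option autoImplicit false
set_option backward.isDefEq.respectTransparency false
set_option backward.isDefEq.respectTransparency.types false

universe w v₄ u₄ v₃ u₃ v₂ u₂ v u

open CategoryTheory FibCat Groth.Agent.Desc19

namespace Groth.Agent.Stk19

variable {C : Type u} [Category.{v} C] {𝒳 : BasedCategory.{v₂, u₂} C} {𝒴 : BasedCategory.{v₃, u₃} C}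

/-- Arrows of `𝒴` over a given arrow of `𝒳` glue along `R`. -/
def RelHom (F : 𝒴 ⥤ᵇ 𝒳) {U : C} (R : Sieve U) : Prop :=
  ∀ (x y : 𝒴.obj) (hx : 𝒴.p.obj x = U) (hy : 𝒴.p.obj y = U) (χ₀ : F.obj x ⟶ F.obj y),
    𝒳.p.map χ₀ = eqToHom (((F.w_obj x).trans (hx.trans hy.symm)).trans (F.w_obj y).symm) →
    ∀ t : ∀ (z : 𝒴.obj) (ν : z ⟶ x), R.arrows (𝒴.p.map ν ≫ eqToHom hx) → (z ⟶ y),
      (∀ z ν h, 𝒴.p.map (t z ν h) = 𝒴.p.map ν ≫ eqToHom (hx.trans hy.symm)) →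
      (∀ z' z (g : z' ⟶ z) ν h h', t z' (g ≫ ν) h' = g ≫ t z ν h) →
      (∀ z ν h, F.map (t z ν h) = F.map ν ≫ χ₀) →
      ∃! χ : x ⟶ y, F.map χ = χ₀ ∧ ∀ z ν h, ν ≫ χ = t z ν h

/-- Descent data of `𝒴` whose image in `𝒳` is glued, glue. -/
def RelObj (F : 𝒴 ⥤ᵇ 𝒳) {U : C} (R : Sieve U) : Prop :=
  ∀ (D : Stk.sieveCat R ⥤ᵇ 𝒴) (u : 𝒳.obj) (hu : 𝒳.p.obj u = U) (μ : ∀ a, F.obj (D.obj a) ⟶ u),
    (∀ a, 𝒳.p.map (μ a) = eqToHom ((F.w_obj _).trans (D.w_obj a)) ≫ a.obj.hom ≫ eqToHom hu.symm) →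
    (∀ a b (φ : a ⟶ b), F.map (D.map φ) ≫ μ b = μ a) →
    ∃ (x : 𝒴.obj) (hx : 𝒴.p.obj x = U) (ν : ∀ a, D.obj a ⟶ x),
      (∀ a, 𝒴.p.map (ν a) = eqToHom (D.w_obj a) ≫ a.obj.hom ≫ eqToHom hx.symm) ∧
      ∀ a b (φ : a ⟶ b), D.map φ ≫ ν b = ν a

theorem isStackFor_of_rel (h𝒴 : IsFibGrpd 𝒴.p) (h𝒳 : IsFibGrpd 𝒳.p) (F : 𝒴 ⥤ᵇ 𝒳) {U : C} {R : Sieve U}
    (hR : Stk.IsStackFor R 𝒳) (hH : RelHom F R) (hO : RelObj F R) : Stk.IsStackFor R 𝒴 := by
  obtain ⟨xH, xO⟩ := (isStackFor_iff_glue h𝒳 R).1 hR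
  refine (isStackFor_iff_glue h𝒴 R).2 ⟨fun x y hx hy t ht tn => ?_, fun D => ?_⟩
  · have hx' : 𝒳.p.obj (F.obj x) = U := (F.w_obj x).trans hx
    have hy' : 𝒳.p.obj (F.obj y) = U := (F.w_obj y).trans hy
    choose w ν ew hν using fun (z : 𝒳.obj) (ν' : z ⟶ F.obj x) =>
      fibGrpd_lift h𝒴 x (𝒳.p.map ν' ≫ eqToHom (F.w_obj x))
    choose ω hω _ using fun (z : 𝒳.obj) (ν' : z ⟶ F.obj x) => fibGrpd_fac h𝒳 (F.map (ν z ν')) ν'
      (eqToHom ((F.w_obj _).trans (ew z ν')).symm) (by rw [based_map F, hν]; simp)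
    have hR' : ∀ z (ν' : z ⟶ F.obj x), R.arrows (𝒳.p.map ν' ≫ eqToHom hx') →
        R.arrows (𝒴.p.map (ν z ν') ≫ eqToHom hx) := fun z ν' h => by
      rw [hν]
      simpa using R.downward_closed h (eqToHom (ew z ν'))
    let t₀ : ∀ z (ν' : z ⟶ F.obj x), R.arrows (𝒳.p.map ν' ≫ eqToHom hx') → (z ⟶ F.obj y) := fun z ν' h =>
      ω z ν' ≫ F.map (t _ (ν z ν') (hR' z ν' h))
    have ht₀ : ∀ z ν' h, 𝒳.p.map (t₀ z ν' h) = 𝒳.p.map ν' ≫ eqToHom (hx'.trans hy'.symm) := fun z ν' h => by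
      rw [𝒳.p.map_comp, (hω z ν').1, based_map F, ht, hν]
      simp
    have htn₀ : ∀ z' z (g : z' ⟶ z) ν' h h', t₀ z' (g ≫ ν') h' = g ≫ t₀ z ν' h := by
      intro z' z g ν' h h'
      obtain ⟨g', ⟨hg1, hg2⟩, -⟩ := fibGrpd_fac h𝒴 (ν z ν') (ν z' (g ≫ ν'))
        (eqToHom (ew z' (g ≫ ν')) ≫ 𝒳.p.map g ≫ eqToHom (ew z ν').symm) (by rw [hν, hν]; simp)
      have e : ω z' (g ≫ ν') ≫ F.map g' = g ≫ ω z ν' := by
        refine fibGrpd_ext h𝒳 (F.map (ν z ν')) ?_ ?_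
        · rw [𝒳.p.map_comp, 𝒳.p.map_comp, (hω _ _).1, (hω _ _).1, based_map F, hg1]; simp
        · rw [Category.assoc, ← F.toFunctor.map_comp, hg2, (hω _ _).2, Category.assoc, (hω _ _).2]
      have e2 : ∀ (ν'' : w z' (g ≫ ν') ⟶ x) (_ : ν'' = ν z' (g ≫ ν')) h'',
          t _ ν'' h'' = t _ (ν z' (g ≫ ν')) (hR' _ _ h') := by rintro _ rfl _; rfl
      simp only [t₀]
      rw [← e2 _ hg2 (by rw [hg2]; exact hR' _ _ h'), tn _ _ g' _ (hR' _ _ h), F.toFunctor.map_comp, reassoc_of% e]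
    obtain ⟨χ₀, ⟨hχ₀, hspec₀⟩, hu₀⟩ := xH _ _ hx' hy' t₀ ht₀ htn₀
    have key : ∀ z (νz : z ⟶ x) h, F.map (t z νz h) = F.map νz ≫ χ₀ := by
      intro z νz h
      have hF : R.arrows (𝒳.p.map (F.map νz) ≫ eqToHom hx') := by
        rw [based_map F]
        simpa using R.downward_closed h (eqToHom (F.w_obj z))
      rw [hspec₀ _ _ hF]
      obtain ⟨g', ⟨hg1, hg2⟩, -⟩ := fibGrpd_fac h𝒴 (ν _ (F.map νz)) νz
        (eqToHom ((F.w_obj z).symm.trans (ew _ (F.map νz)).symm)) (by rw [hν, based_map F]; simp)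
      have e : F.map g' = ω _ (F.map νz) := by
        refine fibGrpd_ext h𝒳 (F.map (ν _ (F.map νz))) ?_ ?_
        · rw [(hω _ _).1, based_map F, hg1]; simp
        · rw [← F.toFunctor.map_comp, hg2, (hω _ _).2]
      have e2 : ∀ (ν'' : z ⟶ x) (_ : ν'' = νz) h'', t _ ν'' h'' = t _ νz h := by rintro _ rfl _; rfl
      simp only [t₀]
      rw [← e2 _ hg2 (by rw [hg2]; exact h), tn _ _ g' _ (hR' _ _ hF), F.toFunctor.map_comp, e]
    obtain ⟨χ, ⟨hχ, hspec⟩, hu⟩ := hH x y hx hy χ₀ hχ₀ t ht tn key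
    refine ⟨χ, ⟨by rw [based_map_back F, hχ, hχ₀]; simp, hspec⟩, fun χ' ⟨hb, hs⟩ => hu χ' ⟨?_, hs⟩⟩
    refine hu₀ _ ⟨by rw [based_map F, hb]; simp, fun z ν' h => ?_⟩
    conv_lhs => rw [← (hω z ν').2]
    rw [Category.assoc, ← F.toFunctor.map_comp, hs _ _ (hR' _ _ h)]
  · obtain ⟨u, hu, μ, hμ, hμn⟩ := xO (BasedFunctor.comp D F)
    exact hO D u hu μ hμ hμn

end Groth.Agent.Stk19

namespace Groth.Agent.Stk19

variable {C : Type u} [Category.{v} C] {𝒳 : BasedCategory.{v₂, u₂} C} {𝒴 : BasedCategory.{v₃, u₃} C}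

/-- The projection of a sieve on an object of `𝒳` to the sieve of its images. -/
@[simps]
def sieveProj {y : 𝒳.obj} {U : C} (hy : 𝒳.p.obj y = U) (S : Sieve y) (R : Sieve U)
    (h : ∀ z (φ : z ⟶ y), S φ → R.arrows (𝒳.p.map φ ≫ eqToHom hy)) :
    (Stk.sieveCat S).obj ⥤ (Stk.sieveCat R).obj where
  obj b := ⟨Over.mk (𝒳.p.map b.obj.hom ≫ eqToHom hy), h _ _ b.property⟩
  map {b b'} φ := ObjectProperty.homMk (Over.homMk (𝒳.p.map φ.hom.left) (by
    show 𝒳.p.map φ.hom.left ≫ 𝒳.p.map b'.obj.hom ≫ eqToHom hy = 𝒳.p.map b.obj.hom ≫ eqToHom hy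
    rw [← Category.assoc, ← 𝒳.p.map_comp, Over.w φ.hom]))
  map_id b := ObjectProperty.hom_ext _ (Over.OverMorphism.ext (𝒳.p.map_id _))
  map_comp f g := ObjectProperty.hom_ext _ (Over.OverMorphism.ext (𝒳.p.map_comp _ _))

theorem isStack_restricted (J : GrothendieckTopology C) (h𝒳 : Stk.IsStack J 𝒳) (h𝒴 : Stk.IsStack J 𝒴)
    (F : 𝒳 ⥤ᵇ 𝒴) (hF : IsFibGrpd F.toFunctor) :
    Stk.IsStack (𝒴.p.restrictedTopology J) (BasedCategory.ofFunctor F.toFunctor) := by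
  refine ⟨hF, fun y S hS => ?_⟩
  rw [mem_restricted_iff h𝒴.1] at hS
  let R := S.functorPushforward 𝒴.p
  obtain ⟨xH, xO⟩ := (isStackFor_iff_glue h𝒳.1 R).1 (h𝒳.2 R hS)
  obtain ⟨yH, -⟩ := (isStackFor_iff_glue h𝒴.1 R).1 (h𝒴.2 R hS)
  refine (isStackFor_iff_glue (𝒳 := BasedCategory.ofFunctor F.toFunctor) hF S).2 ⟨?_, ?_⟩
  · intro x x' (hx : F.obj x = y) (hx' : F.obj x' = y) t ht tn
    have eb : 𝒳.p.obj x = 𝒴.p.obj y := (F.w_obj x).symm.trans (congrArg 𝒴.p.obj hx)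
    have eb' : 𝒳.p.obj x' = 𝒴.p.obj y := (F.w_obj x').symm.trans (congrArg 𝒴.p.obj hx')
    have hRS : ∀ z (ν : z ⟶ x), R.arrows (𝒳.p.map ν ≫ eqToHom eb) → S.arrows (F.map ν ≫ eqToHom hx) := by
      intro z ν h
      rw [← push_mem_iff h𝒴.1 S]
      have := R.downward_closed h (eqToHom (F.w_obj z))
      simp only [R] at this
      simpa [based_map F, eqToHom_map] using this
    obtain ⟨χ, ⟨hχ, hspec⟩, hu⟩ := xH x x' eb eb' (fun z ν h => t z ν (hRS z ν h))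
      (fun z ν h => by
        have := congrArg 𝒴.p.map (ht z ν (hRS z ν h))
        change 𝒴.p.map (F.map (t z ν _)) = 𝒴.p.map (F.map ν ≫ eqToHom _) at this
        simp only [𝒴.p.map_comp, based_map F, eqToHom_map] at this
        rw [← cancel_epi (eqToHom (F.w_obj z)), ← cancel_mono (eqToHom (F.w_obj x').symm)]
        simp only [Category.assoc] at this ⊢
        rw [this]
        simp)
      (fun z' z g ν h h' => tn z' z g ν (hRS z ν h) (hRS z' (g ≫ ν) h'))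
    have hχF : F.map χ = eqToHom (hx.trans hx'.symm) := by
      have ex : 𝒴.p.obj (F.obj x) = 𝒴.p.obj y := congrArg 𝒴.p.obj hx
      have ex' : 𝒴.p.obj (F.obj x') = 𝒴.p.obj y := congrArg 𝒴.p.obj hx'
      refine (yH (F.obj x) (F.obj x') ex ex' (fun z ν _ => ν ≫ eqToHom (hx.trans hx'.symm))
        (fun z ν _ => by rw [𝒴.p.map_comp, eqToHom_map]) (fun z' z g ν _ _ => Category.assoc _ _ _)).unique
        ⟨by rw [based_map F, hχ]; simp, fun z ν' h => ?_⟩ ⟨eqToHom_map _ _, fun _ _ _ => rfl⟩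
      obtain ⟨w, ν, e, hν⟩ := fibGrpd_lift hF x ν'
      have hR : R.arrows (𝒳.p.map ν ≫ eqToHom eb) := by
        rw [based_map_back F, hν]
        simpa [eqToHom_map] using R.downward_closed h (eqToHom ((F.w_obj w).symm.trans (congrArg 𝒴.p.obj e)))
      have h2 : F.map (ν ≫ χ) = F.map ν ≫ eqToHom (hx.trans hx'.symm) := by
        rw [hspec w ν hR]; exact ht w ν (hRS w ν hR)
      rw [F.toFunctor.map_comp, hν] at h2
      exact (cancel_epi (eqToHom e)).1 (by simpa using h2)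
    refine ⟨χ, ⟨hχF, fun z ν h => ?_⟩, fun χ' ⟨hb, hs⟩ => hu χ' ⟨?_, fun z ν h => hs z ν (hRS z ν h)⟩⟩
    · refine hspec z ν ?_
      have : R.arrows (𝒴.p.map (F.map ν ≫ eqToHom hx)) := Presieve.image_mem_functorPushforward _ _ h
      simpa [based_map F, eqToHom_map] using R.downward_closed this (eqToHom (F.w_obj z).symm)
    · change F.map χ' = _ at hb
      rw [based_map_back F, hb, eqToHom_map]
      simp
  · intro D
    have hlift : ∀ a : (Stk.sieveCat R).obj, ∃ (z : 𝒴.obj) (φ : z ⟶ y) (e : 𝒴.p.obj z = a.obj.left),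
        𝒴.p.map φ = eqToHom e ≫ a.obj.hom := fun a => fibGrpd_lift h𝒴.1 y a.obj.hom
    choose z φ e hφ using hlift
    have hS : ∀ a, S.arrows (φ a) := fun a => by
      rw [← push_mem_iff h𝒴.1 S, hφ]
      exact R.downward_closed a.property _
    choose m hm hmu using fun (a b : (Stk.sieveCat R).obj) (g : a ⟶ b) => fibGrpd_fac h𝒴.1 (φ b) (φ a)
      (eqToHom (e a) ≫ g.hom.left ≫ eqToHom (e b).symm) (by rw [hφ, hφ, ← Over.w g.hom]; simp)
    let E : (Stk.sieveCat R).obj ⥤ (Stk.sieveCat S).obj :=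
      { obj := fun a => ⟨Over.mk (φ a), hS a⟩
        map := fun {a b} g => ObjectProperty.homMk (Over.homMk (m a b g) (hm a b g).2)
        map_id := fun a => ObjectProperty.hom_ext _ (Over.OverMorphism.ext (hmu a a (𝟙 a) _ ⟨by
          rw [show (𝟙 a : a ⟶ a).hom.left = 𝟙 a.obj.left from rfl]; simp, Category.id_comp _⟩).symm)
        map_comp := fun {a b c} g g' => ObjectProperty.hom_ext _ (Over.OverMorphism.ext (hmu a c (g ≫ g') _ ⟨by
          rw [show (g ≫ g').hom.left = g.hom.left ≫ g'.hom.left from rfl]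
          show 𝒴.p.map (m a b g ≫ m b c g') = _
          simp [(hm a b g).1, (hm b c g').1], by
          show (m a b g ≫ m b c g') ≫ φ c = φ a
          rw [Category.assoc, (hm b c g').2, (hm a b g).2]⟩).symm) }
    have hz : ∀ a, F.obj (D.obj (E.obj a)) = z a := fun a => D.w_obj (E.obj a)
    have hDm : ∀ (b b' : (Stk.sieveCat S).obj) (g : b ⟶ b'),
        F.map (D.map g) = eqToHom (D.w_obj b) ≫ g.hom.left ≫ eqToHom (D.w_obj b').symm := fun b b' g => based_map D g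
    let D' : Stk.sieveCat R ⥤ᵇ 𝒳 :=
      { toFunctor := E ⋙ D.toFunctor
        w := CategoryTheory.Functor.ext
          (fun a => ((F.w_obj _).symm.trans (congrArg 𝒴.p.obj (hz a))).trans (e a))
          (fun a b g => by
            show 𝒳.p.map (D.map (E.map g)) = _
            rw [based_map_back F, hDm]
            simp only [𝒴.p.map_comp, eqToHom_map]
            rw [show (E.map g).hom.left = m a b g from rfl, (hm a b g).1]
            simp [E]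
            rfl) }
    obtain ⟨x', ex', ν', hν', hνn⟩ := xO D'
    let P := sieveProj (𝒳 := 𝒴) (rfl : 𝒴.p.obj y = 𝒴.p.obj y) S R
      (fun z φ h => by simpa [R] using Presieve.image_mem_functorPushforward 𝒴.p S.arrows h)
    choose ι hι hιu using fun (b : (Stk.sieveCat S).obj) => fibGrpd_fac h𝒴.1 (φ (P.obj b)) b.obj.hom
      (eqToHom (e (P.obj b)).symm) (by rw [hφ]; simp [P, sieveProj])
    let ι' : ∀ b, b ⟶ E.obj (P.obj b) := fun b => ObjectProperty.homMk (Over.homMk (ι b) (hι b).2)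
    have ιnat : ∀ b b' (g : b ⟶ b'), g ≫ ι' b' = ι' b ≫ E.map (P.map g) := fun b b' g => by
      refine ObjectProperty.hom_ext _ (Over.OverMorphism.ext (fibGrpd_ext h𝒴.1 (φ (P.obj b')) ?_ ?_))
      · show 𝒴.p.map (g.hom.left ≫ ι b') = 𝒴.p.map (ι b ≫ m _ _ (P.map g))
        rw [𝒴.p.map_comp, 𝒴.p.map_comp, (hι b).1, (hι b').1, (hm _ _ (P.map g)).1]
        simp [P, sieveProj]
      · show (g.hom.left ≫ ι b') ≫ φ _ = (ι b ≫ m _ _ (P.map g)) ≫ φ _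
        rw [Category.assoc, (hι b').2, Category.assoc, (hm _ _ _).2, (hι b).2]
        exact Over.w g.hom
    let ν₁ : ∀ b, D.obj b ⟶ x' := fun b => D.map (ι' b) ≫ ν' (P.obj b)
    have hν₁n : ∀ b b' (g : b ⟶ b'), D.map g ≫ ν₁ b' = ν₁ b := fun b b' g => by
      show D.map g ≫ D.map (ι' b') ≫ _ = D.map (ι' b) ≫ _
      rw [← D.toFunctor.map_comp_assoc, ιnat, D.toFunctor.map_comp_assoc]
      exact congrArg _ (hνn _ _ (P.map g))
    -- the image of the glued object is `y`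
    have ey : 𝒴.p.obj (F.obj x') = 𝒴.p.obj y := (F.w_obj x').trans ex'
    let bd : ∀ w (μ : w ⟶ y), R.arrows (𝒴.p.map μ ≫ eqToHom rfl) → (Stk.sieveCat S).obj := fun w μ h =>
      ⟨Over.mk μ, (push_mem_iff h𝒴.1 S μ).1 (by simpa [R] using h)⟩
    have hbase : ∀ b, 𝒴.p.map (F.map (ν₁ b)) =
        𝒴.p.map (eqToHom (D.w_obj b)) ≫ 𝒴.p.map b.obj.hom ≫ eqToHom ey.symm := fun b => by
      rw [show F.map (ν₁ b) = F.map (D.map (ι' b)) ≫ F.map (ν' (P.obj b)) from F.toFunctor.map_comp _ _, hDm]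
      simp only [𝒴.p.map_comp, eqToHom_map]
      rw [show (ι' b).hom.left = ι b from rfl, (hι b).1, based_map F, hν' (P.obj b)]
      simp [P, sieveProj, Presieve.diagram]
    obtain ⟨χ, ⟨hχ, hχs⟩, -⟩ := yH y (F.obj x') rfl ey
      (fun w μ h => eqToHom (D.w_obj (bd w μ h)).symm ≫ F.map (ν₁ (bd w μ h)))
      (fun w μ h => by rw [𝒴.p.map_comp, hbase]; simp [bd, eqToHom_map])
      (fun w' w g μ h h' => by
        let gm : bd w' (g ≫ μ) h' ⟶ bd w μ h := ObjectProperty.homMk (Over.homMk g rfl)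
        show eqToHom _ ≫ F.map (ν₁ (bd w' (g ≫ μ) h')) = _
        rw [← hν₁n _ _ gm, F.toFunctor.map_comp, hDm]
        simp [gm, bd])
    obtain ⟨x, ψ, ex, hψ⟩ := fibGrpd_lift hF x' χ
    choose ν hν _ using fun b => fibGrpd_fac hF ψ (ν₁ b) (eqToHom (D.w_obj b) ≫ b.obj.hom ≫ eqToHom ex.symm) (by
      rw [hψ]
      simp only [Category.assoc, eqToHom_trans_assoc, eqToHom_refl, Category.id_comp]
      have hb : R.arrows (𝒴.p.map b.obj.hom ≫ eqToHom rfl) := by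
        simpa [R] using Presieve.image_mem_functorPushforward 𝒴.p S.arrows b.property
      rw [hχs _ b.obj.hom hb, eqToHom_trans_assoc]
      exact Category.id_comp _)
    refine ⟨x, ex, ν, fun b => (hν b).1, fun b b' g => fibGrpd_ext hF ψ ?_ ?_⟩
    · rw [F.toFunctor.map_comp, hDm, (hν b').1, (hν b).1, ← Over.w g.hom]
      simp
    · rw [Category.assoc, (hν b').2, hν₁n, (hν b).2]

end Groth.Agent.Stk19
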