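import Groth.Agent.Stk19.RelGlue

/-! A stack over the restricted site of a stack is a stack over the base. -/

set_option autoImplicit false
set_option backward.isDefEq.respectTransparency false
set_option backward.isDefEq.respectTransparency.types false

universe w v₄ u₄ v₃ u₃ v₂ u₂ v u

open CategoryTheory FibCat Groth.Agent.Desc19

namespace Groth.Agent.Stk19

variable {C : Type u} [Category.{v} C]

theorem isStack_comp (J : GrothendieckTopology C) {𝒳 : BasedCategory.{v₂, u₂} C}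
    (h𝒳 : Stk.IsStack J 𝒳) (𝒴 : BasedCategory.{v₃, u₃} 𝒳.obj) (h𝒴 : Stk.IsStack (𝒳.p.restrictedTopology J) 𝒴) :
    Stk.IsStack J (BasedCategory.ofFunctor (𝒴.p ⋙ 𝒳.p)) := by
  let W : BasedCategory.{v₃, u₃} C := BasedCategory.ofFunctor (𝒴.p ⋙ 𝒳.p)
  let G : W ⥤ᵇ 𝒳 := ⟨𝒴.p, rfl⟩
  have hG : ∀ {a b : W.obj} (f : a ⟶ b), G.map f = 𝒴.p.map f := fun f => rfl
  have hW : IsFibGrpd W.p := fibGrpd_comp h𝒴.1 h𝒳.1
  refine ⟨hW, fun U R hR => isStackFor_of_rel hW h𝒳.1 G (h𝒳.2 R hR) ?_ ?_⟩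
  · intro x y hx hy χ₀ hχ₀ t ht tn hFt
    let S : Sieve (G.obj x) := (R.pullback (eqToHom ((G.w_obj x).trans hx))).functorPullback 𝒳.p
    have hS : S ∈ 𝒳.p.restrictedTopology J (G.obj x) := by
      rw [mem_restricted_iff h𝒳.1, sieve_push_pullback h𝒳.1]
      exact J.pullback_stable _ hR
    obtain ⟨sH, -⟩ := (isStackFor_iff_glue h𝒴.1 S).1 (h𝒴.2 S hS)
    obtain ⟨y', φ, e', hφ⟩ := fibGrpd_lift h𝒴.1 y χ₀
    have hR' : ∀ z (ν : z ⟶ x), S.arrows (𝒴.p.map ν ≫ eqToHom rfl) → R.arrows (W.p.map ν ≫ eqToHom hx) :=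
      fun z ν h => by
        show R.arrows (𝒳.p.map (𝒴.p.map ν) ≫ eqToHom hx)
        simpa [S, eqToHom_map] using h
    choose t' ht' htu using fun (z : W.obj) (ν : z ⟶ x) (h : S.arrows (𝒴.p.map ν ≫ eqToHom rfl)) =>
      fibGrpd_fac h𝒴.1 φ (t z ν (hR' z ν h)) (𝒴.p.map ν ≫ eqToHom e'.symm) (by
        rw [hφ, ← hG, hFt]; simp [hG])
    obtain ⟨χ', ⟨hχ', hs'⟩, hu'⟩ := sH x y' rfl e' t' (fun z ν h => (ht' z ν h).1) (fun z' z g ν h h' => by
      refine fibGrpd_ext h𝒴.1 φ ?_ ?_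
      · rw [(ht' _ _ h').1, 𝒴.p.map_comp, 𝒴.p.map_comp, (ht' _ _ h).1, Category.assoc]
      · rw [(ht' _ _ h').2]
        erw [Category.assoc, (ht' _ _ h).2]
        exact tn z' z g ν (hR' _ _ h) (hR' _ _ h'))
    refine ⟨χ' ≫ φ, ⟨?_, fun z ν h => ?_⟩, ?_⟩
    · show 𝒴.p.map (χ' ≫ φ) = χ₀
      simp [hχ', hφ]
    · change R.arrows (𝒳.p.map (𝒴.p.map ν) ≫ eqToHom hx) at h
      have h' : S.arrows (𝒴.p.map ν ≫ eqToHom rfl) := by simpa [S, eqToHom_map] using h
      erw [← Category.assoc, hs' z ν h', (ht' z ν h').2]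
    · rintro χ ⟨hχF, hχs⟩
      obtain ⟨χ'', ⟨h1, h2⟩, -⟩ := fibGrpd_fac h𝒴.1 φ χ (eqToHom e'.symm) (by
        rw [hφ, show 𝒴.p.map χ = χ₀ from hχF]; simp)
      rw [← h2, hu' χ'' ⟨h1, fun z ν h => htu z ν h _ ⟨by simp [h1], by
        rw [Category.assoc, h2]; exact hχs z ν (hR' z ν h)⟩⟩]
  · intro D u hu μ hμ hμn
    let S : Sieve u := (R.pullback (eqToHom hu)).functorPullback 𝒳.p
    have hS : S ∈ 𝒳.p.restrictedTopology J u := by
      rw [mem_restricted_iff h𝒳.1, sieve_push_pullback h𝒳.1]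
      exact J.pullback_stable _ hR
    obtain ⟨-, sO⟩ := (isStackFor_iff_glue h𝒴.1 S).1 (h𝒴.2 S hS)
    have hp : ∀ {a b : (Stk.sieveCat R).obj} (f : a ⟶ b), (Stk.sieveCat R).p.map f = f.hom.left := fun f => rfl
    let P := sieveProj (𝒳 := 𝒳) hu S R (fun z φ h => h)
    choose θ hθ _ using fun (b : (Stk.sieveCat S).obj) => fibGrpd_fac h𝒳.1 (μ (P.obj b)) b.obj.hom
      (eqToHom ((G.w_obj _).trans (D.w_obj (P.obj b))).symm) (by rw [hμ]; simp [P, sieveProj])
    choose E ψ eE hψ using fun b => fibGrpd_lift h𝒴.1 (D.obj (P.obj b)) (θ b)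
    choose m hm hmu using fun (b b' : (Stk.sieveCat S).obj) (g : b ⟶ b') => fibGrpd_fac h𝒴.1 (ψ b')
      (ψ b ≫ D.map (P.map g)) (eqToHom (eE b) ≫ g.hom.left ≫ eqToHom (eE b').symm) (by
        rw [𝒴.p.map_comp, hψ, hψ]
        simp only [Category.assoc, eqToHom_trans_assoc, eqToHom_refl, Category.id_comp]
        refine congrArg _ (fibGrpd_ext h𝒳.1 (μ (P.obj b')) ?_ ?_)
        · rw [𝒳.p.map_comp, 𝒳.p.map_comp, (hθ b).1, (hθ b').1, ← hG, based_map G, based_map D]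
          simp [P, sieveProj]
          rfl
        · rw [Category.assoc, (hθ b').2, Category.assoc]
          erw [hμn _ _ (P.map g)]
          rw [(hθ b).2]
          exact Over.w g.hom)
    let D' : Stk.sieveCat S ⥤ᵇ 𝒴 :=
      { toFunctor :=
          { obj := E
            map := fun {b b'} g => m b b' g
            map_id := fun b => (hmu b b (𝟙 b) _ ⟨by
              rw [show (𝟙 b : b ⟶ b).hom.left = 𝟙 b.obj.left from rfl]; simp, by
              rw [P.map_id, D.toFunctor.map_id]; simp⟩).symm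
            map_comp := fun {a b c} g g' => (hmu a c (g ≫ g') _ ⟨by
              rw [show (g ≫ g').hom.left = g.hom.left ≫ g'.hom.left from rfl]
              simp [(hm a b g).1, (hm b c g').1], by
              rw [Category.assoc, (hm b c g').2, ← Category.assoc, (hm a b g).2, P.map_comp, D.toFunctor.map_comp,
                Category.assoc]⟩).symm }
        w := CategoryTheory.Functor.ext eE (fun b b' g => (hm b b' g).1) }
    obtain ⟨x, hx, ν', hν', hνn⟩ := sO D'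
    have hθi : ∀ b, IsIso (θ b) := fun b => by
      have : IsIso (𝒳.p.map (θ b)) := by rw [(hθ b).1]; infer_instance
      exact fibGrpd_isIso h𝒳.1 _
    have hψi : ∀ b, IsIso (ψ b) := fun b => by
      have := hθi b
      have : IsIso (𝒴.p.map (ψ b)) := by rw [hψ]; infer_instance
      exact fibGrpd_isIso h𝒴.1 _
    let bd : (Stk.sieveCat R).obj → (Stk.sieveCat S).obj := fun a => ⟨Over.mk (μ a), by
      show R.arrows (𝒳.p.map (μ a) ≫ eqToHom hu)
      rw [hμ]
      simpa using R.downward_closed a.property (eqToHom ((G.w_obj (D.obj a)).trans (D.w_obj a)))⟩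
    let κ : ∀ a, a ⟶ P.obj (bd a) := fun a => ObjectProperty.homMk (Over.homMk
      (eqToHom ((G.w_obj _).trans (D.w_obj a)).symm) (by simp [P, sieveProj, bd, hμ]))
    let ν : ∀ a, D.obj a ⟶ x := fun a =>
      D.map (κ a) ≫ (@inv _ _ _ _ (ψ (bd a)) (hψi _) ≫ ν' (bd a) : _)
    refine ⟨x, (congrArg 𝒳.p.obj hx).trans hu, ν, fun a => ?_, fun a b φ => ?_⟩
    · show 𝒳.p.map (𝒴.p.map (ν a)) = _
      have := hψi (bd a)
      have e1 : 𝒳.p.map (𝒴.p.map (inv (ψ (bd a)))) =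
          eqToHom ((congrArg 𝒳.p.obj (eE (bd a))).trans ((G.w_obj _).trans (D.w_obj (P.obj (bd a)))).symm).symm := by
        rw [𝒴.p.map_inv, 𝒳.p.map_inv, IsIso.inv_eq_of_hom_inv_id]
        rw [hψ, 𝒳.p.map_comp, eqToHom_map, (hθ (bd a)).1]
        simp
      simp only [ν, 𝒴.p.map_comp, 𝒳.p.map_comp, e1, hν']
      rw [show 𝒳.p.map (𝒴.p.map (D.map (κ a))) = _ from based_map D (κ a), show 𝒳.p.map (bd a).obj.hom = _ from hμ a]
      simp [κ, hp, eqToHom_map]
    · let ĝ : bd a ⟶ bd b := ObjectProperty.homMk (Over.homMk (G.map (D.map φ)) (hμn a b φ))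
      have eκ : φ ≫ κ b = κ a ≫ P.map ĝ := ObjectProperty.hom_ext _ (Over.OverMorphism.ext (by
        show φ.hom.left ≫ (κ b).hom.left = (κ a).hom.left ≫ 𝒳.p.map (G.map (D.map φ))
        simp only [κ, ObjectProperty.homMk_hom, Over.homMk_left]
        rw [based_map G, based_map D, hp]
        simp))
      have := hψi (bd a)
      have := hψi (bd b)
      simp only [ν]
      erw [← Category.assoc, ← D.toFunctor.map_comp, eκ, D.toFunctor.map_comp, Category.assoc]
      refine congrArg _ ?_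
      rw [← hνn _ _ ĝ, ← Category.assoc, ← Category.assoc]
      refine congrArg (· ≫ ν' (bd b)) ?_
      rw [IsIso.eq_inv_comp, ← Category.assoc, IsIso.comp_inv_eq]
      exact (hm _ _ ĝ).2.symm

end Groth.Agent.Stk19
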