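import Groth.Agent.Stk19.RelGlue

/-! Stacky base changes of a faithful functor; enlarging a sieve of effective descent. -/

set_option autoImplicit false
set_option backward.isDefEq.respectTransparency false
set_option backward.isDefEq.respectTransparency.types false

universe v₄ u₄ v₃ u₃ v₂ u₂ v u

open CategoryTheory FibCat Groth.Agent.Desc19

namespace Groth.Agent.Stk19

variable {C : Type u} [Category.{v} C]

theorem homGlue_diff {𝒳 : BasedCategory.{v₂, u₂} C} (h : IsFibGrpd 𝒳.p) {U V : C} {S : Sieve V}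
    (hS : HomGlue 𝒳 S) {z y : 𝒳.obj} (hz : 𝒳.p.obj z = V) (hy : 𝒳.p.obj y = U) (f : V ⟶ U) {a b : z ⟶ y}
    (ha : 𝒳.p.map a = eqToHom hz ≫ f ≫ eqToHom hy.symm) (hb : 𝒳.p.map b = eqToHom hz ≫ f ≫ eqToHom hy.symm)
    (hab : ∀ (w : 𝒳.obj) (g : w ⟶ z), S.arrows (𝒳.p.map g ≫ eqToHom hz) → g ≫ a = g ≫ b) : a = b := by
  obtain ⟨y', φ, e, hφ⟩ := fibGrpd_lift h y (f ≫ eqToHom hy.symm)
  obtain ⟨a', ⟨ha1, ha2⟩, -⟩ := fibGrpd_fac h φ a (eqToHom (hz.trans e.symm)) (by rw [hφ, ha]; simp)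
  obtain ⟨b', ⟨hb1, hb2⟩, -⟩ := fibGrpd_fac h φ b (eqToHom (hz.trans e.symm)) (by rw [hφ, hb]; simp)
  have key := (hS z y' hz e (fun w g _ => g ≫ a') (fun w g _ => by rw [𝒳.p.map_comp, ha1])
    (fun _ _ _ _ _ _ => Category.assoc _ _ _)).unique ⟨ha1, fun _ _ _ => rfl⟩
    (y₂ := b') ⟨hb1, fun w g hg => fibGrpd_ext h φ (by rw [𝒳.p.map_comp, 𝒳.p.map_comp, ha1, hb1])
      (by rw [Category.assoc, Category.assoc, hb2, ha2, hab w g hg])⟩
  rw [← ha2, ← hb2, key]

theorem isStackFor_of_le {𝒳 : BasedCategory.{v₂, u₂} C} (h : IsFibGrpd 𝒳.p) {U : C} {S R : Sieve U} (hSR : S ≤ R)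
    (hS : Stk.IsStackFor S 𝒳) (hR : ∀ ⦃V : C⦄ (f : V ⟶ U), R f → Stk.IsPrestackFor (S.pullback f) 𝒳) :
    Stk.IsStackFor R 𝒳 := by
  obtain ⟨sH, sO⟩ := (isStackFor_iff_glue h S).1 hS
  have hp : ∀ {a b : (Stk.sieveCat R).obj} (f : a ⟶ b), (Stk.sieveCat R).p.map f = f.hom.left := fun f => rfl
  refine (isStackFor_iff_glue h R).2 ⟨fun x y hx hy t ht tn => ?_, fun D => ?_⟩
  · obtain ⟨χ, ⟨hχ, hs⟩, hu⟩ := sH x y hx hy (fun z ν hν => t z ν (hSR _ hν)) (fun z ν _ => ht z ν _)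
      (fun z' z g ν _ _ => tn z' z g ν _ _)
    refine ⟨χ, ⟨hχ, fun z ν hν => ?_⟩, fun χ' ⟨h1, h2⟩ => hu χ' ⟨h1, fun z ν hν => h2 z ν (hSR _ hν)⟩⟩
    refine homGlue_diff h (isPrestackFor_homGlue h (hR _ hν)) rfl hy (𝒳.p.map ν ≫ eqToHom hx)
      (by rw [𝒳.p.map_comp, hχ]; simp) (by rw [ht]; simp) fun w g hg => ?_
    have hgS : S.arrows (𝒳.p.map (g ≫ ν) ≫ eqToHom hx) := by simpa using hg
    rw [← Category.assoc, hs w (g ≫ ν) hgS, tn w z g ν hν]
  · let I : (Stk.sieveCat S).obj ⥤ (Stk.sieveCat R).obj := ObjectProperty.ιOfLE fun a ha => hSR _ ha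
    let D₀ : Stk.sieveCat S ⥤ᵇ 𝒳 :=
      { toFunctor := I ⋙ D.toFunctor
        w := CategoryTheory.Functor.ext (fun c => D.w_obj (I.obj c)) (fun c c' g => based_map D (I.map g)) }
    obtain ⟨x, hx, ν, hν, hνn⟩ := sO D₀
    have key : ∀ a : (Stk.sieveCat R).obj, ∃ n : D.obj a ⟶ x,
        𝒳.p.map n = eqToHom (D.w_obj a) ≫ a.obj.hom ≫ eqToHom hx.symm ∧
        ∀ (c : (Stk.sieveCat S).obj) (ψ : I.obj c ⟶ a), D.map ψ ≫ n = ν c := by
      intro a
      obtain ⟨y', φ', e', hφ'⟩ := fibGrpd_lift h x (a.obj.hom ≫ eqToHom hx.symm)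
      have hP := isPrestackFor_homGlue h (hR a.obj.hom a.property)
      let bg : ∀ w (g : w ⟶ D.obj a), (S.pullback a.obj.hom).arrows (𝒳.p.map g ≫ eqToHom (D.w_obj a)) →
          (Stk.sieveCat S).obj := fun w g hg =>
        ⟨Over.mk ((𝒳.p.map g ≫ eqToHom (D.w_obj a)) ≫ a.obj.hom), hg⟩
      let φg : ∀ w g hg, I.obj (bg w g hg) ⟶ a := fun w g hg =>
        ObjectProperty.homMk (Over.homMk (𝒳.p.map g ≫ eqToHom (D.w_obj a)) rfl)
      choose ι hι hιu using fun w g hg => fibGrpd_fac h (D.map (φg w g hg)) g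
        (eqToHom (D.w_obj (I.obj (bg w g hg))).symm : 𝒳.p.obj w ⟶ _) (by
          rw [based_map D, hp]; simp [φg, bg, I])
      have ιν : ∀ w g hg, 𝒳.p.map (ι w g hg ≫ ν (bg w g hg)) =
          𝒳.p.map g ≫ eqToHom (D.w_obj a) ≫ a.obj.hom ≫ eqToHom hx.symm := fun w g hg => by
        rw [𝒳.p.map_comp, (hι w g hg).1, hν]
        simp [bg, I, D₀]
      choose t ht htu using fun w g hg => fibGrpd_fac h φ' (ι w g hg ≫ ν (bg w g hg))
        (𝒳.p.map g ≫ eqToHom ((D.w_obj a).trans e'.symm)) (by rw [hφ', ιν]; simp)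
      have claim : ∀ (c : (Stk.sieveCat S).obj) (ψ : I.obj c ⟶ a)
          (hg : (S.pullback a.obj.hom).arrows (𝒳.p.map (D.map ψ) ≫ eqToHom (D.w_obj a))),
          ι _ (D.map ψ) hg ≫ ν (bg _ (D.map ψ) hg) = ν c := by
        intro c ψ hg
        let κ : c ⟶ bg _ (D.map ψ) hg := ObjectProperty.homMk (Over.homMk (eqToHom (D.w_obj (I.obj c)).symm) (by
          show eqToHom (D.w_obj (I.obj c)).symm ≫ (𝒳.p.map (D.map ψ) ≫ eqToHom (D.w_obj a)) ≫ a.obj.hom = c.obj.hom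
          rw [based_map D, hp]
          simpa [I] using Over.w ψ.hom))
        have e : D.map (I.map κ) = ι _ (D.map ψ) hg := by
          refine hιu _ _ _ _ ⟨by rw [based_map D, hp]; simp [κ, I], ?_⟩
          rw [← D.toFunctor.map_comp]
          refine congrArg D.map (ObjectProperty.hom_ext _ (Over.OverMorphism.ext ?_))
          show eqToHom (D.w_obj (I.obj c)).symm ≫ (𝒳.p.map (D.map ψ) ≫ eqToHom (D.w_obj a)) = ψ.hom.left
          rw [based_map D, hp]
          simp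
        rw [← e]
        exact hνn c _ κ
      obtain ⟨χ, ⟨hχ, hs⟩, hu⟩ := hP (D.obj a) y' (D.w_obj a) e' t (fun w g hg => (ht w g hg).1) (fun w' w g' g hg hg' => by
        refine fibGrpd_ext h φ' ?_ ?_
        · rw [𝒳.p.map_comp, (ht _ _ _).1, (ht _ _ _).1]; simp
        · rw [(ht _ _ _).2, Category.assoc, (ht _ _ _).2]
          let gm : bg w' (g' ≫ g) hg' ⟶ bg w g hg := ObjectProperty.homMk (Over.homMk (𝒳.p.map g') (by simp [bg]))
          have e : g' ≫ ι w g hg = ι w' (g' ≫ g) hg' ≫ D.map (I.map gm) := by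
            refine fibGrpd_ext h (D.map (φg w g hg)) ?_ ?_
            · rw [𝒳.p.map_comp, 𝒳.p.map_comp, (hι _ _ _).1, (hι _ _ _).1, based_map D, hp]; simp [gm, I, bg]
            · rw [Category.assoc, (hι w g hg).2, Category.assoc, ← D.toFunctor.map_comp,
                show I.map gm ≫ φg w g hg = φg w' (g' ≫ g) hg' from
                  ObjectProperty.hom_ext _ (Over.OverMorphism.ext (by
                    show 𝒳.p.map g' ≫ 𝒳.p.map g ≫ _ = 𝒳.p.map (g' ≫ g) ≫ _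
                    simp))]
              exact ((hι w' (g' ≫ g) hg').2).symm
          rw [reassoc_of% e]
          exact congrArg _ (hνn _ _ gm).symm)
      refine ⟨χ ≫ φ', by rw [𝒳.p.map_comp, hχ, hφ']; simp, fun c ψ => ?_⟩
      have hg : (S.pullback a.obj.hom).arrows (𝒳.p.map (D.map ψ) ≫ eqToHom (D.w_obj a)) := by
        show S.arrows ((𝒳.p.map (D.map ψ) ≫ eqToHom (D.w_obj a)) ≫ a.obj.hom)
        rw [based_map D, hp]
        simp only [Category.assoc, eqToHom_trans_assoc, eqToHom_refl, Category.id_comp, eqToHom_trans, Category.comp_id]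
        rw [Over.w ψ.hom]
        exact S.downward_closed c.property _
      rw [← Category.assoc, hs _ _ hg, (ht _ _ hg).2, claim c ψ hg]
    choose n hn hnψ using key
    refine ⟨x, hx, n, hn, fun a b φ => ?_⟩
    refine homGlue_diff h (isPrestackFor_homGlue h (hR a.obj.hom a.property)) (D.w_obj a) hx a.obj.hom
      (by rw [𝒳.p.map_comp, based_map D, hn, hp]; simp [reassoc_of% Over.w φ.hom]) (hn a) fun w g hg => ?_
    let c : (Stk.sieveCat S).obj := ⟨Over.mk ((𝒳.p.map g ≫ eqToHom (D.w_obj a)) ≫ a.obj.hom), hg⟩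
    let ψ : I.obj c ⟶ a := ObjectProperty.homMk (Over.homMk (𝒳.p.map g ≫ eqToHom (D.w_obj a)) rfl)
    obtain ⟨ι, ⟨-, hι⟩, -⟩ := fibGrpd_fac h (D.map ψ) g (eqToHom (D.w_obj (I.obj c)).symm : 𝒳.p.obj w ⟶ _) (by
      rw [based_map D, hp]; simp [ψ, c, I])
    rw [← hι, Category.assoc, Category.assoc, ← D.toFunctor.map_comp_assoc, hnψ b c (ψ ≫ φ), hnψ a c ψ]

theorem isStack_of_faithful {𝒮 : BasedCategory.{v₂, u₂} C} {𝒯 : BasedCategory.{v₃, u₃} C} (J : GrothendieckTopology C)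
    (h𝒮 : IsFibGrpd 𝒮.p) (h𝒯 : Stk.IsStack J 𝒯) (F : 𝒮 ⥤ᵇ 𝒯) [F.toFunctor.Faithful]
    (h3 : ∀ (U : C) (y : FibCat.overCat U ⥤ᵇ 𝒯),
      Stk.IsStack (J.over U) (BasedCategory.ofFunctor ((fpFst y F).toFunctor : (fp y F).obj ⥤ Over U))) :
    Stk.IsStack J 𝒮 := by
  refine ⟨h𝒮, fun U R hR => isStackFor_of_rel h𝒮 h𝒯.1 F (h𝒯.2 R hR) ?_ ?_⟩
  · intro x y hx hy χ₀ hχ₀ t ht tn hFt
    obtain ⟨G, i, hi⟩ := exists_classifying h𝒯.1 (F.obj x) ((F.w_obj x).trans hx)
    have him : 𝒯.p.map i.hom = eqToHom ((G.w_obj (Over.mk (𝟙 U))).trans ((F.w_obj x).trans hx).symm) :=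
      map_eq_of_vert 𝒯.p (R := U) i.hom
    have : IsIso (𝒯.p.map χ₀) := by rw [hχ₀]; infer_instance
    have : IsIso χ₀ := fibGrpd_isIso h𝒯.1 _
    let o₁ : (fp G F).obj := fpMk (Over.mk (𝟙 U)) x i (vert_change _ _ hi (G.w_obj _))
    let o₂ : (fp G F).obj := fpMk (Over.mk (𝟙 U)) y (i ≪≫ asIso χ₀)
      ((vert_iff _ _).2 ⟨G.w_obj _, (G.w_obj (Over.mk (𝟙 U))).trans (((F.w_obj y).trans hy).symm),
        by simp [him, hχ₀]⟩)
    let 𝒲 : BasedCategory (Over U) := BasedCategory.ofFunctor ((fpFst G F).toFunctor : (fp G F).obj ⥤ Over U)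
    let S : Sieve (Over.mk (𝟙 U) : Over U) := Sieve.functorPullback (Over.forget U) (X := (Over.mk (𝟙 U) : Over U)) R
    have hS : S ∈ J.over U (Over.mk (𝟙 U)) := J.overEquiv_symm_mem_over (Over.mk (𝟙 U) : Over U) R hR
    obtain ⟨wH, -⟩ := (isStackFor_iff_glue (h3 U G).1 S).1 ((h3 U G).2 S hS)
    have hR' : ∀ (o : (fp G F).obj) (ν : o ⟶ o₁), S.arrows (ν.hom.fst ≫ eqToHom rfl) →
        R.arrows (𝒮.p.map ν.hom.snd ≫ eqToHom hx) := fun o ν hν => by
      rw [fp_map_snd ν]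
      have : R.arrows ν.hom.fst.left := by simpa [S] using hν
      simpa [o₁, fpMk] using R.downward_closed this (eqToHom (fp_base_eq o))
    let t' : ∀ (o : 𝒲.obj) (ν : o ⟶ o₁), S.arrows (ν.hom.fst ≫ eqToHom rfl) → (o ⟶ o₂) := fun o ν hν =>
      fpHom ν.hom.fst (t _ ν.hom.snd (hR' o ν hν)) (by
        show G.map ν.hom.fst ≫ i.hom ≫ χ₀ = _
        rw [hFt]
        have := ν.hom.w
        simp only [o₁, fpMk] at this
        rw [reassoc_of% this])
    obtain ⟨χ, ⟨hχ, hs⟩, -⟩ := wH o₁ o₂ rfl rfl t' (fun o ν hν => (Category.comp_id _).symm)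
      (fun o' o g ν hν hν' => fp_hom_ext rfl (tn _ _ g.hom.snd ν.hom.snd _ _))
    have hFχ : F.map χ.hom.snd = χ₀ := by
      have hχ1 : χ.hom.fst = 𝟙 _ := hχ.trans (eqToHom_refl _ _)
      have := χ.hom.w
      simp only [o₁, o₂, fpMk] at this
      erw [hχ1, G.toFunctor.map_id, Category.id_comp] at this
      exact (cancel_epi i.hom).1 this.symm
    refine ⟨χ.hom.snd, ⟨hFχ, fun z ν hν => F.toFunctor.map_injective ?_⟩,
      fun χ' ⟨h', _⟩ => F.toFunctor.map_injective (h'.trans hFχ.symm)⟩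
    rw [F.toFunctor.map_comp, hFχ, hFt]
  · intro D u hu μ hμ hμn
    obtain ⟨G, i, hi⟩ := exists_classifying h𝒯.1 u hu
    have him : 𝒯.p.map i.hom = eqToHom ((G.w_obj (Over.mk (𝟙 U))).trans hu.symm) :=
      map_eq_of_vert 𝒯.p (R := U) i.hom
    let S : Sieve (Over.mk (𝟙 U) : Over U) := Sieve.functorPullback (Over.forget U) (X := (Over.mk (𝟙 U) : Over U)) R
    have hS : S ∈ J.over U (Over.mk (𝟙 U)) := J.overEquiv_symm_mem_over (Over.mk (𝟙 U) : Over U) R hR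
    obtain ⟨-, wO⟩ := (isStackFor_iff_glue (h3 U G).1 S).1 ((h3 U G).2 S hS)
    have hp : ∀ {a b : (Stk.sieveCat R).obj} (f : a ⟶ b), (Stk.sieveCat R).p.map f = f.hom.left := fun f => rfl
    let P := sieveProj (𝒳 := overCat U) (y := Over.mk (𝟙 U)) (rfl : _ = U) S R (fun z φ h => by simpa [S] using h)
    choose ω hω _ using fun (b : (Stk.sieveCat S).obj) => fibGrpd_fac h𝒯.1 (μ (P.obj b)) (toTop G b.obj.left ≫ i.hom)
      (eqToHom ((G.w_obj b.obj.left).trans ((F.w_obj _).trans (D.w_obj (P.obj b))).symm)) (by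
        rw [hμ, 𝒯.p.map_comp, toTop_map, him]
        have := Over.w b.obj.hom
        simp only [Over.mk_hom] at this
        simp [P, sieveProj, ← this])
    have hωi : ∀ b, IsIso (ω b) := fun b => by
      have : IsIso (𝒯.p.map (ω b)) := by rw [(hω b).1]; infer_instance
      exact fibGrpd_isIso h𝒯.1 _
    let ob : (Stk.sieveCat S).obj → (fp G F).obj := fun b =>
      fpMk b.obj.left (D.obj (P.obj b)) (@asIso _ _ _ _ (ω b) (hωi b))
        ((vert_iff _ _).2 ⟨G.w_obj _, (G.w_obj b.obj.left).trans ((F.w_obj _).trans (D.w_obj (P.obj b))).symm, (hω b).1⟩)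
    let mb : ∀ {b b'} (g : b ⟶ b'), ob b ⟶ ob b' := fun {b b'} g => fpHom g.hom.left (D.map (P.map g)) (by
      show G.map g.hom.left ≫ ω b' = ω b ≫ F.map (D.map (P.map g))
      refine fibGrpd_ext h𝒯.1 (μ (P.obj b')) ?_ ?_
      · rw [𝒯.p.map_comp, 𝒯.p.map_comp, based_map G, (hω b).1, (hω b').1, based_map F, based_map D, hp]
        simp [P, sieveProj]
      · rw [Category.assoc, (hω b').2, Category.assoc, hμn, (hω b).2, ← Category.assoc, toTop_comp])
    let D' : Stk.sieveCat S ⥤ᵇ BasedCategory.ofFunctor ((fpFst G F).toFunctor : (fp G F).obj ⥤ Over U) :=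
      { toFunctor :=
          { obj := ob
            map := fun g => mb g
            map_id := fun b => fp_hom_ext rfl ((congrArg D.map (P.map_id b)).trans (D.toFunctor.map_id _))
            map_comp := fun g g' => fp_hom_ext rfl ((congrArg D.map (P.map_comp g g')).trans (D.toFunctor.map_comp _ _)) }
        w := CategoryTheory.Functor.ext (fun b => rfl) (fun b b' g => by simp [mb, fpFst]; rfl) }
    obtain ⟨o, ho, ν', hν', hνn'⟩ := wO D'
    have ho' : o.obj.fst = Over.mk (𝟙 U) := ho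
    have hx : 𝒮.p.obj o.obj.snd = U := (fp_base_eq o).trans (congrArg (fun a : Over U => a.left) ho')
    let bd : (Stk.sieveCat R).obj → (Stk.sieveCat S).obj := fun a =>
      ⟨Over.mk (toId a.obj), by simpa [S] using a.property⟩
    let κ : ∀ a, a ⟶ P.obj (bd a) := fun a => ObjectProperty.homMk (Over.homMk (𝟙 a.obj.left) (by simp [P, sieveProj, bd]))
    refine ⟨o.obj.snd, hx, fun a => D.map (κ a) ≫ (ν' (bd a)).hom.snd, fun a => ?_, fun a b φ => ?_⟩
    · have h1 : (ν' (bd a)).hom.fst.left = a.obj.hom ≫ eqToHom (congrArg (fun a : Over U => a.left) ho').symm := by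
        have := congrArg Over.Hom.left (hν' (bd a))
        change (ν' (bd a)).hom.fst.left = _ at this
        rw [this]
        simp [Over.eqToHom_left, bd]
      rw [𝒮.p.map_comp, based_map D, hp, fp_map_snd]
      simp [κ, h1, D', ob, fpMk]
      erw [Category.id_comp]
    · let ĝ : bd a ⟶ bd b := ObjectProperty.homMk (Over.homMk φ.hom (Over.OverMorphism.ext (Over.w φ.hom)))
      have e : φ ≫ κ b = κ a ≫ P.map ĝ := ObjectProperty.hom_ext _ (Over.OverMorphism.ext (by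
        show φ.hom.left ≫ 𝟙 _ = 𝟙 _ ≫ φ.hom.left
        simp))
      rw [← Category.assoc, ← D.toFunctor.map_comp, e, D.toFunctor.map_comp, Category.assoc]
      exact congrArg _ (congrArg (fun m : D'.obj (bd a) ⟶ o => m.hom.snd) (hνn' _ _ ĝ))

end Groth.Agent.Stk19
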