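import Groth.Agent.Stk19.Glue

/-! Locally essentially surjective functors in terms of slices; postcomposition and full faithfulness. -/

set_option autoImplicit false
set_option backward.isDefEq.respectTransparency false
set_option backward.isDefEq.respectTransparency.types false

universe v₄ u₄ v₃ u₃ v₂ u₂ v u

open CategoryTheory FibCat Groth.Agent.Desc19

namespace Groth.Agent.Stk19

variable {C : Type u} [Category.{v} C] {𝒳 : BasedCategory.{v₂, u₂} C} {𝒴 : BasedCategory.{v₃, u₃} C}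
  {𝒵 : BasedCategory.{v₄, u₄} C}

/-- Slices lift along `F` locally. -/
def IsCovering (J : GrothendieckTopology C) (F : 𝒳 ⥤ᵇ 𝒴) : Prop :=
  ∀ (U : C) (y : overCat U ⥤ᵇ 𝒴), ∃ R ∈ J U, ∀ ⦃V : C⦄ (h : V ⟶ U), R.arrows h →
    ∃ x : overCat V ⥤ᵇ 𝒳, Nonempty (BasedFunctor.comp x F ≅
      BasedFunctor.comp (⟨Over.map h, Over.mapForget_eq h⟩ : overCat V ⥤ᵇ overCat U) y)

theorem overMapB_comp_iso {A B D : C} (f : A ⟶ B) (g : B ⟶ D) :
    Nonempty (BasedFunctor.comp (overMapB f) (overMapB g) ≅ overMapB (f ≫ g)) :=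
  ⟨eqToIso (based_ext (Over.mapComp_eq f g).symm)⟩

theorem isCovering_comp (J : GrothendieckTopology C) {F : 𝒳 ⥤ᵇ 𝒴} {G : 𝒴 ⥤ᵇ 𝒵} (hF : IsCovering J F)
    (hG : IsCovering J G) : IsCovering J (BasedFunctor.comp F G) := by
  intro U y
  obtain ⟨R, hR, hx⟩ := hG U y
  choose x hx' using hx
  have hS : ∀ ⦃V : C⦄ (h : V ⟶ U) (hh : R h), ∃ S ∈ J V, ∀ ⦃W : C⦄ (g : W ⟶ V), S.arrows g →
      ∃ z : overCat W ⥤ᵇ 𝒳, Nonempty (BasedFunctor.comp z F ≅
        BasedFunctor.comp (⟨Over.map g, Over.mapForget_eq g⟩ : overCat W ⥤ᵇ overCat V) (x h hh)) :=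
    fun V h hh => hF V (x h hh)
  choose S hS1 hS2 using hS
  refine ⟨Sieve.bind R.arrows S, J.bind_covering hR (fun V h hh => hS1 h hh), ?_⟩
  rintro W k ⟨V, g, h, hh, hg, rfl⟩
  obtain ⟨z, ⟨i⟩⟩ := hS2 h hh g hg
  obtain ⟨j⟩ := hx' h hh
  obtain ⟨c⟩ := overMapB_comp_iso g h
  exact ⟨z, ⟨(postB _ G).mapIso i ≪≫ (Stk.restr (overMapB g) 𝒵).mapIso j ≪≫ (postB _ y).mapIso c⟩⟩

theorem isCovering_fpFst (J : GrothendieckTopology C) {F : 𝒳 ⥤ᵇ 𝒴} (G : 𝒵 ⥤ᵇ 𝒴) (hF : IsCovering J F) :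
    IsCovering J (fpFst G F) := by
  intro U y
  obtain ⟨R, hR, hx⟩ := hF U (BasedFunctor.comp y G)
  refine ⟨R, hR, fun V h hh => ?_⟩
  obtain ⟨x, ⟨i⟩⟩ := hx h hh
  exact ⟨fpLift (F := G) (G := F) (BasedFunctor.comp (overMapB h) y) x i.symm, ⟨Iso.refl _⟩⟩

theorem postB_full_faithful {𝒲 : BasedCategory.{v₂, u₂} C} (F : 𝒵 ⥤ᵇ 𝒴) [F.toFunctor.Full] [F.toFunctor.Faithful] :
    (postB 𝒲 F).Full ∧ (postB 𝒲 F).Faithful := by
  refine ⟨⟨fun {H K} β => ⟨⟨{ app := fun a => F.toFunctor.preimage (β.toNatTrans.app a), naturality := fun a b φ => ?_ }, fun a => ?_⟩, ?_⟩⟩,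
    ⟨fun {H K α β} h => based_hom_ext fun a => F.toFunctor.map_injective (congrArg (fun m => m.toNatTrans.app a) h)⟩⟩
  · refine F.toFunctor.map_injective ?_
    rw [F.toFunctor.map_comp, F.toFunctor.map_comp, F.toFunctor.map_preimage, F.toFunctor.map_preimage]
    exact β.toNatTrans.naturality φ
  · refine (vert_iff _ _).2 ⟨H.w_obj a, (H.w_obj a).trans (K.w_obj a).symm, ?_⟩
    rw [based_map_back F, F.toFunctor.map_preimage, based_app_map β a]
    simp
  · exact based_hom_ext fun a => F.toFunctor.map_preimage _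

theorem fullyFaithful_iff_postB (h𝒳 : IsFibGrpd 𝒳.p) (h𝒴 : IsFibGrpd 𝒴.p) (F : 𝒳 ⥤ᵇ 𝒴) :
    (F.toFunctor.Full ∧ F.toFunctor.Faithful) ↔
      ∀ U : C, (postB (overCat U) F).Full ∧ (postB (overCat U) F).Faithful := by
  constructor
  · rintro ⟨_, _⟩ U
    exact postB_full_faithful F
  · intro h
    have key : ∀ U, Nonempty (postB (overCat U) F ⋙ evalAtId 𝒴 U ≅ evalAtId 𝒳 U ⋙ fiberFunctor F U) := fun U =>
      ⟨NatIso.ofComponents (fun H => Iso.refl _) (fun α => (Category.comp_id _).trans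
        ((Functor.Fiber.hom_ext rfl).trans (Category.id_comp _).symm))⟩
    refine fullyFaithful_of_fiberFunctor F h𝒳 h𝒴 (fun U => ?_) (fun U => ?_)
    all_goals
      obtain ⟨_, _⟩ := h U
      obtain ⟨e⟩ := key U
      have := evalAtId_isEquivalence h𝒳 U
      have := evalAtId_isEquivalence h𝒴 U
      have := Functor.Faithful.of_iso e
      have := Functor.Full.of_iso e
      let e' : fiberFunctor F U ≅ (evalAtId 𝒳 U).asEquivalence.inverse ⋙ evalAtId 𝒳 U ⋙ fiberFunctor F U :=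
        (Functor.leftUnitor _).symm ≪≫ Functor.isoWhiskerRight (evalAtId 𝒳 U).asEquivalence.counitIso.symm _ ≪≫
          Functor.associator _ _ _
    · exact Functor.Full.of_iso e'.symm
    · exact Functor.Faithful.of_iso e'.symm

end Groth.Agent.Stk19
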