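import Groth.Agent.Stk19.FibSet

/-! Categories fibred in setoids: rigidity and skeleta. -/

set_option autoImplicit false
set_option backward.isDefEq.respectTransparency false
set_option backward.isDefEq.respectTransparency.types false

universe v₃ u₃ v₂ u₂ v u

open CategoryTheory FibCat Groth.Agent.Desc19

namespace Groth.Agent.Stk19

variable {C : Type u} [Category.{v} C] {𝒳 : BasedCategory.{v₂, u₂} C} {𝒴 : BasedCategory.{v₃, u₃} C}

/-- Vertical parallel arrows of a category fibred in setoids coincide. -/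
theorem setoid_vert_unique (h : IsFibSetoid 𝒳.p) {a b : 𝒳.obj} {R : C} (φ ψ : a ⟶ b)
    (h1 : 𝒳.p.IsHomLift (𝟙 R) φ) (h2 : 𝒳.p.IsHomLift (𝟙 R) ψ) : φ = ψ := by
  let A : 𝒳.p.Fiber R := ⟨a, IsHomLift.domain_eq 𝒳.p (𝟙 R) φ⟩
  let B : 𝒳.p.Fiber R := ⟨b, IsHomLift.codomain_eq 𝒳.p (𝟙 R) φ⟩
  exact congrArg Subtype.val ((h.2 R A B).elim (⟨φ, h1⟩ : A ⟶ B) ⟨ψ, h2⟩)

theorem setoid_unique_iso (h𝒴 : IsFibSetoid 𝒴.p) (f g : 𝒳 ⥤ᵇ 𝒴)
    (hfg : ∀ (U : C) (x : 𝒳.p.Fiber U), Nonempty ((fiberFunctor f U).obj x ≅ (fiberFunctor g U).obj x)) :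
    Nonempty (Unique (f ≅ g)) := by
  let app : ∀ a, f.obj a ≅ g.obj a := fun a =>
    Functor.Fiber.fiberInclusion.mapIso (hfg (𝒳.p.obj a) ⟨a, rfl⟩).some
  have hv : ∀ a, 𝒴.p.IsHomLift (𝟙 (𝒳.p.obj a)) (app a).hom := fun a => (hfg (𝒳.p.obj a) ⟨a, rfl⟩).some.hom.2
  have hm : ∀ a, 𝒴.p.map (app a).hom = eqToHom ((f.w_obj a).trans (g.w_obj a).symm) := fun a =>
    have := hv a
    map_eq_of_vert 𝒴.p (R := 𝒳.p.obj a) _
  have nat : ∀ {a b : 𝒳.obj} (φ : a ⟶ b), f.map φ ≫ (app b).hom = (app a).hom ≫ g.map φ := by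
    intro a b φ
    obtain ⟨χ, ⟨c1, c2⟩, -⟩ := fibGrpd_fac h𝒴.1 (g.map φ) (f.map φ ≫ (app b).hom)
      (eqToHom ((f.w_obj a).trans (g.w_obj a).symm))
      (by rw [𝒴.p.map_comp, hm, based_map f, based_map g]; simp)
    rw [← c2, setoid_vert_unique h𝒴 χ (app a).hom ((vert_iff 𝒴.p _).2 ⟨f.w_obj a, _, c1⟩) (hv a)]
  refine ⟨{ default := isoMk app (fun a => vert_change 𝒴.p _ (hv a) rfl) nat, uniq := fun e => ?_ }⟩
  apply Iso.ext
  apply BasedNatTrans.homCategory.ext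
  apply NatTrans.ext
  funext a
  exact setoid_vert_unique h𝒴 _ _ (e.hom.isHomLift rfl) (hv a)

theorem eq_of_natTrans_fibSet (h𝒴 : IsFibSet 𝒴.p) {F G : 𝒳 ⥤ᵇ 𝒴} (α : F ⟶ G) :
    ∃ h : F = G, α = eqToHom h := by
  have ho : ∀ a, F.obj a = G.obj a := fun a => by
    have := h𝒴.2 (𝒳.p.obj a)
    let A : 𝒴.p.Fiber (𝒳.p.obj a) := ⟨F.obj a, F.w_obj a⟩
    let B : 𝒴.p.Fiber (𝒳.p.obj a) := ⟨G.obj a, G.w_obj a⟩
    let t : A ⟶ B := ⟨α.toNatTrans.app a, α.isHomLift rfl⟩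
    exact congrArg Subtype.val ((h𝒴.2 (𝒳.p.obj a)).eq_of_hom t)
  have := fibSet_faithful h𝒴
  have hh : F.toFunctor = G.toFunctor := by
    refine CategoryTheory.Functor.ext ho fun a b φ => 𝒴.p.map_injective ?_
    simp only [Functor.map_comp, eqToHom_map, based_map F, based_map G]
    simp
  obtain rfl := based_ext hh
  refine ⟨rfl, ?_⟩
  apply BasedNatTrans.homCategory.ext
  apply NatTrans.ext
  funext a
  refine 𝒴.p.map_injective ?_
  rw [based_app_map, based_app_map]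

/-- A category fibred in setoids is equivalent to one fibred in sets. -/
theorem exists_fibSet_skeleton (h : IsFibSetoid 𝒳.p) :
    ∃ (𝒵 : BasedCategory.{v₂, u₂} C) (F : 𝒳 ⥤ᵇ 𝒵), IsFibSet 𝒵.p ∧ IsEquivOver F := by
  let st : Setoid 𝒳.obj :=
    { r := fun a b => ∃ i : a ≅ b, 𝒳.p.IsHomLift (𝟙 (𝒳.p.obj a)) i.hom
      iseqv :=
        { refl := fun a => ⟨Iso.refl a, IsHomLift.id rfl⟩
          symm := fun {a b} ⟨i, hi⟩ => ⟨i.symm, vert_change 𝒳.p _ (vert_inv 𝒳.p i hi) rfl⟩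
          trans := fun {a b c} ⟨i, hi⟩ ⟨j, hj⟩ => ⟨i ≪≫ j, vert_comp 𝒳.p _ _ hi
            (vert_change 𝒳.p _ hj (IsHomLift.codomain_eq 𝒳.p (𝟙 (𝒳.p.obj a)) i.hom))⟩ } }
  let P : ObjectProperty 𝒳.obj := fun a => (Quotient.mk st a).out = a
  let 𝒵 : BasedCategory.{v₂, u₂} C := { obj := P.FullSubcategory, p := P.ι ⋙ 𝒳.p }
  let J : 𝒵 ⥤ᵇ 𝒳 := { toFunctor := P.ι, w := rfl }
  have hJ : IsEquivOver J := by
    refine EqvData.isEquivOver ⟨inferInstanceAs P.ι.Full, inferInstanceAs P.ι.Faithful, fun a => ?_⟩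
    let r := (Quotient.mk st a).out
    have hr : P r := by
      show (Quotient.mk st r).out = r
      rw [show Quotient.mk st r = Quotient.mk st a from Quotient.out_eq _]
    obtain ⟨i, hi⟩ : st.r a r := Quotient.exact (Quotient.out_eq (Quotient.mk st a)).symm
    exact ⟨⟨r, hr⟩, i.symm, vert_inv 𝒳.p i hi⟩
  obtain ⟨F, hF, -, -⟩ := exists_inverse hJ
  have hZ := fibGrpd_of_equiv hJ h.1
  refine ⟨𝒵, F, ⟨hZ, fun U => ?_⟩, hF⟩
  have hom_unique : ∀ (A B : 𝒵.p.Fiber U) (s t : A ⟶ B), s = t := fun A B s t => by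
    refine Functor.Fiber.hom_ext (P.ι.map_injective ?_)
    have := s.2
    have := t.2
    exact setoid_vert_unique h _ _ (BasedFunctor.preserves_isHomLift J (𝟙 U) s.1)
      (BasedFunctor.preserves_isHomLift J (𝟙 U) t.1)
  exact
    { eq_of_hom := fun {A B} t => by
        have ht := t.2
        have := fibGrpd_isIso_vert hZ (R := U) t.1
        let i : A.1.obj ≅ B.1.obj := P.ι.mapIso (asIso t.1)
        have hi : 𝒳.p.IsHomLift (𝟙 (𝒳.p.obj A.1.obj)) i.hom :=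
          vert_change 𝒳.p _ (BasedFunctor.preserves_isHomLift J (𝟙 U) t.1) rfl
        refine Subtype.ext (ObjectProperty.FullSubcategory.ext ?_)
        rw [← A.1.property, ← B.1.property]
        exact congrArg Quotient.out (Quotient.sound ⟨i, hi⟩)
      subsingleton := fun A B => ⟨hom_unique A B⟩ }

end Groth.Agent.Stk19
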