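import Groth.Agent.Stk19.Glue

/-! The stack condition along a sieve in terms of elements: gluing of arrows and of descent data. -/

set_option autoImplicit false
set_option backward.isDefEq.respectTransparency false
set_option backward.isDefEq.respectTransparency.types false

universe v₄ u₄ v₃ u₃ v₂ u₂ v u

open CategoryTheory FibCat Groth.Agent.Desc19

namespace Groth.Agent.Stk19

variable {C : Type u} [Category.{v} C] {𝒳 : BasedCategory.{v₂, u₂} C}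

/-- Arrows between objects over `U` glue uniquely along `R`. -/
def HomGlue (𝒳 : BasedCategory.{v₂, u₂} C) {U : C} (R : Sieve U) : Prop :=
  ∀ (x y : 𝒳.obj) (hx : 𝒳.p.obj x = U) (hy : 𝒳.p.obj y = U)
    (t : ∀ (z : 𝒳.obj) (ν : z ⟶ x), R.arrows (𝒳.p.map ν ≫ eqToHom hx) → (z ⟶ y)),
    (∀ z ν h, 𝒳.p.map (t z ν h) = 𝒳.p.map ν ≫ eqToHom (hx.trans hy.symm)) →
    (∀ z' z (g : z' ⟶ z) ν h h', t z' (g ≫ ν) h' = g ≫ t z ν h) →
    ∃! χ : x ⟶ y, 𝒳.p.map χ = eqToHom (hx.trans hy.symm) ∧ ∀ z ν h, ν ≫ χ = t z ν h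

/-- Descent data along `R` glue. -/
def ObjGlue (𝒳 : BasedCategory.{v₂, u₂} C) {U : C} (R : Sieve U) : Prop :=
  ∀ D : Stk.sieveCat R ⥤ᵇ 𝒳, ∃ (x : 𝒳.obj) (hx : 𝒳.p.obj x = U) (ν : ∀ a, D.obj a ⟶ x),
    (∀ a, 𝒳.p.map (ν a) = eqToHom (D.w_obj a) ≫ a.obj.hom ≫ eqToHom hx.symm) ∧
    ∀ a b (φ : a ⟶ b), D.map φ ≫ ν b = ν a

/-- A morphism of descent data given on components. -/
def sieveHom (h : IsFibGrpd 𝒳.p) {U : C} {R : Sieve U} {D E : Stk.sieveCat R ⥤ᵇ 𝒳} {y : 𝒳.obj}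
    (μ : ∀ a, E.obj a ⟶ y) (hμn : ∀ a b (φ : a ⟶ b), E.map φ ≫ μ b = μ a)
    (app : ∀ a, D.obj a ⟶ E.obj a) (happ : ∀ a, 𝒳.p.map (app a) = eqToHom ((D.w_obj a).trans (E.w_obj a).symm))
    (hnat : ∀ a b (φ : a ⟶ b), D.map φ ≫ app b ≫ μ b = app a ≫ μ a) : D ⟶ E where
  toNatTrans :=
    { app := app
      naturality := fun a b φ => fibGrpd_ext h (μ b)
        (by rw [𝒳.p.map_comp, 𝒳.p.map_comp, based_map D, based_map E, happ, happ]; simp)
        (by rw [Category.assoc, hnat, Category.assoc, hμn]) }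
  isHomLift' a := vert_change 𝒳.p _ (vert_of_map_eq 𝒳.p (happ a)) (D.w_obj a)

theorem isPrestackFor_homGlue (h : IsFibGrpd 𝒳.p) {U : C} {R : Sieve U} (hR : Stk.IsPrestackFor R 𝒳) :
    HomGlue 𝒳 R := by
  intro x y hx hy t ht tn
  obtain ⟨hfull, hfaith⟩ := hR
  obtain ⟨F, i, hi⟩ := exists_classifying h x hx
  obtain ⟨G, j, hj⟩ := exists_classifying h y hy
  have him : 𝒳.p.map i.hom = eqToHom ((F.w_obj (Over.mk (𝟙 U))).trans hx.symm) := map_eq_of_vert 𝒳.p (R := U) i.hom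
  have hjm : 𝒳.p.map j.hom = eqToHom ((G.w_obj (Over.mk (𝟙 U))).trans hy.symm) := map_eq_of_vert 𝒳.p (R := U) j.hom
  let μ : ∀ a : (Stk.sieveCat R).obj, F.obj ((Stk.sieveIncl R).obj a) ⟶ x := fun a =>
    toTop F ((Stk.sieveIncl R).obj a) ≫ i.hom
  have hμm : ∀ a, 𝒳.p.map (μ a) = eqToHom (F.w_obj _) ≫ a.obj.hom ≫ eqToHom hx.symm := fun a => by
    rw [𝒳.p.map_comp, toTop_map, him]
    simp [Stk.sieveIncl]
  have hμR : ∀ a : (Stk.sieveCat R).obj, R.arrows (𝒳.p.map (μ a) ≫ eqToHom hx) := fun a => by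
    rw [hμm]
    simpa using R.downward_closed a.property (eqToHom (F.w_obj ((Stk.sieveIncl R).obj a)))
  let σ : ∀ a : (Stk.sieveCat R).obj, G.obj ((Stk.sieveIncl R).obj a) ⟶ y := fun a =>
    toTop G ((Stk.sieveIncl R).obj a) ≫ j.hom
  have hσm : ∀ a, 𝒳.p.map (σ a) = eqToHom (G.w_obj _) ≫ a.obj.hom ≫ eqToHom hy.symm := fun a => by
    rw [𝒳.p.map_comp, toTop_map, hjm]
    simp [Stk.sieveIncl]
  choose app happ _ using fun a => fibGrpd_fac h (σ a) (t _ (μ a) (hμR a))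
    (eqToHom ((F.w_obj _).trans (G.w_obj ((Stk.sieveIncl R).obj a)).symm)) (by rw [hσm, ht, hμm]; simp)
  let k : (Stk.resSieve R 𝒳).obj F ⟶ (Stk.resSieve R 𝒳).obj G := sieveHom h σ
    (fun a b φ => by
      show G.map ((Stk.sieveIncl R).map φ) ≫ σ b = σ a
      simp only [σ, ← Category.assoc, toTop_comp]) app (fun a => (happ a).1)
    (fun a b φ => by
      show F.map ((Stk.sieveIncl R).map φ) ≫ app b ≫ σ b = app a ≫ σ a
      rw [(happ b).2, (happ a).2]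
      have e : F.map ((Stk.sieveIncl R).map φ) ≫ μ b = μ a := by simp only [μ, ← Category.assoc, toTop_comp]
      rw [← tn _ _ _ _ (hμR b) (e ▸ hμR a)]
      congr 1)
  obtain ⟨α, hα⟩ := (Stk.resSieve R 𝒳).map_surjective k
  let χ := i.inv ≫ α.toNatTrans.app (Over.mk (𝟙 U)) ≫ j.hom
  have hχ : 𝒳.p.map χ = eqToHom (hx.trans hy.symm) := by
    have : 𝒳.p.map i.inv = eqToHom ((F.w_obj (Over.mk (𝟙 U))).trans hx.symm).symm :=
      (cancel_mono (𝒳.p.map i.hom)).1 (by rw [← 𝒳.p.map_comp, i.inv_hom_id, him]; simp)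
    simp only [χ, 𝒳.p.map_comp, this, based_app_map, hjm, eqToHom_trans]
  have hspec : ∀ z ν hν, ν ≫ χ = t z ν hν := by
    intro z ν hν
    let a : (Stk.sieveCat R).obj := ⟨Over.mk (𝒳.p.map ν ≫ eqToHom hx), hν⟩
    obtain ⟨ω, ⟨-, hω⟩, -⟩ := fibGrpd_fac h (μ a) ν (eqToHom (F.w_obj ((Stk.sieveIncl R).obj a)).symm)
      (by rw [hμm]; simp [a])
    have e : μ a ≫ χ = t _ (μ a) (hμR a) := by
      rw [← (happ a).2]
      have : α.toNatTrans.app ((Stk.sieveIncl R).obj a) = app a := congrArg (fun m => m.toNatTrans.app a) hα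
      simp only [μ, σ, χ, Category.assoc, Iso.hom_inv_id_assoc, ← this]
      rw [← Category.assoc, toTop_natural, Category.assoc]
    have et : ∀ (ν' : z ⟶ x) (_ : ν' = ν) h', t z ν' h' = t z ν hν := by rintro _ rfl _; rfl
    conv_lhs => rw [← hω]
    rw [Category.assoc, e, ← tn _ _ _ _ (hμR a) (hω.symm ▸ hν)]
    exact et _ hω _
  refine ⟨χ, ⟨hχ, hspec⟩, fun χ' ⟨hχ', hspec'⟩ => ?_⟩
  refine vert_ext_of_prestack h ⟨hfull, hfaith⟩ χ' χ (vert_change 𝒳.p _ (vert_of_map_eq 𝒳.p hχ') hx)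
    (vert_change 𝒳.p _ (vert_of_map_eq 𝒳.p hχ) hx) fun V f hf => ?_
  obtain ⟨z, ν, e, hν⟩ := fibGrpd_lift h x (f ≫ eqToHom hx.symm)
  have hνR : R.arrows (𝒳.p.map ν ≫ eqToHom hx) := by rw [hν]; simpa using R.downward_closed hf (eqToHom e)
  refine ⟨z, ν, IsHomLift.of_fac' 𝒳.p f ν e hx ?_, (hspec' z ν hνR).trans (hspec z ν hνR).symm⟩
  rw [hν]

theorem objGlue_of_essSurj (h : IsFibGrpd 𝒳.p) {U : C} {R : Sieve U} (hR : (Stk.resSieve R 𝒳).EssSurj) :
    ObjGlue 𝒳 R := by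
  intro D
  let F := (Stk.resSieve R 𝒳).objPreimage D
  let e := (Stk.resSieve R 𝒳).objObjPreimageIso D
  refine ⟨F.obj (Over.mk (𝟙 U)), F.w_obj _, fun a => e.inv.toNatTrans.app a ≫ toTop F ((Stk.sieveIncl R).obj a),
    fun a => ?_, fun a b φ => ?_⟩
  · rw [𝒳.p.map_comp, based_app_map, toTop_map]
    simp [Stk.sieveIncl, F]
  · rw [← Category.assoc, e.inv.toNatTrans.naturality φ, Category.assoc]
    exact congrArg _ (toTop_comp F _)

theorem homGlue_full_faithful (h : IsFibGrpd 𝒳.p) {U : C} {R : Sieve U} (hR : HomGlue 𝒳 R) :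
    Stk.IsPrestackFor R 𝒳 := by
  have key : ∀ (F G : FibCat.overCat U ⥤ᵇ 𝒳) (k : (Stk.resSieve R 𝒳).obj F ⟶ (Stk.resSieve R 𝒳).obj G),
      ∃! α : F ⟶ G, (Stk.resSieve R 𝒳).map α = k := by
    intro F G k
    let x := F.obj (Over.mk (𝟙 U))
    let y := G.obj (Over.mk (𝟙 U))
    have hx : 𝒳.p.obj x = U := F.w_obj _
    have hy : 𝒳.p.obj y = U := G.w_obj _
    let a : ∀ (z : 𝒳.obj) (ν : z ⟶ x), R.arrows (𝒳.p.map ν ≫ eqToHom hx) → (Stk.sieveCat R).obj := fun z ν hν =>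
      ⟨Over.mk (𝒳.p.map ν ≫ eqToHom hx), hν⟩
    choose ω hω hωu using fun (z : 𝒳.obj) (ν : z ⟶ x) (hν : R.arrows (𝒳.p.map ν ≫ eqToHom hx)) =>
      fibGrpd_fac h (toTop F ((Stk.sieveIncl R).obj (a z ν hν))) ν
        (eqToHom ((F.w_obj ((Stk.sieveIncl R).obj (a z ν hν))).symm : 𝒳.p.obj z = _))
        (by rw [toTop_map]; simp [a, Stk.sieveIncl])
    let t : ∀ z (ν : z ⟶ x), R.arrows (𝒳.p.map ν ≫ eqToHom hx) → (z ⟶ y) := fun z ν hν =>
      ω z ν hν ≫ k.toNatTrans.app (a z ν hν) ≫ toTop G ((Stk.sieveIncl R).obj (a z ν hν))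
    have ht : ∀ z ν hν, 𝒳.p.map (t z ν hν) = 𝒳.p.map ν ≫ eqToHom (hx.trans hy.symm) := fun z ν hν => by
      rw [𝒳.p.map_comp, 𝒳.p.map_comp, (hω z ν hν).1, based_app_map, toTop_map]
      simp [a, Stk.sieveIncl, Stk.restr, BasedFunctor.comp]
    have tn : ∀ z' z (g : z' ⟶ z) ν hν hν', t z' (g ≫ ν) hν' = g ≫ t z ν hν := by
      intro z' z g ν hν hν'
      let φ : a z' (g ≫ ν) hν' ⟶ a z ν hν := ObjectProperty.homMk (Over.homMk (𝒳.p.map g) (by simp [a]))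
      have e1 : g ≫ ω z ν hν = ω z' (g ≫ ν) hν' ≫ F.map ((Stk.sieveIncl R).map φ) := by
        refine fibGrpd_ext h (toTop F ((Stk.sieveIncl R).obj (a z ν hν))) ?_ ?_
        · rw [𝒳.p.map_comp, 𝒳.p.map_comp, (hω z ν hν).1, (hω z' (g ≫ ν) hν').1, based_map F]
          simp [φ, Stk.sieveIncl, a]
        · rw [Category.assoc, (hω z ν hν).2, Category.assoc, toTop_comp, (hω z' (g ≫ ν) hν').2]
      simp only [t, ← Category.assoc g, e1, Category.assoc]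
      have nat : F.map ((Stk.sieveIncl R).map φ) ≫ k.toNatTrans.app (a z ν hν) =
          k.toNatTrans.app (a z' (g ≫ ν) hν') ≫ G.map ((Stk.sieveIncl R).map φ) := k.toNatTrans.naturality φ
      erw [reassoc_of% nat]
      erw [toTop_comp]
    obtain ⟨χ, ⟨hχ, hspec⟩, hu⟩ := hR x y hx hy t ht tn
    have crit : ∀ α : F ⟶ G, (Stk.resSieve R 𝒳).map α = k ↔
        ∀ z ν hν, ν ≫ α.toNatTrans.app (Over.mk (𝟙 U)) = t z ν hν := by
      refine fun α => ⟨fun hk z ν hν => ?_, fun hs => based_hom_ext fun b => ?_⟩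
      · conv_lhs => rw [← (hω z ν hν).2]
        rw [Category.assoc, toTop_natural]
        subst hk
        rfl
      · let ν := toTop F ((Stk.sieveIncl R).obj b)
        have hν : R.arrows (𝒳.p.map ν ≫ eqToHom hx) := by
          rw [toTop_map]
          simpa [Stk.sieveIncl] using R.downward_closed b.property (eqToHom (F.w_obj ((Stk.sieveIncl R).obj b)))
        refine fibGrpd_ext h (toTop G ((Stk.sieveIncl R).obj b)) ((based_app_map _ _).trans (based_app_map _ _).symm) ?_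
        show α.toNatTrans.app _ ≫ _ = k.toNatTrans.app b ≫ _
        rw [← toTop_natural, hs _ ν hν]
        let φ : a _ ν hν ⟶ b := ObjectProperty.homMk (Over.homMk (eqToHom (F.w_obj _)) (by
          simp [a, ν, toTop_map, Stk.sieveIncl]))
        have e : ω _ ν hν ≫ F.map ((Stk.sieveIncl R).map φ) = 𝟙 _ := by
          refine fibGrpd_ext h ν ?_ ?_
          · rw [𝒳.p.map_comp, (hω _ ν hν).1, based_map F]; simp [φ, Stk.sieveIncl, a]
          · rw [Category.assoc, toTop_comp, Category.id_comp]; exact (hω _ ν hν).2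
        have nat : F.map ((Stk.sieveIncl R).map φ) ≫ k.toNatTrans.app b =
            k.toNatTrans.app (a _ ν hν) ≫ G.map ((Stk.sieveIncl R).map φ) := k.toNatTrans.naturality φ
        calc t _ ν hν = ω _ ν hν ≫ k.toNatTrans.app (a _ ν hν) ≫ G.map ((Stk.sieveIncl R).map φ) ≫
              toTop G ((Stk.sieveIncl R).obj b) := by rw [toTop_comp]
          _ = ω _ ν hν ≫ F.map ((Stk.sieveIncl R).map φ) ≫ k.toNatTrans.app b ≫
              toTop G ((Stk.sieveIncl R).obj b) := by erw [reassoc_of% nat]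
          _ = k.toNatTrans.app b ≫ toTop G ((Stk.sieveIncl R).obj b) := by rw [reassoc_of% e]
    obtain ⟨α, hα⟩ := yoneda_exists h F G χ (vert_change 𝒳.p _ (vert_of_map_eq 𝒳.p hχ) hx)
    refine ⟨α, (crit α).2 fun z ν hν => by rw [hα]; exact hspec z ν hν, fun β hβ => yoneda_ext h ?_⟩
    rw [hα]
    exact hu _ ⟨based_app_map β _, (crit β).1 hβ⟩
  exact ⟨⟨fun {F G} k => (key F G k).exists⟩, ⟨fun {F G} α β hab => (key F G _).unique rfl hab.symm⟩⟩

theorem essSurj_of_objGlue (h : IsFibGrpd 𝒳.p) {U : C} {R : Sieve U} (hR : ObjGlue 𝒳 R) :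
    (Stk.resSieve R 𝒳).EssSurj := by
  refine ⟨fun D => ?_⟩
  obtain ⟨x, hx, ν, hν, hνn⟩ := hR D
  obtain ⟨F, i, hi⟩ := exists_classifying h x hx
  have him : 𝒳.p.map i.hom = eqToHom ((F.w_obj (Over.mk (𝟙 U))).trans hx.symm) := map_eq_of_vert 𝒳.p (R := U) i.hom
  choose app happ _ using fun a => fibGrpd_fac h (ν a) (toTop F ((Stk.sieveIncl R).obj a) ≫ i.hom)
    (eqToHom ((F.w_obj _).trans (D.w_obj a).symm)) (by rw [hν, 𝒳.p.map_comp, toTop_map, him]; simp [Stk.sieveIncl])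
  let α : (Stk.resSieve R 𝒳).obj F ⟶ D := sieveHom h ν hνn app (fun a => (happ a).1) fun a b φ => by
    show F.map ((Stk.sieveIncl R).map φ) ≫ app b ≫ ν b = app a ≫ ν a
    rw [(happ b).2, (happ a).2, ← Category.assoc, toTop_comp]
  have := isIso_of_fibGrpd h α
  exact ⟨F, ⟨asIso α⟩⟩

theorem isPrestackFor_iff_glue (h : IsFibGrpd 𝒳.p) {U : C} (R : Sieve U) :
    Stk.IsPrestackFor R 𝒳 ↔ HomGlue 𝒳 R :=
  ⟨isPrestackFor_homGlue h, homGlue_full_faithful h⟩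

theorem isStackFor_iff_glue (h : IsFibGrpd 𝒳.p) {U : C} (R : Sieve U) :
    Stk.IsStackFor R 𝒳 ↔ HomGlue 𝒳 R ∧ ObjGlue 𝒳 R := by
  refine ⟨fun hR => ?_, fun hR => ?_⟩
  · have : (Stk.resSieve R 𝒳).IsEquivalence := hR
    exact ⟨isPrestackFor_homGlue h ⟨inferInstance, inferInstance⟩, objGlue_of_essSurj h inferInstance⟩
  · obtain ⟨h1, h2⟩ := homGlue_full_faithful h hR.1
    exact { full := h1, faithful := h2, essSurj := essSurj_of_objGlue h hR.2 }

end Groth.Agent.Stk19
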