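import Groth.Prelude.Def_W4stkcategoriessitesFib

/-! The functor between 2-fibre products of plain categories induced by a morphism of cospans. -/

set_option autoImplicit false
set_option backward.isDefEq.respectTransparency false
set_option backward.isDefEq.respectTransparency.types false

universe v₉ u₉ v₈ u₈ v₇ u₇ v₆ u₆ v₅ u₅ v₄ u₄

open CategoryTheory CategoryTheory.Limits FibCat

attribute [local instance] CatCospanTransform.squareLeft CatCospanTransform.squareRight

namespace Groth.Agent.Stk19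

variable {X : Type u₄} {Y : Type u₅} {Z : Type u₆} {A : Type u₇} {B : Type u₈} {C' : Type u₉}
  [Category.{v₄} X] [Category.{v₅} Y] [Category.{v₆} Z] [Category.{v₇} A] [Category.{v₈} B] [Category.{v₉} C']
  {H : X ⥤ Z} {I : Y ⥤ Z} {F : A ⥤ C'} {G : B ⥤ C'} (ψ : CatCospanTransform H I F G)

theorem pbMap_iso (s : CategoricalPullback H I) : ((categoricalPullbackMap ψ).obj s).iso.hom =
    (CatCommSq.iso H ψ.left ψ.base F).inv.app s.fst ≫ ψ.base.map s.iso.hom ≫
      (CatCommSq.iso I ψ.right ψ.base G).hom.app s.snd := by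
  simp [categoricalPullbackMap]
  rfl

theorem pbMap_faithful [ψ.left.Faithful] [ψ.right.Faithful] : (categoricalPullbackMap ψ).Faithful := by
  refine ⟨fun {s t} a b h => ?_⟩
  apply CategoricalPullback.hom_ext
  · exact ψ.left.map_injective (congrArg CategoricalPullback.Hom.fst h)
  · exact ψ.right.map_injective (congrArg CategoricalPullback.Hom.snd h)

theorem pbMap_full [ψ.left.Full] [ψ.right.Full] [ψ.base.Faithful] : (categoricalPullbackMap ψ).Full := by
  refine ⟨fun {s t} k => ?_⟩
  obtain ⟨a, ha⟩ := ψ.left.map_surjective (X := s.fst) (Y := t.fst) k.fst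
  obtain ⟨b, hb⟩ := ψ.right.map_surjective (X := s.snd) (Y := t.snd) k.snd
  have w := k.w
  rw [← ha, ← hb, pbMap_iso, pbMap_iso] at w
  have n1 := (CatCommSq.iso H ψ.left ψ.base F).inv.naturality a
  have n2 := (CatCommSq.iso I ψ.right ψ.base G).hom.naturality b
  simp only [Functor.comp_map] at n1 n2
  rw [reassoc_of% n1, Category.assoc, Category.assoc, ← n2] at w
  have h := (cancel_epi _).1 w
  rw [← Category.assoc, ← Category.assoc, cancel_mono, ← Functor.map_comp, ← Functor.map_comp] at h
  exact ⟨{ fst := a, snd := b, w := ψ.base.map_injective h }, CategoricalPullback.hom_ext ha hb⟩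

theorem pbMap_isEquivalence [ψ.left.IsEquivalence] [ψ.right.IsEquivalence] [ψ.base.Full] [ψ.base.Faithful] :
    (categoricalPullbackMap ψ).IsEquivalence := by
  refine { full := pbMap_full ψ, faithful := pbMap_faithful ψ, essSurj := ⟨fun t => ?_⟩ }
  let i : ψ.left.obj (ψ.left.objPreimage t.fst) ≅ t.fst := ψ.left.objObjPreimageIso t.fst
  let j : ψ.right.obj (ψ.right.objPreimage t.snd) ≅ t.snd := ψ.right.objObjPreimageIso t.snd
  let k : ψ.base.obj (H.obj (ψ.left.objPreimage t.fst)) ≅ ψ.base.obj (I.obj (ψ.right.objPreimage t.snd)) :=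
    (CatCommSq.iso H ψ.left ψ.base F).app _ ≪≫ F.mapIso i ≪≫ t.iso ≪≫ (G.mapIso j).symm ≪≫
      ((CatCommSq.iso I ψ.right ψ.base G).app _).symm
  refine ⟨⟨_, _, ψ.base.preimageIso k⟩, ⟨CategoricalPullback.mkIso i j ?_⟩⟩
  rw [pbMap_iso]
  simp [k, ← G.map_comp]

end Groth.Agent.Stk19
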