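import Groth.Agent.Stk19.Rep
import Groth.Agent.Stk19.FibGrpd2

/-! Products over the base, slices and the diagonal criterion for representability. -/

set_option autoImplicit false
set_option backward.isDefEq.respectTransparency false
set_option backward.isDefEq.respectTransparency.types false

universe v₉ u₉ v₈ u₈ v₇ u₇ v₆ u₆ v₅ u₅ v₄ u₄ v₃ u₃ v₂ u₂ v u

open CategoryTheory CategoryTheory.Limits FibCat

namespace Groth.Agent.Stk19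

variable {C : Type u} [Category.{v} C]
variable {𝒳 : BasedCategory.{v₂, u₂} C} {𝒴 : BasedCategory.{v₃, u₃} C} {𝒲 : BasedCategory.{v₄, u₄} C}
  {𝒯 : BasedCategory.{v₅, u₅} C}

section Pair

/-- The pairing into a product over the base. -/
def pairSelf (a : 𝒯 ⥤ᵇ 𝒳) (b : 𝒯 ⥤ᵇ 𝒴) : 𝒯 ⥤ᵇ fp (toSelf 𝒳) (toSelf 𝒴) :=
  fpLift a b (selfIso _ _)

theorem prod_iso (x : (fp (toSelf 𝒳) (toSelf 𝒴)).obj) :
    (show 𝒳.p.obj x.obj.fst ⟶ 𝒴.p.obj x.obj.snd from x.obj.iso.hom) = eqToHom (fp_base_eq x).symm :=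
  fp_iso_map x

theorem prod_w {x y : (fp (toSelf 𝒳) (toSelf 𝒴)).obj} (f : x.obj.fst ⟶ y.obj.fst) (g : x.obj.snd ⟶ y.obj.snd)
    (h : 𝒴.p.map g = eqToHom (fp_base_eq x) ≫ 𝒳.p.map f ≫ eqToHom (fp_base_eq y).symm) :
    (toSelf 𝒳).map f ≫ y.obj.iso.hom = x.obj.iso.hom ≫ (toSelf 𝒴).map g := by
  show 𝒳.p.map f ≫ (show 𝒳.p.obj y.obj.fst ⟶ 𝒴.p.obj y.obj.snd from y.obj.iso.hom) =
    (show 𝒳.p.obj x.obj.fst ⟶ 𝒴.p.obj x.obj.snd from x.obj.iso.hom) ≫ 𝒴.p.map g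
  rw [h, prod_iso, prod_iso]
  simp

/-- A morphism of a product over the base, from its two components. -/
def prodHom {x y : (fp (toSelf 𝒳) (toSelf 𝒴)).obj} (f : x.obj.fst ⟶ y.obj.fst) (g : x.obj.snd ⟶ y.obj.snd)
    (h : 𝒴.p.map g = eqToHom (fp_base_eq x) ≫ 𝒳.p.map f ≫ eqToHom (fp_base_eq y).symm) : x ⟶ y :=
  fpHom f g (prod_w f g h)

theorem toSelf_map {x y : 𝒳.obj} (f : x ⟶ y) : (toSelf 𝒳).map f = 𝒳.p.map f := rfl

end Pair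

section Magic

variable (x : 𝒲 ⥤ᵇ 𝒳) (y : 𝒯 ⥤ᵇ 𝒳)

/-- The product of two functors into the same category. -/
def prodPair : fp (toSelf 𝒲) (toSelf 𝒯) ⥤ᵇ fp (toSelf 𝒳) (toSelf 𝒳) :=
  pairSelf (BasedFunctor.comp (fpFst (toSelf 𝒲) (toSelf 𝒯)) x) (BasedFunctor.comp (fpSnd (toSelf 𝒲) (toSelf 𝒯)) y)

/-- The projection of a fibre product to the product over the base. -/
def fpToProd : fp x y ⥤ᵇ fp (toSelf 𝒲) (toSelf 𝒯) := pairSelf (fpFst x y) (fpSnd x y)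

/-- The 2-isomorphism of the magic square. -/
def magicIso : BasedFunctor.comp (fpToProd x y) (prodPair x y) ≅
    BasedFunctor.comp (BasedFunctor.comp (fpFst x y) x) (diag (toSelf 𝒳)) :=
  isoMk (fun t => fpIsoMk (Iso.refl _) t.obj.iso.symm (prod_w _ _ (by
      have ht : 𝒳.p.map t.obj.iso.inv = eqToHom ((y.w_obj t.obj.snd).trans ((fp_base_eq t).trans (x.w_obj t.obj.fst).symm)) := by
        rw [← cancel_epi (𝒳.p.map t.obj.iso.hom), ← 𝒳.p.map_comp, Iso.hom_inv_id, fp_iso_map t]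
        simp
      show 𝒳.p.map t.obj.iso.inv = _ ≫ 𝒳.p.map (𝟙 _) ≫ _
      rw [ht, CategoryTheory.Functor.map_id, Category.id_comp]
      exact (eqToHom_trans _ _).symm)))
    (fun t => fpIsoMk_vert _ _ _ (IsHomLift.id rfl))
    (fun {s t} φ => fp_hom_ext ((Category.comp_id _).trans (Category.id_comp _).symm) (by
      show y.map φ.hom.snd ≫ t.obj.iso.inv = s.obj.iso.inv ≫ x.map φ.hom.fst
      have w : x.map φ.hom.fst ≫ t.obj.iso.hom = s.obj.iso.hom ≫ y.map φ.hom.snd := φ.hom.w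
      rw [← cancel_epi s.obj.iso.hom, ← reassoc_of% w]
      simp))

/-- `𝒲 ×_𝒳 𝒯 ⟶ (𝒲 × 𝒯) ×_{𝒳 × 𝒳} 𝒳`. -/
def magicSquare : fp x y ⥤ᵇ fp (prodPair x y) (diag (toSelf 𝒳)) :=
  fpLift (fpToProd x y) (BasedFunctor.comp (fpFst x y) x) (magicIso x y)

theorem isEquivOver_magicSquare : IsEquivOver (magicSquare x y) := by
  refine EqvData.isEquivOver ⟨⟨fun {s t} k => ?_⟩, ⟨fun {s t} k k' h => ?_⟩, fun z => ?_⟩
  · have h1 : x.map k.hom.fst.hom.fst ≫ 𝟙 _ = 𝟙 _ ≫ k.hom.snd := congrArg (fun m => m.hom.fst) k.hom.w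
    have h2 : y.map k.hom.fst.hom.snd ≫ t.obj.iso.inv = s.obj.iso.inv ≫ k.hom.snd :=
      congrArg (fun m => m.hom.snd) k.hom.w
    rw [Category.comp_id, Category.id_comp] at h1
    refine ⟨fpHom k.hom.fst.hom.fst k.hom.fst.hom.snd ?_, fp_hom_ext (fp_hom_ext rfl rfl) h1⟩
    rw [← cancel_mono t.obj.iso.inv, Category.assoc, Category.assoc, Iso.hom_inv_id, h2, h1]
    simp
  · have h0 : k.hom.fst = k'.hom.fst := congrArg (fun m => m.hom.fst.hom.fst) h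
    have h1 : k.hom.snd = k'.hom.snd := congrArg (fun m => m.hom.fst.hom.snd) h
    exact fp_hom_ext h0 h1
  · let i₁ : x.obj z.obj.fst.obj.fst ≅ z.obj.snd := (fpFst (toSelf 𝒳) (toSelf 𝒳)).toFunctor.mapIso z.obj.iso
    let i₂ : y.obj z.obj.fst.obj.snd ≅ z.obj.snd := (fpSnd (toSelf 𝒳) (toSelf 𝒳)).toFunctor.mapIso z.obj.iso
    have v0 : (fp (toSelf 𝒳) (toSelf 𝒳)).p.IsHomLift (𝟙 (𝒲.p.obj z.obj.fst.obj.fst)) z.obj.iso.hom := z.property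
    have v1 : 𝒳.p.IsHomLift (𝟙 (𝒲.p.obj z.obj.fst.obj.fst)) i₁.hom :=
      BasedFunctor.preserves_isHomLift (fpFst (toSelf 𝒳) (toSelf 𝒳)) _ z.obj.iso.hom
    have v2 : 𝒳.p.IsHomLift (𝟙 (𝒲.p.obj z.obj.fst.obj.fst)) i₂.hom :=
      BasedFunctor.preserves_isHomLift (fpSnd (toSelf 𝒳) (toSelf 𝒳)) _ z.obj.iso.hom
    refine ⟨fpMk z.obj.fst.obj.fst z.obj.fst.obj.snd (i₁ ≪≫ i₂.symm)
      (vert_comp 𝒳.p _ _ v1 (vert_inv 𝒳.p i₂ v2)), fpIsoMk (fpIsoMk (Iso.refl _) (Iso.refl _) ?_) i₁ ?_,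
      fpIsoMk_vert _ _ _ (fpIsoMk_vert _ _ _ (IsHomLift.id rfl))⟩
    · refine prod_w _ _ ?_
      show 𝒯.p.map (𝟙 _) = _ ≫ 𝒲.p.map (𝟙 _) ≫ _
      rw [CategoryTheory.Functor.map_id, CategoryTheory.Functor.map_id, Category.id_comp]
      exact ((eqToHom_trans _ _).trans (eqToHom_refl _ rfl)).symm
    · apply fp_hom_ext
      · show x.map (𝟙 _) ≫ i₁.hom = 𝟙 _ ≫ i₁.hom
        simp
      · show y.map (𝟙 _) ≫ i₂.hom = (i₁ ≪≫ i₂.symm).inv ≫ i₁.hom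
        simp

end Magic

end Groth.Agent.Stk19
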