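import Groth.Agent.Stk19.Fp2
import Mathlib.CategoryTheory.Limits.Shapes.BinaryProducts
import Mathlib.CategoryTheory.Limits.Shapes.Pullback.HasPullback

/-! Representable categories over the base and representable 1-morphisms. -/

set_option autoImplicit false
set_option backward.isDefEq.respectTransparency false
set_option backward.isDefEq.respectTransparency.types false

universe v₉ u₉ v₈ u₈ v₇ u₇ v₆ u₆ v₅ u₅ v₄ u₄ v₃ u₃ v₂ u₂ v u

open CategoryTheory CategoryTheory.Limits FibCat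

namespace Groth.Agent.Stk19

variable {C : Type u} [Category.{v} C]
variable {𝒳 : BasedCategory.{v₂, u₂} C} {𝒴 : BasedCategory.{v₃, u₃} C} {𝒵 : BasedCategory.{v₄, u₄} C}
  {𝒳' : BasedCategory.{v₅, u₅} C} {𝒴' : BasedCategory.{v₆, u₆} C}

theorem isRepresentable_of_equiv {E : 𝒳 ⥤ᵇ 𝒴} (hE : IsEquivOver E) (h : FibCat.IsRepresentable 𝒴) :
    FibCat.IsRepresentable 𝒳 := by
  obtain ⟨U, F, hF⟩ := h
  exact ⟨U, BasedFunctor.comp E F, isEquivOver_comp hE hF⟩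

theorem isRepresentable_of_equiv' {E : 𝒳 ⥤ᵇ 𝒴} (hE : IsEquivOver E) (h : FibCat.IsRepresentable 𝒳) :
    FibCat.IsRepresentable 𝒴 := by
  obtain ⟨G, hG, -, -⟩ := exists_inverse hE
  exact isRepresentable_of_equiv hG h

theorem isRepresentable_overCat (U : C) : FibCat.IsRepresentable (overCat U) :=
  ⟨U, BasedFunctor.id _, isEquivOver_id _⟩

theorem id_full (𝒳 : BasedCategory.{v₂, u₂} C) : (BasedFunctor.id 𝒳).toFunctor.Full :=
  inferInstanceAs (𝟭 𝒳.obj : 𝒳.obj ⥤ 𝒳.obj).Full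

theorem id_faithful (𝒳 : BasedCategory.{v₂, u₂} C) : (BasedFunctor.id 𝒳).toFunctor.Faithful :=
  inferInstanceAs (𝟭 𝒳.obj : 𝒳.obj ⥤ 𝒳.obj).Faithful

attribute [local instance] id_full id_faithful

/-- Comparison of base changes along an equivalence of squares. -/
theorem exists_baseChange_equiv {f : 𝒳 ⥤ᵇ 𝒴} {f' : 𝒳' ⥤ᵇ 𝒴'} {a : 𝒳' ⥤ᵇ 𝒳} {b : 𝒴' ⥤ᵇ 𝒴}
    (ha : IsEquivOver a) (hb : IsEquivOver b) (e : BasedFunctor.comp f' b ≅ BasedFunctor.comp a f)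
    {U : BasedCategory.{v₄, u₄} C} (y : U ⥤ᵇ 𝒴') :
    ∃ E : fp y f' ⥤ᵇ fp (BasedFunctor.comp y b) f, IsEquivOver E ∧
      BasedFunctor.comp E (fpFst (BasedFunctor.comp y b) f) = fpFst y f' := by
  obtain ⟨h1, h2, -⟩ := EqvData.of_isEquivOver hb
  exact ⟨fpMap (F' := BasedFunctor.comp y b) (G' := f) (BasedFunctor.id U) a b (Iso.refl _) e,
    isEquivOver_fpMap _ _ _ _ _ (isEquivOver_id U) ha, rfl⟩

theorem exists_factor_inverse {U : BasedCategory.{v₄, u₄} C} {b : 𝒴' ⥤ᵇ 𝒴} (hb : IsEquivOver b)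
    (y : U ⥤ᵇ 𝒴) : ∃ y' : U ⥤ᵇ 𝒴', Nonempty (BasedFunctor.comp y' b ≅ y) := by
  obtain ⟨b', -, -, ⟨c⟩⟩ := exists_inverse hb
  exact ⟨BasedFunctor.comp y b', ⟨isoMk (F := BasedFunctor.comp (BasedFunctor.comp y b') b) (G := y)
    (fun u => appIso c (y.obj u)) (fun u => based_app_vert c.hom (y.obj u)) (fun φ => c.hom.toNatTrans.naturality _)⟩⟩

theorem isRepresentable1_iff_of_equiv {f : 𝒳 ⥤ᵇ 𝒴} {f' : 𝒳' ⥤ᵇ 𝒴'} {a : 𝒳' ⥤ᵇ 𝒳} {b : 𝒴' ⥤ᵇ 𝒴}
    (ha : IsEquivOver a) (hb : IsEquivOver b) (e : BasedFunctor.comp f' b ≅ BasedFunctor.comp a f) :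
    IsRepresentable1 f ↔ IsRepresentable1 f' := by
  constructor
  · intro h U y
    obtain ⟨E, hE, -⟩ := exists_baseChange_equiv ha hb e y
    exact isRepresentable_of_equiv hE (h U _)
  · intro h U y
    obtain ⟨y', ⟨i⟩⟩ := exists_factor_inverse hb y
    obtain ⟨E, hE, -⟩ := exists_baseChange_equiv ha hb e y'
    obtain ⟨E', hE', -, -⟩ := exists_congr (G := f) i (Iso.refl f)
    exact isRepresentable_of_equiv' hE' (isRepresentable_of_equiv' hE (h U y'))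

theorem isRepresentable1_comp {f : 𝒳 ⥤ᵇ 𝒴} {g : 𝒴 ⥤ᵇ 𝒵} (hf : IsRepresentable1 f) (hg : IsRepresentable1 g) :
    IsRepresentable1 (BasedFunctor.comp f g) := by
  intro U y
  obtain ⟨V, j, hj⟩ := hg U y
  obtain ⟨e, he, -, -⟩ := exists_inverse hj
  refine isRepresentable_of_equiv' (isEquivOver_fpCompFactor y f g) (isRepresentable_of_equiv'
    (E := fpMap (F := BasedFunctor.comp e (fpSnd y g)) (G := f) (F' := fpSnd y g) (G' := f) e
      (BasedFunctor.id 𝒳) (BasedFunctor.id 𝒴) (Iso.refl _) (Iso.refl _)) ?_ (hf V _))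
  exact isEquivOver_fpMap _ _ _ _ _ he (isEquivOver_id 𝒳)

theorem isRepresentable1_fpFst {f : 𝒳 ⥤ᵇ 𝒴} (g : 𝒵 ⥤ᵇ 𝒴) (hf : IsRepresentable1 f) :
    IsRepresentable1 (fpFst g f) := fun U y =>
  isRepresentable_of_equiv (isEquivOver_fpPaste y g f) (hf U _)

section Product

variable (f₁ : 𝒳 ⥤ᵇ 𝒴) (f₂ : 𝒳' ⥤ᵇ 𝒴')

/-- The product over the base of two functors, for any choice of filling 2-isomorphism. -/
abbrev prodOver (e : BasedFunctor.comp (BasedFunctor.comp (fpFst (toSelf 𝒳) (toSelf 𝒳')) f₁) (toSelf 𝒴) ≅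
      BasedFunctor.comp (BasedFunctor.comp (fpSnd (toSelf 𝒳) (toSelf 𝒳')) f₂) (toSelf 𝒴')) :
    fp (toSelf 𝒳) (toSelf 𝒳') ⥤ᵇ fp (toSelf 𝒴) (toSelf 𝒴') :=
  fpLift (BasedFunctor.comp (fpFst (toSelf 𝒳) (toSelf 𝒳')) f₁)
    (BasedFunctor.comp (fpSnd (toSelf 𝒳) (toSelf 𝒳')) f₂) e

/-- The tautological 2-isomorphism between functors to the base over itself. -/
def selfIso {𝒲 : BasedCategory.{v₂, u₂} C} (P Q : 𝒲 ⥤ᵇ selfOver C) : P ≅ Q :=
  isoMk (fun a => eqToIso ((P.w_obj a).trans (Q.w_obj a).symm))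
    (fun a => (vert_iff _ _).2 ⟨rfl, (P.w_obj a).trans (Q.w_obj a).symm, rfl⟩)
    (fun {a b} φ => by
      have h1 : P.map φ = eqToHom (P.w_obj a) ≫ 𝒲.p.map φ ≫ eqToHom (P.w_obj b).symm := based_map P φ
      have h2 : Q.map φ = eqToHom (Q.w_obj a) ≫ 𝒲.p.map φ ≫ eqToHom (Q.w_obj b).symm := based_map Q φ
      simp [h1, h2])

theorem selfIso_unique {𝒲 : BasedCategory.{v₂, u₂} C} {P Q : 𝒲 ⥤ᵇ selfOver C} (e e' : P ≅ Q) (a : 𝒲.obj) :
    e.hom.toNatTrans.app a = e'.hom.toNatTrans.app a := by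
  have h1 := based_app_map e.hom a
  have h2 := based_app_map e'.hom a
  exact h1.trans h2.symm

variable {f₁ f₂}

theorem prod_iso_eq {A : BasedCategory.{v₂, u₂} C} {B : BasedCategory.{v₃, u₃} C}
    (x : (fp (toSelf A) (toSelf B)).obj) :
    x.obj.iso.hom = eqToHom (fp_base_eq x).symm :=
  fp_iso_map x

end Product

end Groth.Agent.Stk19
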